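import Mathlib
import Cfsg.Agent.Lib.Helper73.TwoGroup

/-!
# 2-groups of maximal class (Taussky's theorem)

Helper library by helper91.  Main results:
* `commHom` : for an abelian subgroup `C` normalized by `x`, the map `a ↦ ⁅a, x⁆` is a hom `C →* X`.
* `commutator_eq_range_commHom`, `commutator_top_eq_map_commHom` (when `C` has index `2`, `x ∉ C`).
* `exists_cyclic_index_two` : a finite `2`-group with `|X : X'| = 4` has a cyclic subgroup of index 2.
* `index_commutator_of_class` : order `2^n`, class `n-1` (`n ≥ 3`) gives `|X : X'| = 4`.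
* `class_of_index_commutator` : order `2^n` (`n ≥ 2`), `|X : X'| = 4` gives class `n-1`.
-/

set_option autoImplicit false

namespace Cfsg.Agent.Lib.Helper91

open scoped commutatorElement

section CommHom

variable {X : Type*} [Group X]

/-- For an abelian subgroup `C` normalized by `x`, `a ↦ a * x * a⁻¹ * x⁻¹` is a homomorphism. -/
noncomputable def commHom (C : Subgroup X) (x : X)
    (hab : ∀ a ∈ C, ∀ b ∈ C, a * b = b * a) (hx : ∀ a ∈ C, x * a * x⁻¹ ∈ C) : C →* X :=
  MonoidHom.mk' (fun a => (a : X) * x * (a : X)⁻¹ * x⁻¹) (by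
    intro a b
    have ha' : x * (a : X)⁻¹ * x⁻¹ ∈ C := hx _ (C.inv_mem a.2)
    have hb' : x * (b : X)⁻¹ * x⁻¹ ∈ C := hx _ (C.inv_mem b.2)
    have h1 : ((b : X) * (x * (b : X)⁻¹ * x⁻¹)) * (x * (a : X)⁻¹ * x⁻¹)
        = (x * (a : X)⁻¹ * x⁻¹) * ((b : X) * (x * (b : X)⁻¹ * x⁻¹)) :=
      hab _ (C.mul_mem b.2 hb') _ ha'
    have e1 : ((a * b : C) : X) * x * ((a * b : C) : X)⁻¹ * x⁻¹
        = (a : X) * (((b : X) * (x * (b : X)⁻¹ * x⁻¹)) * (x * (a : X)⁻¹ * x⁻¹)) := by
      rw [Subgroup.coe_mul]; group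
    have e2 : (a : X) * x * (a : X)⁻¹ * x⁻¹ * ((b : X) * x * (b : X)⁻¹ * x⁻¹)
        = (a : X) * ((x * (a : X)⁻¹ * x⁻¹) * ((b : X) * (x * (b : X)⁻¹ * x⁻¹))) := by
      group
    rw [e1, e2, h1])

variable (C : Subgroup X) (x : X)
  (hab : ∀ a ∈ C, ∀ b ∈ C, a * b = b * a) (hx : ∀ a ∈ C, x * a * x⁻¹ ∈ C)

theorem commHom_apply (a : C) : commHom C x hab hx a = ⁅(a : X), x⁆ := rfl

theorem mem_ker_commHom (a : C) : a ∈ (commHom C x hab hx).ker ↔ (a : X) * x = x * a := by
  rw [MonoidHom.mem_ker, commHom_apply, commutatorElement_eq_one_iff_mul_comm]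

theorem commHom_mem (a : C) : commHom C x hab hx a ∈ C := by
  rw [commHom_apply, commutatorElement_def]
  have : (a : X) * x * (a : X)⁻¹ * x⁻¹ = (a : X) * (x * (a : X)⁻¹ * x⁻¹) := by group
  rw [this]
  exact C.mul_mem a.2 (hx _ (C.inv_mem a.2))

theorem range_commHom_le : (commHom C x hab hx).range ≤ C := by
  rintro _ ⟨a, rfl⟩
  exact commHom_mem C x hab hx a

include hab hx in
/-- `⁅h, b * x⁆ = ⁅h, x⁆` for `h, b ∈ C`. -/
theorem comm_mul_right_eq {h b : X} (hh : h ∈ C) (hb : b ∈ C) : ⁅h, b * x⁆ = ⁅h, x⁆ := by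
  have h' : x * h⁻¹ * x⁻¹ ∈ C := hx _ (C.inv_mem hh)
  have hc : b * (x * h⁻¹ * x⁻¹) = (x * h⁻¹ * x⁻¹) * b := hab _ hb _ h'
  rw [commutatorElement_def, commutatorElement_def]
  have e1 : h * (b * x) * h⁻¹ * (b * x)⁻¹ = h * (b * (x * h⁻¹ * x⁻¹)) * b⁻¹ := by group
  rw [e1, hc]; group

variable (hidx : C.index = 2) (hxC : x ∉ C)

include hidx hxC in
theorem exists_eq_or_eq_mul (g : X) : g ∈ C ∨ ∃ b ∈ C, g = b * x := by
  by_cases hg : g ∈ C
  · exact Or.inl hg
  · right
    refine ⟨g * x⁻¹, ?_, by group⟩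
    rw [Subgroup.mul_mem_iff_of_index_two hidx]
    constructor
    · intro h; exact absurd h hg
    · intro h; exact absurd (by simpa using C.inv_mem h) hxC

include hidx hxC in
/-- For `H ≤ C`: `⁅H, ⊤⁆ = ψ(H)`. -/
theorem commutator_top_eq_map_commHom (H : Subgroup X) (hH : H ≤ C) :
    ⁅H, (⊤ : Subgroup X)⁆ = (H.subgroupOf C).map (commHom C x hab hx) := by
  apply le_antisymm
  · rw [Subgroup.commutator_le]
    intro h hh g _
    rcases exists_eq_or_eq_mul C x hidx hxC g with hg | ⟨b, hb, rfl⟩
    · have : ⁅h, g⁆ = 1 := by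
        rw [commutatorElement_eq_one_iff_mul_comm]; exact hab _ (hH hh) _ hg
      rw [this]; exact one_mem _
    · rw [comm_mul_right_eq C x hab hx (hH hh) hb]
      exact ⟨⟨h, hH hh⟩, by simpa [Subgroup.mem_subgroupOf] using hh, rfl⟩
  · rintro _ ⟨a, ha, rfl⟩
    rw [commHom_apply]
    exact Subgroup.commutator_mem_commutator (by simpa [Subgroup.mem_subgroupOf] using ha)
      (Subgroup.mem_top x)

include hidx hxC in
/-- `X' = ψ(C)`. -/
theorem commutator_eq_range_commHom :
    commutator X = (commHom C x hab hx).range := by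
  apply le_antisymm
  · rw [commutator_def, Subgroup.commutator_le]
    intro g _ h _
    have key : ∀ b ∈ C, ∀ h : X, ⁅b, h⁆ ∈ (commHom C x hab hx).range := by
      intro b hb h
      rcases exists_eq_or_eq_mul C x hidx hxC h with hh | ⟨d, hd, rfl⟩
      · have : ⁅b, h⁆ = 1 := by
          rw [commutatorElement_eq_one_iff_mul_comm]; exact hab _ hb _ hh
        rw [this]; exact one_mem _
      · rw [comm_mul_right_eq C x hab hx hb hd]
        exact ⟨⟨b, hb⟩, rfl⟩
    rcases exists_eq_or_eq_mul C x hidx hxC g with hg | ⟨b, hb, rfl⟩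
    · exact key g hg h
    · rcases exists_eq_or_eq_mul C x hidx hxC h with hh | ⟨d, hd, rfl⟩
      · rw [← commutatorElement_inv]
        exact Subgroup.inv_mem _ (key h hh _)
      · -- ⁅b x, d x⁆ = ⁅d b⁻¹, x⁆⁻¹
        have he : d * b⁻¹ ∈ C := C.mul_mem hd (C.inv_mem hb)
        have he' : x * (d * b⁻¹) * x⁻¹ ∈ C := hx _ he
        have hc : b * (x * (d * b⁻¹) * x⁻¹) = (x * (d * b⁻¹) * x⁻¹) * b := hab _ hb _ he'
        have e1 : ⁅b * x, d * x⁆ = (b * (x * (d * b⁻¹) * x⁻¹)) * d⁻¹ := by
          rw [commutatorElement_def]; group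
        have e2 : (x * (d * b⁻¹) * x⁻¹) * b * d⁻¹ = (⁅d * b⁻¹, x⁆)⁻¹ := by
          rw [commutatorElement_def]; group
        rw [e1, hc, e2]
        exact Subgroup.inv_mem _ ⟨⟨d * b⁻¹, he⟩, rfl⟩
  · rintro _ ⟨a, rfl⟩
    rw [commHom_apply, commutator_def]
    exact Subgroup.commutator_mem_commutator (Subgroup.mem_top _) (Subgroup.mem_top _)

end CommHom

section Card

variable {G G' : Type*} [Group G] [Group G']

/-- `|f(K)| * |ker f ∩ K| = |K|`. -/
theorem card_map_mul_card_ker_subgroupOf [Finite G] (f : G →* G') (K : Subgroup G) :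
    Nat.card (K.map f) * Nat.card (f.ker.subgroupOf K) = Nat.card K := by
  have h1 := Subgroup.card_mul_index (f.domRestrict K).ker
  rw [Subgroup.index_ker, MonoidHom.domRestrict_range, MonoidHom.ker_domRestrict] at h1
  rw [mul_comm]; exact h1

theorem card_range_mul_card_ker [Finite G] (f : G →* G') :
    Nat.card f.range * Nat.card f.ker = Nat.card G := by
  have h1 := Subgroup.card_mul_index f.ker
  rw [Subgroup.index_ker] at h1
  rw [mul_comm]; exact h1

end Card

section Taussky

universe u

theorem zpowers_normal_of_mem_center {X : Type*} [Group X] {z : X} (hz : z ∈ Subgroup.center X) :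
    (Subgroup.zpowers z).Normal := by
  constructor
  intro a ha g
  have hac : a ∈ Subgroup.center X := (Subgroup.zpowers_le.mpr hz) ha
  rw [Subgroup.mem_center_iff] at hac
  have : g * a * g⁻¹ = a := by
    rw [hac g, mul_assoc, mul_inv_cancel, mul_one]
  rw [this]; exact ha

theorem zpow_eq_one_or_self_of_sq {X : Type*} [Group X] {t : X} (ht : t ^ 2 = 1) (k : ℤ) :
    t ^ k = 1 ∨ t ^ k = t := by
  rcases Int.even_or_odd' k with ⟨r, hr | hr⟩
  · left
    rw [hr, zpow_mul, zpow_ofNat, ht, one_zpow]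
  · right
    rw [hr, zpow_add, zpow_mul, zpow_ofNat, ht, one_zpow, one_mul, zpow_one]

theorem card_four_case {X : Type*} [Group X] [Finite X] (h4 : Nat.card X = 4) :
    ∃ C : Subgroup X, IsCyclic C ∧ C.index = 2 := by
  have : Fact (Nat.Prime 2) := ⟨Nat.prime_two⟩
  obtain ⟨g, hg⟩ := exists_prime_orderOf_dvd_card' (G := X) 2 (by rw [h4]; norm_num)
  refine ⟨Subgroup.zpowers g, inferInstance, ?_⟩
  have h1 := Subgroup.card_mul_index (Subgroup.zpowers g)
  rw [Nat.card_zpowers, hg, h4] at h1
  omega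

theorem card_eight_case {X : Type*} [Group X] [Finite X] (h8 : Nat.card X = 8)
    (hna : ∃ a b : X, a * b ≠ b * a) : ∃ C : Subgroup X, IsCyclic C ∧ C.index = 2 := by
  obtain ⟨g, hg⟩ : ∃ g : X, g ^ 2 ≠ 1 := by
    by_contra hcon
    rw [not_exists] at hcon
    obtain ⟨a, b, hab⟩ := hna
    exact hab (Cfsg.Agent.Lib.Helper73.comm_of_sq_eq_one (fun x => not_not.mp (hcon x)) a b)
  have hdvd : orderOf g ∣ 8 := h8 ▸ orderOf_dvd_natCard g
  have hmem : orderOf g ∈ Nat.divisors 8 := Nat.mem_divisors.mpr ⟨hdvd, by norm_num⟩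
  have hdiv : Nat.divisors 8 = {1, 2, 4, 8} := by decide
  rw [hdiv] at hmem
  simp only [Finset.mem_insert, Finset.mem_singleton] at hmem
  rcases hmem with h | h | h | h
  · exfalso; apply hg; rw [orderOf_eq_one_iff.mp h, one_pow]
  · exfalso; apply hg; rw [← h]; exact pow_orderOf_eq_one g
  · refine ⟨Subgroup.zpowers g, inferInstance, ?_⟩
    have h1 := Subgroup.card_mul_index (Subgroup.zpowers g)
    rw [Nat.card_zpowers, h, h8] at h1
    omega
  · exfalso
    obtain ⟨a, b, hab⟩ := hna
    have htop : Subgroup.zpowers g = ⊤ := by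
      apply Subgroup.eq_top_of_card_eq
      rw [Nat.card_zpowers, h, h8]
    have ha : a ∈ Subgroup.zpowers g := htop ▸ Subgroup.mem_top a
    have hb : b ∈ Subgroup.zpowers g := htop ▸ Subgroup.mem_top b
    obtain ⟨i, rfl⟩ := ha
    obtain ⟨j, rfl⟩ := hb
    exact hab (by rw [← zpow_add, ← zpow_add, add_comm])

theorem exists_noncomm_of_commutator_ne_bot {X : Type*} [Group X] (h : commutator X ≠ ⊥) :
    ∃ a b : X, a * b ≠ b * a := by
  by_contra hcon
  apply h
  rw [eq_bot_iff, commutator_def, Subgroup.commutator_le]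
  intro a _ b _
  rw [Subgroup.mem_bot, commutatorElement_eq_one_iff_mul_comm]
  by_contra hab
  exact hcon ⟨a, b, hab⟩

/-- **Taussky**: a finite `2`-group with `|X : X'| = 4` has a cyclic subgroup of index `2`. -/
theorem exists_cyclic_index_two_aux (n : ℕ) :
    ∀ {X : Type u} [Group X] [Finite X], Nat.card X = n → IsPGroup 2 X →
      (commutator X).index = 4 → ∃ C : Subgroup X, IsCyclic C ∧ C.index = 2 := by
  induction n using Nat.strong_induction_on with
  | _ n ih =>
  intro X _ _ hn h2 hidx
  have hf2 : Fact (Nat.Prime 2) := ⟨Nat.prime_two⟩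
  by_cases hbot : commutator X = ⊥
  · have h4 : Nat.card X = 4 := by
      rw [hbot, Subgroup.index_bot] at hidx; exact hidx
    exact card_four_case h4
  have hna := exists_noncomm_of_commutator_ne_bot hbot
  by_cases h8 : Nat.card X = 8
  · exact card_eight_case h8 hna
  -- 16 ∣ card X
  have hcardX : Nat.card (commutator X) * 4 = Nat.card X := by
    rw [← hidx]; exact Subgroup.card_mul_index _
  have h16 : 16 ∣ Nat.card X := by
    obtain ⟨k, hk⟩ := IsPGroup.iff_card.mp (h2.to_subgroup (commutator X))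
    have hk1 : k ≠ 0 := by
      intro h0
      rw [h0, pow_zero] at hk
      exact hbot (Subgroup.card_eq_one.mp hk)
    have hk2 : k ≠ 1 := by
      intro h1
      rw [h1, pow_one] at hk
      rw [hk] at hcardX
      omega
    obtain ⟨j, rfl⟩ : ∃ j, k = j + 2 := ⟨k - 2, by omega⟩
    rw [← hcardX, hk, pow_add]
    exact ⟨2 ^ j, by ring⟩
  -- central involution in X'
  obtain ⟨z, hzX', hzZ, hz2⟩ : ∃ z : X, z ∈ commutator X ∧ z ∈ Subgroup.center X ∧ orderOf z = 2 := by
    obtain ⟨w, hwX', hw1, hwZ⟩ :=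
      Cfsg.Agent.Lib.Helper73.exists_ne_one_mem_center_of_normal' h2 (commutator X) hbot
    have hW : (commutator X ⊓ Subgroup.center X) ≠ ⊥ := by
      intro h
      have : w ∈ (⊥ : Subgroup X) := h ▸ ⟨hwX', hwZ⟩
      exact hw1 (Subgroup.mem_bot.mp this)
    have hWp : IsPGroup 2 (commutator X ⊓ Subgroup.center X : Subgroup X) := h2.to_subgroup _
    have hdvd : 2 ∣ Nat.card (commutator X ⊓ Subgroup.center X : Subgroup X) := by
      obtain ⟨k, hk⟩ := IsPGroup.iff_card.mp hWp
      rw [hk]
      cases k with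
      | zero => rw [pow_zero] at hk; exact absurd (Subgroup.card_eq_one.mp hk) hW
      | succ k => exact dvd_pow_self 2 (Nat.succ_ne_zero k)
    obtain ⟨v, hv⟩ := exists_prime_orderOf_dvd_card' 2 hdvd
    refine ⟨(v : X), v.2.1, v.2.2, ?_⟩
    rw [Subgroup.orderOf_coe]; exact hv
  have hzcomm : ∀ g : X, Commute g z := fun g => (Subgroup.mem_center_iff.mp hzZ g)
  have hzsq : z ^ 2 = 1 := by rw [← hz2]; exact pow_orderOf_eq_one z
  have hz1 : z ≠ 1 := by
    intro h; rw [h, orderOf_one] at hz2; omega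
  have hNn : (Subgroup.zpowers z).Normal := zpowers_normal_of_mem_center hzZ
  have hNcard : Nat.card (Subgroup.zpowers z) = 2 := by rw [Nat.card_zpowers, hz2]
  have hNX' : Subgroup.zpowers z ≤ commutator X := Subgroup.zpowers_le.mpr hzX'
  -- the quotient
  have hYcard : Nat.card (X ⧸ Subgroup.zpowers z) * 2 = Nat.card X := by
    rw [← hNcard]; exact (Subgroup.card_eq_card_quotient_mul_card_subgroup _).symm
  have hsurj := QuotientGroup.mk'_surjective (Subgroup.zpowers z)
  have hYidx : (commutator (X ⧸ Subgroup.zpowers z)).index = 4 := by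
    have : commutator (X ⧸ Subgroup.zpowers z)
        = (commutator X).map (QuotientGroup.mk' (Subgroup.zpowers z)) := by
      rw [commutator_def, commutator_def, Subgroup.map_commutator,
        Subgroup.map_top_of_surjective _ hsurj]
    rw [this, Subgroup.index_map_eq _ hsurj (by rw [QuotientGroup.ker_mk']; exact hNX')]
    exact hidx
  have hlt : Nat.card (X ⧸ Subgroup.zpowers z) < n := by
    have : 0 < Nat.card (X ⧸ Subgroup.zpowers z) := Nat.card_pos
    omega
  obtain ⟨C', hC'cyc, hC'idx⟩ := ih _ hlt rfl (h2.to_quotient _) hYidx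
  obtain ⟨c'', hc''gen⟩ := hC'cyc.exists_generator
  obtain ⟨c, hc⟩ := hsurj (c'' : X ⧸ Subgroup.zpowers z)
  have hCidx : (C'.comap (QuotientGroup.mk' (Subgroup.zpowers z))).index = 2 := by
    rw [Subgroup.index_comap_of_surjective _ hsurj]; exact hC'idx
  have hzC : z ∈ C'.comap (QuotientGroup.mk' (Subgroup.zpowers z)) := by
    rw [Subgroup.mem_comap]
    have : QuotientGroup.mk' (Subgroup.zpowers z) z = 1 := by
      rw [QuotientGroup.mk'_apply, QuotientGroup.eq_one_iff]; exact Subgroup.mem_zpowers z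
    rw [this]; exact one_mem _
  have hcC : c ∈ C'.comap (QuotientGroup.mk' (Subgroup.zpowers z)) := by
    rw [Subgroup.mem_comap, hc]; exact c''.2
  have hCelem : ∀ a ∈ C'.comap (QuotientGroup.mk' (Subgroup.zpowers z)),
      ∃ k e : ℤ, a = c ^ k * z ^ e := by
    intro a ha
    obtain ⟨k, hk⟩ := hc''gen ⟨QuotientGroup.mk' (Subgroup.zpowers z) a, ha⟩
    have hk' : (QuotientGroup.mk' (Subgroup.zpowers z) c) ^ k
        = QuotientGroup.mk' (Subgroup.zpowers z) a := by
      have := congrArg Subtype.val hk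
      simp only [Subgroup.coe_zpow] at this
      rw [hc]; exact this
    rw [← map_zpow, QuotientGroup.mk'_apply, QuotientGroup.mk'_apply, QuotientGroup.eq] at hk'
    obtain ⟨e, he⟩ := hk'
    refine ⟨k, e, ?_⟩
    simp only at he
    rw [he]; group
  by_cases hzc : z ∈ Subgroup.zpowers c
  · refine ⟨C'.comap (QuotientGroup.mk' (Subgroup.zpowers z)), ?_, hCidx⟩
    have : C'.comap (QuotientGroup.mk' (Subgroup.zpowers z)) = Subgroup.zpowers c := by
      apply le_antisymm
      · intro a ha
        obtain ⟨k, e, rfl⟩ := hCelem a ha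
        exact Subgroup.mul_mem _ (Subgroup.zpow_mem_zpowers c k) (Subgroup.zpow_mem _ hzc e)
      · exact Subgroup.zpowers_le.mpr hcC
    rw [this]; infer_instance
  · exfalso
    set C := C'.comap (QuotientGroup.mk' (Subgroup.zpowers z)) with hCdef
    -- 4 ∣ orderOf c
    have hC'card : Nat.card C' = orderOf (c'' : X ⧸ Subgroup.zpowers z) := by
      rw [Subgroup.orderOf_coe]
      exact (orderOf_eq_card_of_forall_mem_zpowers hc''gen).symm
    have h4o : 4 ∣ orderOf c := by
      have h1 := Subgroup.card_mul_index C'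
      rw [hC'idx, hC'card] at h1
      have h2' : orderOf (c'' : X ⧸ Subgroup.zpowers z) ∣ orderOf c := by
        rw [← hc]; exact orderOf_map_dvd _ c
      have h3 : 4 ∣ orderOf (c'' : X ⧸ Subgroup.zpowers z) := by
        obtain ⟨q, hq⟩ := h16
        exact ⟨q, by omega⟩
      exact dvd_trans h3 h2'
    obtain ⟨m, hm⟩ := h4o
    have hopos : 0 < orderOf c := orderOf_pos c
    have hmpos : 0 < m := by
      rcases Nat.eq_zero_or_pos m with h | h
      · rw [h] at hm; omega
      · exact h
    -- C abelian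
    have hab : ∀ a ∈ C, ∀ b ∈ C, a * b = b * a := by
      intro a ha b hb
      obtain ⟨k, e, rfl⟩ := hCelem a ha
      obtain ⟨l, f, rfl⟩ := hCelem b hb
      have h1 : Commute (c ^ k) (c ^ l) := (Commute.refl c).zpow_zpow k l
      have h2' : Commute (c ^ k) (z ^ f) := (hzcomm _).zpow_right f
      have h3 : Commute (z ^ e) (c ^ l) := ((hzcomm _).zpow_right e).symm
      have h4 : Commute (z ^ e) (z ^ f) := (Commute.refl z).zpow_zpow e f
      exact (Commute.mul_left (Commute.mul_right h1 h2') (Commute.mul_right h3 h4)).eq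
    have hCn : C.Normal := Subgroup.normal_of_index_eq_two hCidx
    obtain ⟨x, hxC⟩ : ∃ x : X, x ∉ C := by
      by_contra hcon
      rw [not_exists] at hcon
      have : C = ⊤ := (Subgroup.eq_top_iff' C).mpr (fun x => not_not.mp (hcon x))
      rw [this, Subgroup.index_top] at hCidx
      omega
    have hx : ∀ a ∈ C, x * a * x⁻¹ ∈ C := fun a ha => hCn.conj_mem a ha x
    -- the central involution t
    have ht1 : c ^ (2 * m) ≠ 1 := pow_ne_one_of_lt_orderOf (by omega) (by omega)
    have htsq : (c ^ (2 * m)) ^ 2 = 1 := by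
      rw [← pow_mul, show 2 * m * 2 = orderOf c by omega]; exact pow_orderOf_eq_one c
    obtain ⟨k, e, hke⟩ := hCelem _ (hx c hcC)
    have hze : (z ^ e) ^ 2 = 1 := by
      rw [← zpow_natCast, ← zpow_mul, mul_comm, zpow_mul, zpow_natCast, hzsq, one_zpow]
    have hc2 : x * c ^ 2 * x⁻¹ = (c ^ k) ^ 2 := by
      rw [← conj_pow, hke]
      have hcomm : Commute (c ^ k) (z ^ e) := (hzcomm _).zpow_right e
      rw [hcomm.mul_pow, hze, mul_one]
    have htconj : x * c ^ (2 * m) * x⁻¹ = (c ^ (2 * m)) ^ k := by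
      rw [pow_mul, ← conj_pow, hc2, ← zpow_natCast (c ^ 2) m, ← zpow_natCast ((c ^ k) ^ 2) m,
        ← zpow_natCast c 2, ← zpow_natCast (c ^ k) 2]
      repeat rw [← zpow_mul]
      congr 1; ring
    have htcomm : x * c ^ (2 * m) * x⁻¹ = c ^ (2 * m) := by
      rcases zpow_eq_one_or_self_of_sq htsq k with h | h
      · exfalso
        rw [h] at htconj
        apply ht1
        have : c ^ (2 * m) = x⁻¹ * (x * c ^ (2 * m) * x⁻¹) * x := by group
        rw [this, htconj]; group
      · rw [htconj, h]
    have htC : c ^ (2 * m) ∈ C := Subgroup.pow_mem _ hcC _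
    -- kernel of ψ has order 2
    have hker2 : Nat.card (commHom C x hab hx).ker = 2 := by
      have h1 := card_range_mul_card_ker (commHom C x hab hx)
      rw [← commutator_eq_range_commHom C x hab hx hCidx hxC] at h1
      have h2' := Subgroup.card_mul_index C
      rw [hCidx] at h2'
      have hpos : 0 < Nat.card (commutator X) := Nat.card_pos
      have : Nat.card (commutator X) * Nat.card (commHom C x hab hx).ker
          = Nat.card (commutator X) * 2 := by
        rw [h1]; omega
      exact Nat.eq_of_mul_eq_mul_left hpos this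
    have hzker : (⟨z, hzC⟩ : C) ∈ (commHom C x hab hx).ker := by
      rw [mem_ker_commHom]; exact ((hzcomm x).eq).symm
    have htker : (⟨c ^ (2 * m), htC⟩ : C) ∈ (commHom C x hab hx).ker := by
      rw [mem_ker_commHom]
      show c ^ (2 * m) * x = x * c ^ (2 * m)
      have : c ^ (2 * m) * x = (x * c ^ (2 * m) * x⁻¹) * x := by rw [htcomm]
      rw [this]; group
    have hzo : orderOf (⟨z, hzC⟩ : C) = 2 := by
      rw [← Subgroup.orderOf_coe]; exact hz2
    have hkereq : Subgroup.zpowers (⟨z, hzC⟩ : C) = (commHom C x hab hx).ker := by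
      apply Subgroup.eq_of_le_of_card_ge
      · exact Subgroup.zpowers_le.mpr hzker
      · rw [hker2, Nat.card_zpowers, hzo]
    rw [← hkereq] at htker
    obtain ⟨j, hj⟩ := htker
    have hj' : z ^ j = c ^ (2 * m) := by
      have := congrArg Subtype.val hj
      simpa using this
    rcases zpow_eq_one_or_self_of_sq hzsq j with h | h
    · exact ht1 (by rw [← hj', h])
    · apply hzc
      rw [← h, hj']
      exact Subgroup.pow_mem _ (Subgroup.mem_zpowers c) _

theorem exists_cyclic_index_two {X : Type u} [Group X] [Finite X] (h2 : IsPGroup 2 X)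
    (hidx : (commutator X).index = 4) : ∃ C : Subgroup X, IsCyclic C ∧ C.index = 2 :=
  exists_cyclic_index_two_aux _ rfl h2 hidx

end Taussky

section LowerCentral

variable {X : Type*} [Group X]

theorem commutator_le_of_index_two {K : Subgroup X} (h : K.index = 2) : commutator X ≤ K := by
  have hn : K.Normal := Subgroup.normal_of_index_eq_two h
  rw [← Subgroup.Normal.quotient_commutative_iff_commutator_le]
  have : Fact (Nat.Prime 2) := ⟨Nat.prime_two⟩
  have hcard : Nat.card (X ⧸ K) = 2 := by rw [← Subgroup.index_eq_card]; exact h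
  have hcyc : IsCyclic (X ⧸ K) := isCyclic_of_prime_card hcard
  exact ⟨⟨fun a b => (IsCyclic.commGroup (α := X ⧸ K)).mul_comm a b⟩⟩

/-- If the lower central series stabilizes at `i`, it is constant from then on. -/
theorem lowerCentralSeries_const_of_eq {i : ℕ}
    (h : (⊤ : Subgroup X).lowerCentralSeries (i + 1) = (⊤ : Subgroup X).lowerCentralSeries i) :
    ∀ k, (⊤ : Subgroup X).lowerCentralSeries (i + k) = (⊤ : Subgroup X).lowerCentralSeries i := by
  intro k
  induction k with
  | zero => rfl
  | succ k ih =>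
    rw [← add_assoc, Subgroup.lowerCentralSeries_succ, ih, ← Subgroup.lowerCentralSeries_succ, h]

/-- In a nilpotent group the lower central series is strictly decreasing below the class. -/
theorem lowerCentralSeries_succ_ne [Group.IsNilpotent X] {i : ℕ} (hi : i < Group.nilpotencyClass X) :
    (⊤ : Subgroup X).lowerCentralSeries (i + 1) ≠ (⊤ : Subgroup X).lowerCentralSeries i := by
  intro h
  have h1 := lowerCentralSeries_const_of_eq h (Group.nilpotencyClass X - i)
  rw [show i + (Group.nilpotencyClass X - i) = Group.nilpotencyClass X by omega,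
    Subgroup.lowerCentralSeries_nilpotencyClass] at h1
  have := Subgroup.lowerCentralSeries_eq_bot_iff_nilpotencyClass_le.mp h1.symm
  omega

theorem two_mul_card_le_of_lt [Finite X] {H K : Subgroup X} (hle : H ≤ K) (hne : H ≠ K) :
    2 * Nat.card H ≤ Nat.card K := by
  have hdvd : Nat.card H ∣ Nat.card K := Subgroup.card_dvd_of_le hle
  obtain ⟨q, hq⟩ := hdvd
  have hKpos : 0 < Nat.card K := Nat.card_pos
  have hHpos : 0 < Nat.card H := Nat.card_pos
  rcases Nat.lt_or_ge q 2 with hq2 | hq2
  · exfalso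
    interval_cases q
    · omega
    · apply hne
      exact Subgroup.eq_of_le_of_card_ge hle (by omega)
  · rw [hq]; nlinarith

theorem pow_le_card_lowerCentralSeries [Finite X] [Group.IsNilpotent X] :
    ∀ j, j ≤ Group.nilpotencyClass X →
      2 ^ j ≤ Nat.card ((⊤ : Subgroup X).lowerCentralSeries (Group.nilpotencyClass X - j)) := by
  intro j
  induction j with
  | zero => intro _; rw [pow_zero]; exact Nat.card_pos
  | succ j ih =>
    intro hj
    have ih' := ih (by omega)
    have hi : Group.nilpotencyClass X - (j + 1) < Group.nilpotencyClass X := by omega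
    have hne := lowerCentralSeries_succ_ne hi
    have hle : (⊤ : Subgroup X).lowerCentralSeries (Group.nilpotencyClass X - (j + 1) + 1)
        ≤ (⊤ : Subgroup X).lowerCentralSeries (Group.nilpotencyClass X - (j + 1)) :=
      Subgroup.lowerCentralSeries_antitone _ (Nat.le_succ _)
    have h2 := two_mul_card_le_of_lt hle hne
    rw [show Group.nilpotencyClass X - (j + 1) + 1 = Group.nilpotencyClass X - j by omega] at h2
    rw [pow_succ]
    omega

/-- order `2^n`, class `n-1`, `n ≥ 3` implies `|X : X'| = 4`. -/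
theorem index_commutator_of_class [Finite X] (n : ℕ) (hn : 3 ≤ n) (hX : Nat.card X = 2 ^ n)
    (hc : Group.nilpotencyClass X = n - 1) : (commutator X).index = 4 := by
  have hf2 : Fact (Nat.Prime 2) := ⟨Nat.prime_two⟩
  have h2 : IsPGroup 2 X := IsPGroup.of_card hX
  have hnil : Group.IsNilpotent X := h2.isNilpotent
  have h1 := pow_le_card_lowerCentralSeries (X := X) (n - 2) (by omega)
  rw [hc, show n - 1 - (n - 2) = 1 by omega] at h1
  have hL1 : (⊤ : Subgroup X).lowerCentralSeries 1 = commutator X := rfl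
  rw [hL1] at h1
  have hmul := Subgroup.card_mul_index (commutator X)
  rw [hX] at hmul
  -- the index is a power of two
  have hidx_dvd : (commutator X).index ∣ 2 ^ n := ⟨_, by rw [← hmul, mul_comm]⟩
  obtain ⟨e, he, hidx⟩ := (Nat.dvd_prime_pow Nat.prime_two).mp hidx_dvd
  -- noncommutative
  have hnc : ¬ IsMulCommutative X := by
    intro hcomm
    have hbot : (⊤ : Subgroup X).lowerCentralSeries 1 = ⊥ := by
      rw [hL1, eq_bot_iff, commutator_def, Subgroup.commutator_le]
      intro a _ b _
      rw [Subgroup.mem_bot, commutatorElement_eq_one_iff_mul_comm]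
      exact hcomm.is_comm.comm a b
    have := Subgroup.lowerCentralSeries_eq_bot_iff_nilpotencyClass_le.mp hbot
    omega
  have h2lt := Cfsg.Agent.Lib.Helper73.two_lt_index_of_forall_index_two_le h2 hnc (commutator X)
    (fun K hK => commutator_le_of_index_two hK)
  -- e ≥ 2 and e ≤ 2
  have he2 : 2 ≤ e := by
    rcases Nat.lt_or_ge e 2 with h | h
    · exfalso
      interval_cases e
      · rw [hidx] at h2lt; omega
      · rw [hidx] at h2lt; omega
    · exact h
  have he2' : e ≤ 2 := by
    by_contra hgt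
    have hgt' : 3 ≤ e := by omega
    rw [hidx] at hmul
    have h3 : 2 ^ (n - 2) * 2 ^ e ≤ 2 ^ n := by
      calc 2 ^ (n - 2) * 2 ^ e ≤ Nat.card (commutator X) * 2 ^ e := Nat.mul_le_mul_right _ h1
        _ = 2 ^ n := hmul
    rw [← pow_add] at h3
    have := (Nat.pow_le_pow_iff_right (by norm_num : 1 < 2)).mp h3
    omega
  have : e = 2 := le_antisymm he2' he2
  rw [hidx, this]; norm_num

end LowerCentral

section ClassFromIndex

variable {X : Type*} [Group X]

/-- In a finite cyclic `2`-group, a subgroup of order `2` lies in every nontrivial subgroup. -/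
theorem le_of_card_two_of_isCyclic {G : Type*} [Group G] [Finite G] [IsCyclic G]
    (h2 : IsPGroup 2 G) (Z K : Subgroup G) (hZ : Nat.card Z = 2) (hK : K ≠ ⊥) : Z ≤ K := by
  classical
  have hf2 : Fact (Nat.Prime 2) := ⟨Nat.prime_two⟩
  have : Fintype G := Fintype.ofFinite G
  obtain ⟨w, hw⟩ := exists_prime_orderOf_dvd_card' (G := Z) 2 (by rw [hZ])
  have hKdvd : 2 ∣ Nat.card K := by
    obtain ⟨k, hk⟩ := IsPGroup.iff_card.mp (h2.to_subgroup K)
    rw [hk]
    cases k with
    | zero => rw [pow_zero] at hk; exact absurd (Subgroup.card_eq_one.mp hk) hK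
    | succ k => exact dvd_pow_self 2 (Nat.succ_ne_zero k)
  obtain ⟨u, hu⟩ := exists_prime_orderOf_dvd_card' (G := K) 2 hKdvd
  have hw' : orderOf (w : G) = 2 := by rw [Subgroup.orderOf_coe]; exact hw
  have hu' : orderOf (u : G) = 2 := by rw [Subgroup.orderOf_coe]; exact hu
  have h2dvd : 2 ∣ Fintype.card G := by
    rw [← Nat.card_eq_fintype_card, ← hw']; exact orderOf_dvd_natCard _
  have hcard := IsCyclic.card_orderOf_eq_totient (α := G) h2dvd
  rw [Nat.totient_two, Finset.card_eq_one] at hcard
  obtain ⟨a, ha⟩ := hcard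
  have hwa : (w : G) = a := by
    have : (w : G) ∈ Finset.univ.filter (fun b : G => orderOf b = 2) := by simp [hw']
    rw [ha] at this; simpa using this
  have hua : (u : G) = a := by
    have : (u : G) ∈ Finset.univ.filter (fun b : G => orderOf b = 2) := by simp [hu']
    rw [ha] at this; simpa using this
  have hZeq : Subgroup.zpowers (w : G) = Z := by
    apply Subgroup.eq_of_le_of_card_ge
    · exact Subgroup.zpowers_le.mpr w.2
    · rw [hZ, Nat.card_zpowers, hw']
  rw [← hZeq, Subgroup.zpowers_le, hwa, ← hua]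
  exact u.2

theorem card_subgroupOf_of_le {H K : Subgroup X} (h : H ≤ K) :
    Nat.card (H.subgroupOf K) = Nat.card H :=
  Nat.card_congr (Subgroup.subgroupOfEquivOfLe h).toEquiv

/-- order `2^n` (`n ≥ 3`), `|X : X'| = 4` implies class `n - 1`. -/
theorem class_of_index_commutator [Finite X] (n : ℕ) (hn : 3 ≤ n) (hX : Nat.card X = 2 ^ n)
    (hidx : (commutator X).index = 4) : Group.nilpotencyClass X = n - 1 := by
  have hf2 : Fact (Nat.Prime 2) := ⟨Nat.prime_two⟩
  have h2 : IsPGroup 2 X := IsPGroup.of_card hX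
  have hnil : Group.IsNilpotent X := h2.isNilpotent
  obtain ⟨C, hCcyc, hCidx⟩ := exists_cyclic_index_two h2 hidx
  have hab : ∀ a ∈ C, ∀ b ∈ C, a * b = b * a := by
    intro a ha b hb
    have := (IsCyclic.commGroup (α := C)).mul_comm ⟨a, ha⟩ ⟨b, hb⟩
    exact congrArg Subtype.val this
  have hCn : C.Normal := Subgroup.normal_of_index_eq_two hCidx
  obtain ⟨x, hxC⟩ : ∃ x : X, x ∉ C := by
    by_contra hcon
    rw [not_exists] at hcon
    have : C = ⊤ := (Subgroup.eq_top_iff' C).mpr (fun x => not_not.mp (hcon x))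
    rw [this, Subgroup.index_top] at hCidx
    omega
  have hx : ∀ a ∈ C, x * a * x⁻¹ ∈ C := fun a ha => hCn.conj_mem a ha x
  have hcardX' : Nat.card (commutator X) * 4 = 2 ^ n := by
    rw [← hidx, ← hX]; exact Subgroup.card_mul_index _
  have hcardC : Nat.card C * 2 = 2 ^ n := by
    have := Subgroup.card_mul_index C
    rw [hCidx, hX] at this; exact this
  have hXeq : commutator X = (commHom C x hab hx).range :=
    commutator_eq_range_commHom C x hab hx hCidx hxC
  have hker2 : Nat.card (commHom C x hab hx).ker = 2 := by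
    have h1 := card_range_mul_card_ker (commHom C x hab hx)
    rw [← hXeq] at h1
    have hpos : 0 < Nat.card (commutator X) := Nat.card_pos
    have : Nat.card (commutator X) * Nat.card (commHom C x hab hx).ker
        = Nat.card (commutator X) * 2 := by
      rw [h1]; omega
    exact Nat.eq_of_mul_eq_mul_left hpos this
  have hC2 : IsPGroup 2 C := h2.to_subgroup C
  -- main claim
  have claim : ∀ i, 1 ≤ i → i ≤ n - 1 →
      (⊤ : Subgroup X).lowerCentralSeries i ≤ C ∧
        Nat.card ((⊤ : Subgroup X).lowerCentralSeries i) = 2 ^ (n - 1 - i) := by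
    intro i hi1
    induction i, hi1 using Nat.le_induction with
    | base =>
      intro _
      have hL1 : (⊤ : Subgroup X).lowerCentralSeries 1 = commutator X := rfl
      rw [hL1]
      refine ⟨by rw [hXeq]; exact range_commHom_le C x hab hx, ?_⟩
      have : 2 ^ n = 2 ^ (n - 1 - 1) * 4 := by
        rw [show (4 : ℕ) = 2 ^ 2 by norm_num, ← pow_add]; congr 1; omega
      rw [this] at hcardX'
      exact Nat.eq_of_mul_eq_mul_right (by norm_num) hcardX'
    | succ i hi1 ih =>
      intro hi
      obtain ⟨hLC, hLcard⟩ := ih (by omega)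
      have hstep : (⊤ : Subgroup X).lowerCentralSeries (i + 1)
          = (((⊤ : Subgroup X).lowerCentralSeries i).subgroupOf C).map (commHom C x hab hx) := by
        rw [Subgroup.lowerCentralSeries_succ]
        exact commutator_top_eq_map_commHom C x hab hx hCidx hxC _ hLC
      refine ⟨le_trans (Subgroup.lowerCentralSeries_antitone _ (Nat.le_succ i)) hLC, ?_⟩
      have hcm := card_map_mul_card_ker_subgroupOf (commHom C x hab hx)
        (((⊤ : Subgroup X).lowerCentralSeries i).subgroupOf C)
      rw [← hstep, card_subgroupOf_of_le hLC, hLcard] at hcm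
      have hKne : ((⊤ : Subgroup X).lowerCentralSeries i).subgroupOf C ≠ ⊥ := by
        intro hb
        have h1 : Nat.card (((⊤ : Subgroup X).lowerCentralSeries i).subgroupOf C) = 1 := by
          rw [hb]; exact Subgroup.card_bot
        rw [card_subgroupOf_of_le hLC, hLcard] at h1
        have : 2 ^ (n - 1 - i) ≥ 2 ^ 1 := Nat.pow_le_pow_right (by norm_num) (by omega)
        omega
      have hle := le_of_card_two_of_isCyclic hC2 (commHom C x hab hx).ker _ hker2 hKne
      rw [card_subgroupOf_of_le hle, hker2] at hcm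
      have : 2 ^ (n - 1 - i) = 2 ^ (n - 1 - (i + 1)) * 2 := by
        rw [← pow_succ]; congr 1; omega
      rw [this] at hcm
      exact Nat.eq_of_mul_eq_mul_right (by norm_num) hcm
  -- conclude
  have hbot : (⊤ : Subgroup X).lowerCentralSeries (n - 1) = ⊥ := by
    have := (claim (n - 1) (by omega) le_rfl).2
    rw [Nat.sub_self, pow_zero] at this
    exact Subgroup.card_eq_one.mp this
  have hnebot : (⊤ : Subgroup X).lowerCentralSeries (n - 2) ≠ ⊥ := by
    intro hb
    have := (claim (n - 2) (by omega) (by omega)).2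
    rw [hb, Subgroup.card_bot, show n - 1 - (n - 2) = 1 by omega] at this
    norm_num at this
  have h1 := Subgroup.lowerCentralSeries_eq_bot_iff_nilpotencyClass_le.mp hbot
  have h2' : ¬ Group.nilpotencyClass X ≤ n - 2 := fun h =>
    hnebot (Subgroup.lowerCentralSeries_eq_bot_iff_nilpotencyClass_le.mpr h)
  omega

/-- If `X / X'` is cyclic for a finite `2`-group `X`, then `X` is abelian. -/
theorem commutator_eq_bot_of_isCyclic_quotient [Finite X] (h2 : IsPGroup 2 X)
    (hcyc : IsCyclic (X ⧸ commutator X)) : commutator X = ⊥ := by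
  have hf2 : Fact (Nat.Prime 2) := ⟨Nat.prime_two⟩
  obtain ⟨q, hq⟩ := hcyc.exists_generator
  obtain ⟨g, rfl⟩ := QuotientGroup.mk'_surjective (commutator X) q
  have htop : Subgroup.zpowers g = ⊤ := by
    by_contra hne
    obtain ⟨K, hgK, hKidx⟩ := Cfsg.Agent.Lib.Helper73.exists_index_prime_ge h2 _ hne
    have hXK := commutator_le_of_index_two hKidx
    have : K = ⊤ := by
      rw [Subgroup.eq_top_iff']
      intro y
      obtain ⟨k, hk⟩ := hq (QuotientGroup.mk' (commutator X) y)
      simp only at hk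
      rw [← map_zpow, QuotientGroup.mk'_apply, QuotientGroup.mk'_apply, QuotientGroup.eq] at hk
      have hgk : g ^ k ∈ K := K.zpow_mem (hgK (Subgroup.mem_zpowers g)) k
      have : y = g ^ k * ((g ^ k)⁻¹ * y) := by group
      rw [this]
      exact K.mul_mem hgk (hXK hk)
    rw [this, Subgroup.index_top] at hKidx
    omega
  rw [eq_bot_iff, commutator_def, Subgroup.commutator_le]
  intro a _ b _
  rw [Subgroup.mem_bot, commutatorElement_eq_one_iff_mul_comm]
  have ha : a ∈ Subgroup.zpowers g := htop ▸ Subgroup.mem_top a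
  have hb : b ∈ Subgroup.zpowers g := htop ▸ Subgroup.mem_top b
  obtain ⟨i, rfl⟩ := ha
  obtain ⟨j, rfl⟩ := hb
  rw [← zpow_add, ← zpow_add, add_comm]

/-- order `2^n` (`n ≥ 3`), `|X : X'| = 4` implies `X / X'` is a Klein four-group. -/
theorem isKleinFour_of_index_commutator [Finite X] (n : ℕ) (hn : 3 ≤ n) (hX : Nat.card X = 2 ^ n)
    (hidx : (commutator X).index = 4) : IsKleinFour (X ⧸ commutator X) := by
  have hf2 : Fact (Nat.Prime 2) := ⟨Nat.prime_two⟩
  have h2 : IsPGroup 2 X := IsPGroup.of_card hX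
  have hcard : Nat.card (X ⧸ commutator X) = 4 := by
    rw [← Subgroup.index_eq_card]; exact hidx
  refine ⟨hcard, ?_⟩
  by_cases hsq : ∀ q : X ⧸ commutator X, q ^ 2 = 1
  · have hdvd : Monoid.exponent (X ⧸ commutator X) ∣ 2 :=
      Monoid.exponent_dvd_of_forall_pow_eq_one hsq
    have hne1 : Monoid.exponent (X ⧸ commutator X) ≠ 1 := by
      intro h1
      rw [Monoid.exp_eq_one_iff] at h1
      have : Nat.card (X ⧸ commutator X) = 1 := Nat.card_eq_one_iff_unique.mpr ⟨h1, ⟨1⟩⟩
      omega
    have := (Nat.dvd_prime Nat.prime_two).mp hdvd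
    tauto
  · exfalso
    rw [not_forall] at hsq
    obtain ⟨q, hq⟩ := hsq
    have hdvd : orderOf q ∣ 4 := hcard ▸ orderOf_dvd_natCard q
    have hmem : orderOf q ∈ Nat.divisors 4 := Nat.mem_divisors.mpr ⟨hdvd, by norm_num⟩
    have hdiv : Nat.divisors 4 = {1, 2, 4} := by decide
    rw [hdiv] at hmem
    simp only [Finset.mem_insert, Finset.mem_singleton] at hmem
    rcases hmem with h | h | h
    · apply hq; rw [orderOf_eq_one_iff.mp h, one_pow]
    · apply hq; rw [← h]; exact pow_orderOf_eq_one q
    · have hcyc : IsCyclic (X ⧸ commutator X) := by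
        have htop : Subgroup.zpowers q = ⊤ := by
          apply Subgroup.eq_top_of_card_eq
          rw [Nat.card_zpowers, h, hcard]
        exact ⟨⟨q, fun y => by
          have : y ∈ Subgroup.zpowers q := by rw [htop]; exact Subgroup.mem_top y
          exact this⟩⟩
      have hbot := commutator_eq_bot_of_isCyclic_quotient h2 hcyc
      rw [hbot, Subgroup.index_bot, hX] at hidx
      have : 2 ^ n ≥ 2 ^ 3 := Nat.pow_le_pow_right (by norm_num) hn
      omega

end ClassFromIndex

end Cfsg.Agent.Lib.Helper91
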