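/-
helper91: a Chevalley group of one of the seven tabulated types is generated by the root elements of the fundamental
roots and of their negatives.  (On helper18's BN-pair library.)
-/
import Cfsg.Agent.Lib.Helper18.BN3

set_option autoImplicit false

namespace Cfsg.Agent.Lib.Helper91.ChevGen

open Cfsg.Lie Cfsg.Agent.Lib.Helper18

universe u

variable {F : Type u} [Field F] {D : ChevalleyDatum}

/-- The root elements of the fundamental roots and of their negatives. -/
def fundSet (D : ChevalleyDatum) (F : Type u) [Field F] : Set (GL D.Idx F) :=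
  {g | ∃ (i : ℕ) (t : F), i < D.rank ∧
    ((g : Matrix D.Idx D.Idx F) = D.x F (D.simple i) t ∨
      (g : Matrix D.Idx D.Idx F) = D.x F (D.neg (D.simple i)) t)}

theorem xG_mem_group (hD : D ∈ [chevG2, chevB2, chevD4, chevF4, chevE6, chevE7, chevE8]) (r : ℕ)
    (hr : r < D.nroots) (t : F) : xG hD r t ∈ D.group F := by
  apply Subgroup.subset_closure
  refine ⟨⟨r, hr⟩, t, ?_⟩
  rw [coe_xG]
  unfold ChevalleyDatum.x
  rw [dif_pos hr]

theorem xG_simple_mem (hD : D ∈ [chevG2, chevB2, chevD4, chevF4, chevE6, chevE7, chevE8]) (i : ℕ)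
    (hi : i < D.rank) (t : F) : xG hD (D.simple i) t ∈ Subgroup.closure (fundSet D F) :=
  Subgroup.subset_closure ⟨i, t, hi, Or.inl rfl⟩

theorem xG_neg_simple_mem (hD : D ∈ [chevG2, chevB2, chevD4, chevF4, chevE6, chevE7, chevE8]) (i : ℕ)
    (hi : i < D.rank) (t : F) : xG hD (D.neg (D.simple i)) t ∈ Subgroup.closure (fundSet D F) :=
  Subgroup.subset_closure ⟨i, t, hi, Or.inr rfl⟩

theorem sG_mem (hD : D ∈ [chevG2, chevB2, chevD4, chevF4, chevE6, chevE7, chevE8]) (C : ChevData.{u} D)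
    (i : ℕ) : sG (F := F) hD C i ∈ Subgroup.closure (fundSet D F) := by
  unfold sG
  split_ifs with h
  · rw [nG_eq_xG hD]
    exact mul_mem (mul_mem (xG_simple_mem hD i h 1) (xG_neg_simple_mem hD i h (-1))) (xG_simple_mem hD i h 1)
  · exact one_mem _

theorem nW_mem (hD : D ∈ [chevG2, chevB2, chevD4, chevF4, chevE6, chevE7, chevE8]) (C : ChevData.{u} D)
    (ws : List ℕ) : nW (F := F) hD C ws ∈ Subgroup.closure (fundSet D F) := by
  induction ws with
  | nil => exact one_mem _
  | cons i ws ih => rw [nW_cons]; exact mul_mem (sG_mem hD C i) ih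

/-- Every root element lies in the subgroup generated by the fundamental root elements and their negatives. -/
theorem xG_mem_closure_fundSet (hD : D ∈ [chevG2, chevB2, chevD4, chevF4, chevE6, chevE7, chevE8])
    (r : ℕ) (hr : r < D.nroots) (t : F) : xG hD r t ∈ Subgroup.closure (fundSet D F) := by
  obtain ⟨C⟩ := nonempty_chevData.{u} D hD
  obtain ⟨ws, j, hws, hj, hw⟩ := C.hword r hr
  rw [← C.hsimple j hj] at hw
  have hp := C.simple_lt j hj
  have h1 := nW_conj_xG (F := F) hD C ws hws _ hp ((wordSignF C.tabs ws (D.simple j) : F) * t)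
  rw [hw, ← mul_assoc] at h1
  have hsq : ((wordSignF C.tabs ws (D.simple j) : ℤ) : F) * (wordSignF C.tabs ws (D.simple j) : F) = 1 := by
    rcases wordSignF_cases C.tabs ws (D.simple j) with h | h <;> rw [h] <;> simp
  rw [hsq, one_mul] at h1
  rw [← h1]
  exact mul_mem (mul_mem (nW_mem hD C ws) (xG_simple_mem hD j hj _)) (inv_mem (nW_mem hD C ws))

/-- The Chevalley group is generated by the fundamental root elements and their negatives. -/
theorem group_eq_closure_fundSet (hD : D ∈ [chevG2, chevB2, chevD4, chevF4, chevE6, chevE7, chevE8]) :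
    D.group F = Subgroup.closure (fundSet D F) := by
  have hrk : ∀ i < D.rank, D.simple i < D.nroots := by
    obtain ⟨C⟩ := nonempty_chevData.{u} D hD
    exact fun i hi => C.simple_lt i hi
  apply le_antisymm
  · unfold ChevalleyDatum.group
    rw [Subgroup.closure_le]
    rintro g ⟨r, t, hg⟩
    have : g = xG hD r.val t := by
      apply Units.ext
      rw [hg, coe_xG]
      unfold ChevalleyDatum.x
      rw [dif_pos r.isLt]
    rw [this]
    exact xG_mem_closure_fundSet hD r.val r.isLt t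
  · rw [Subgroup.closure_le]
    rintro g ⟨i, t, hi, hg | hg⟩
    · rw [eq_xG hD g _ t hg]
      exact xG_mem_group hD _ (hrk i hi) t
    · rw [eq_xG hD g _ t hg]
      exact xG_mem_group hD _ (neg_lt_nroots D hD _ (hrk i hi)) t

/-- Two homomorphisms from the Chevalley group that agree on the fundamental root elements and their negatives are
equal. -/
theorem hom_ext_fund {M : Type*} [Monoid M]
    (hD : D ∈ [chevG2, chevB2, chevD4, chevF4, chevE6, chevE7, chevE8]) (φ ψ : ↥(D.group F) →* M)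
    (h : ∀ (y : ↥(D.group F)) (i : ℕ) (t : F), i < D.rank →
      (((y : GL D.Idx F) : Matrix D.Idx D.Idx F) = D.x F (D.simple i) t ∨
        ((y : GL D.Idx F) : Matrix D.Idx D.Idx F) = D.x F (D.neg (D.simple i)) t) → φ y = ψ y) :
    φ = ψ := by
  have key : ∀ x : GL D.Idx F, x ∈ Subgroup.closure (fundSet D F) → ∀ hx : x ∈ D.group F,
      φ ⟨x, hx⟩ = ψ ⟨x, hx⟩ := by
    intro x hx
    induction hx using Subgroup.closure_induction with
    | mem x hx =>
      intro hx'
      obtain ⟨i, t, hi, hxt⟩ := hx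
      exact h ⟨x, hx'⟩ i t hi hxt
    | one =>
      intro hx'
      have : (⟨1, hx'⟩ : ↥(D.group F)) = 1 := rfl
      rw [this, map_one, map_one]
    | mul x y hx hy ihx ihy =>
      intro hxy
      have hx' : x ∈ D.group F := by rw [group_eq_closure_fundSet hD]; exact hx
      have hy' : y ∈ D.group F := by rw [group_eq_closure_fundSet hD]; exact hy
      have : (⟨x * y, hxy⟩ : ↥(D.group F)) = ⟨x, hx'⟩ * ⟨y, hy'⟩ := rfl
      rw [this, map_mul, map_mul, ihx hx', ihy hy']
    | inv x hx ihx =>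
      intro hxi
      have hx' : x ∈ D.group F := by rw [group_eq_closure_fundSet hD]; exact hx
      have : (⟨x⁻¹, hxi⟩ : ↥(D.group F)) = (⟨x, hx'⟩ : ↥(D.group F))⁻¹ := rfl
      rw [this]
      have e1 : φ (⟨x, hx'⟩ : ↥(D.group F))⁻¹ * φ ⟨x, hx'⟩ = 1 := by rw [← map_mul, inv_mul_cancel, map_one]
      have e2 : ψ (⟨x, hx'⟩ : ↥(D.group F))⁻¹ * ψ ⟨x, hx'⟩ = 1 := by rw [← map_mul, inv_mul_cancel, map_one]
      have e3 : φ ⟨x, hx'⟩ * φ (⟨x, hx'⟩ : ↥(D.group F))⁻¹ = 1 := by rw [← map_mul, mul_inv_cancel, map_one]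
      calc φ (⟨x, hx'⟩ : ↥(D.group F))⁻¹
          = φ (⟨x, hx'⟩ : ↥(D.group F))⁻¹ * (ψ ⟨x, hx'⟩ * ψ (⟨x, hx'⟩ : ↥(D.group F))⁻¹) := by
            rw [← map_mul, mul_inv_cancel, map_one, mul_one]
        _ = (φ (⟨x, hx'⟩ : ↥(D.group F))⁻¹ * φ ⟨x, hx'⟩) * ψ (⟨x, hx'⟩ : ↥(D.group F))⁻¹ := by
            rw [ihx hx', mul_assoc]
        _ = ψ (⟨x, hx'⟩ : ↥(D.group F))⁻¹ := by rw [e1, one_mul]
  ext ⟨x, hx⟩
  exact key x (by rw [← group_eq_closure_fundSet hD]; exact hx) hx

end Cfsg.Agent.Lib.Helper91.ChevGen
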