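import Mathlib

/-!
Norm maps `v ↦ ∏_{m ∈ M} m v m⁻¹` on an abelian subgroup `V` normalized by a finite subgroup `M`
(helper91; used for S1444 MODULE B).
-/

set_option autoImplicit false
set_option linter.style.haveILetI false

namespace Cfsg.Agent.Lib.Helper91

open scoped IsMulCommutative

variable {G : Type*} [Group G]

/-- Conjugation by an element of the normalizer, as an endomorphism of `V`. -/
def cj (V : Subgroup G) (g : G) (hg : g ∈ Subgroup.normalizer (V : Set G)) : V →* V where
  toFun v := ⟨g * v * g⁻¹, (Subgroup.mem_normalizer_iff.mp hg v).mp v.2⟩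
  map_one' := by ext; simp
  map_mul' a b := by ext; simp [mul_assoc]

@[simp] theorem cj_coe (V : Subgroup G) (g : G) (hg : g ∈ Subgroup.normalizer (V : Set G)) (v : V) :
    ((cj V g hg v : V) : G) = g * v * g⁻¹ := rfl

theorem cj_mul (V : Subgroup G) (g h : G) (hg : g ∈ Subgroup.normalizer (V : Set G))
    (hh : h ∈ Subgroup.normalizer (V : Set G)) (v : V) :
    cj V g hg (cj V h hh v) = cj V (g * h) ((Subgroup.normalizer (V : Set G)).mul_mem hg hh) v := by
  ext; simp [mul_assoc]

theorem cj_one (V : Subgroup G) (h1 : (1 : G) ∈ Subgroup.normalizer (V : Set G)) (v : V) :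
    cj V 1 h1 v = v := by
  ext; simp

section Norm

variable (M V : Subgroup G) [Finite M] [IsMulCommutative V]
  (hMV : M ≤ Subgroup.normalizer (V : Set G))

/-- The norm map of `M` on `V`. -/
noncomputable def nrm : V →* V :=
  letI := Fintype.ofFinite M
  ∏ m : M, cj V (m : G) (hMV m.2)

theorem nrm_apply [Fintype M] (v : V) : nrm M V hMV v = ∏ m : M, cj V (m : G) (hMV m.2) v := by
  unfold nrm
  rw [MonoidHom.finsetProd_apply]
  refine Finset.prod_congr ?_ (fun _ _ => rfl)
  ext; simp

/-- The norm is fixed by `M`. -/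
theorem cj_nrm {m' : G} (hm' : m' ∈ M) (v : V) :
    cj V m' (hMV hm') (nrm M V hMV v) = nrm M V hMV v := by
  letI := Fintype.ofFinite M
  rw [nrm_apply, map_prod]
  refine Fintype.prod_equiv (Equiv.mulLeft (⟨m', hm'⟩ : M)) _ _ ?_
  intro m
  rw [cj_mul]
  rfl

/-- The norm of an `M`-conjugate is the norm. -/
theorem nrm_cj {m' : G} (hm' : m' ∈ M) (v : V) :
    nrm M V hMV (cj V m' (hMV hm') v) = nrm M V hMV v := by
  letI := Fintype.ofFinite M
  rw [nrm_apply, nrm_apply]
  refine Fintype.prod_equiv (Equiv.mulRight (⟨m', hm'⟩ : M)) _ _ ?_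
  intro m
  rw [cj_mul]
  rfl

/-- On elements fixed by `M` the norm is the `|M|`-th power. -/
theorem nrm_of_fixed (v : V) (hv : ∀ m ∈ M, m * (v : G) = (v : G) * m) :
    nrm M V hMV v = v ^ Nat.card M := by
  letI := Fintype.ofFinite M
  rw [nrm_apply]
  have : ∀ m : M, cj V (m : G) (hMV m.2) v = v := by
    intro m
    ext
    simp only [cj_coe]
    rw [hv m m.2]; group
  simp only [this, Finset.prod_const, Finset.card_univ, Nat.card_eq_fintype_card]

/-- If `c` commutes with every element of `M` and fixes `v`, it fixes the norm of `v`. -/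
theorem cj_nrm_of_commute {c : G} (hc : c ∈ Subgroup.normalizer (V : Set G))
    (hcM : ∀ m ∈ M, c * m = m * c) (v : V) (hv : c * (v : G) = (v : G) * c) :
    cj V c hc (nrm M V hMV v) = nrm M V hMV v := by
  letI := Fintype.ofFinite M
  rw [nrm_apply, map_prod]
  refine Finset.prod_congr rfl ?_
  intro m _
  ext
  simp only [cj_coe]
  have h1 := hcM m m.2
  calc c * ((m : G) * (v : G) * (m : G)⁻¹) * c⁻¹
      = (c * m) * v * (c * m)⁻¹ := by group
    _ = (m * c) * v * (m * c)⁻¹ := by rw [h1]
    _ = m * (c * v) * c⁻¹ * (m : G)⁻¹ := by group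
    _ = m * (v * c) * c⁻¹ * (m : G)⁻¹ := by rw [hv]
    _ = (m : G) * (v : G) * (m : G)⁻¹ := by group

/-- A homomorphism killing all `M`-conjugates of `v` kills its norm. -/
theorem map_nrm_eq_one (φ : V →* V) (v : V)
    (h : ∀ (m : G) (hm : m ∈ M), φ (cj V m (hMV hm) v) = 1) : φ (nrm M V hMV v) = 1 := by
  letI := Fintype.ofFinite M
  rw [nrm_apply, map_prod]
  exact Finset.prod_eq_one (fun m _ => h m m.2)

/-- A homomorphism killing all nontrivial `M`-conjugates of `v` maps the norm of `v` to the image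
of `v`. -/
theorem map_nrm_eq (φ : V →* V) (v : V)
    (h : ∀ (m : G) (hm : m ∈ M), m ≠ 1 → φ (cj V m (hMV hm) v) = 1) :
    φ (nrm M V hMV v) = φ v := by
  classical
  letI := Fintype.ofFinite M
  rw [nrm_apply, map_prod, ← Finset.mul_prod_erase Finset.univ _ (Finset.mem_univ (1 : M))]
  rw [Finset.prod_eq_one, mul_one]
  · congr 1
    ext; simp
  · intro m hm
    apply h m m.2
    intro h1
    exact (Finset.mem_erase.mp hm).1 (Subtype.ext h1)

end Norm

end Cfsg.Agent.Lib.Helper91
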