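import Mathlib
import Cfsg.Agent.Lib.Helper9.FrobFix
import Cfsg.Agent.Lib.Helper54.Hyperplane
import Cfsg.Agent.Lib.Helper91.BG36Norm
import Cfsg.Agent.Lib.Helper63.PGroupBasic

/-!
MODULE B (`final_case`) for S1444 (BG Theorem 3.6), part A: setup, `|W| = q^r`, the kernel `A`
of the norm map (helper91, from helper9's sketch).
-/

set_option autoImplicit false
set_option linter.style.haveILetI false
set_option linter.unusedSectionVars false

namespace Cfsg.Agent.Lib.Helper91

open scoped IsMulCommutative Pointwise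
open Cfsg.Agent.Lib.Helper54

variable {G : Type*} [Group G]

/-- A nontrivial element of a cyclic group of prime order generates it. -/
theorem mem_zpowers_of_prime_order {r : ℕ} (hr : r.Prime) {x t : G} (hx : orderOf x = r)
    (ht : t ∈ Subgroup.zpowers x) (ht1 : t ≠ 1) : x ∈ Subgroup.zpowers t := by
  haveI : Fact r.Prime := ⟨hr⟩
  have hcard : Nat.card (Subgroup.zpowers x) = r := by rw [Nat.card_zpowers, hx]
  have hne : (⟨t, ht⟩ : Subgroup.zpowers x) ≠ 1 := by
    intro h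
    exact ht1 (congrArg Subtype.val h)
  have htop := zpowers_eq_top_of_prime_card hcard hne
  have hmem : (⟨x, Subgroup.mem_zpowers x⟩ : Subgroup.zpowers x) ∈
      Subgroup.zpowers (⟨t, ht⟩ : Subgroup.zpowers x) := by rw [htop]; trivial
  obtain ⟨k, hk⟩ := Subgroup.mem_zpowers_iff.mp hmem
  refine Subgroup.mem_zpowers_iff.mpr ⟨k, ?_⟩
  have := congrArg Subtype.val hk
  simpa using this

/-- Two distinct hyperplanes generate the whole group. -/
theorem hyp_sup [Finite G] {q : ℕ} (hq : q.Prime) {M M' W : Subgroup G} (hM : M ≤ W) (hM' : M' ≤ W)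
    (hcard : Nat.card W = q * Nat.card M) (hcard' : Nat.card M' = Nat.card M) (hne : M ≠ M') :
    M ⊔ M' = W := by
  have hle : M ⊔ M' ≤ W := sup_le hM hM'
  have h1 : Nat.card M ∣ Nat.card (M ⊔ M' : Subgroup G) := Subgroup.card_dvd_of_le le_sup_left
  have h2 : Nat.card (M ⊔ M' : Subgroup G) ∣ Nat.card W := Subgroup.card_dvd_of_le hle
  obtain ⟨k, hk⟩ := h1
  have hMpos : 0 < Nat.card M := Nat.card_pos
  rw [hk, hcard, mul_comm q] at h2
  have hkq : k ∣ q := Nat.dvd_of_mul_dvd_mul_left hMpos h2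
  rcases (Nat.dvd_prime hq).mp hkq with h | h
  · exfalso
    rw [h, mul_one] at hk
    have heq : M = M ⊔ M' := Subgroup.eq_of_le_of_card_ge le_sup_left (le_of_eq hk)
    have hM'M : M' ≤ M := by rw [heq]; exact le_sup_right
    exact hne (Subgroup.eq_of_le_of_card_ge hM'M (le_of_eq hcard'.symm)).symm
  · apply Subgroup.eq_of_le_of_card_ge hle
    rw [hk, hcard, h, mul_comm]

/-- In a group of odd order only the identity squares to one. -/
theorem eq_one_of_sq_of_odd [Finite G] (hodd : Odd (Nat.card G)) {g : G} (hg : g * g = 1) : g = 1 := by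
  have h1 : orderOf g ∣ 2 := orderOf_dvd_of_pow_eq_one (by rw [pow_two]; exact hg)
  have h2 : orderOf g ∣ Nat.card G := orderOf_dvd_natCard g
  rcases (Nat.dvd_prime Nat.prime_two).mp h1 with h | h
  · exact orderOf_eq_one_iff.mp h
  · exfalso
    rw [h] at h2
    exact (Nat.not_even_iff_odd.mpr hodd) (even_iff_two_dvd.mpr h2)

/-- normalizing `M` implies normalizing its centralizer. -/
theorem mem_normalizer_centralizer {g : G} {M : Subgroup G}
    (hg : g ∈ Subgroup.normalizer (M : Set G)) :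
    g ∈ Subgroup.normalizer ((Subgroup.centralizer (M : Set G) : Subgroup G) : Set G) := by
  rw [Subgroup.mem_normalizer_iff]
  intro h
  simp only [Subgroup.mem_centralizer_iff, SetLike.mem_coe]
  constructor
  · intro hh m hm
    have hm' : g⁻¹ * m * g ∈ M := (Subgroup.mem_normalizer_iff''.mp hg m).mp hm
    have := hh _ hm'
    calc m * (g * h * g⁻¹) = g * ((g⁻¹ * m * g) * h) * g⁻¹ := by group
      _ = g * (h * (g⁻¹ * m * g)) * g⁻¹ := by rw [this]
      _ = g * h * g⁻¹ * m := by group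
  · intro hh m hm
    have hm' : g * m * g⁻¹ ∈ M := (Subgroup.mem_normalizer_iff.mp hg m).mp hm
    have := hh _ hm'
    calc m * h = g⁻¹ * ((g * m * g⁻¹) * (g * h * g⁻¹)) * g := by group
      _ = g⁻¹ * ((g * h * g⁻¹) * (g * m * g⁻¹)) * g := by rw [this]
      _ = h * m := by group

/-- In a finite group, mapping `H` into itself by conjugation suffices for normalizing. -/
theorem mem_normalizer_of_conj_mem [Finite G] {H : Subgroup G} {g : G}
    (h : ∀ n ∈ H, g * n * g⁻¹ ∈ H) : g ∈ Subgroup.normalizer (H : Set G) :=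
  Subgroup.mem_normalizer_fintype (S := (H : Set G)) h

/-- Elements of coprime prime-power order: `w ^ a = 1`, `w ^ b = 1`, `a`, `b` coprime. -/
theorem eq_one_of_pow_coprime {w : G} {a b : ℕ} (hab : Nat.Coprime a b) (ha : w ^ a = 1)
    (hb : w ^ b = 1) : w = 1 := by
  have h1 : orderOf w ∣ a := orderOf_dvd_of_pow_eq_one ha
  have h2 : orderOf w ∣ b := orderOf_dvd_of_pow_eq_one hb
  have h3 : orderOf w ∣ 1 := by
    have := Nat.dvd_gcd h1 h2
    rwa [hab.gcd_eq_one] at this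
  exact orderOf_eq_one_iff.mp (Nat.dvd_one.mp h3)

/-- The hypotheses of `final_case`, bundled. -/
structure FC (p q r : ℕ) (V W P : Subgroup G) (x : G) : Prop where
  hodd : Odd (Nat.card G)
  hp : p.Prime
  hq : q.Prime
  hr : r.Prime
  hpq : p ≠ q
  hpr : p ≠ r
  hqr : q ≠ r
  hx : orderOf x = r
  hVab : ∀ a ∈ V, ∀ b ∈ V, a * b = b * a
  hVp : IsPGroup p V
  hWab : ∀ a ∈ W, ∀ b ∈ W, a * b = b * a
  hWq : IsPGroup q W
  hP : IsPGroup p P
  hWV : W ≤ Subgroup.normalizer (V : Set G)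
  hPV : P ≤ Subgroup.normalizer (V : Set G)
  hxV : x ∈ Subgroup.normalizer (V : Set G)
  hPW : P ≤ Subgroup.normalizer (W : Set G)
  hxW : x ∈ Subgroup.normalizer (W : Set G)
  hxP : x ∈ Subgroup.normalizer (P : Set G)
  hfaith : ∀ g ∈ W, (∀ v ∈ V, g * v = v * g) → g = 1
  hPncW : ¬ P ≤ Subgroup.centralizer (W : Set G)
  hCVx : Nat.card ↥(V ⊓ Subgroup.centralizer ({x} : Set G)) = p
  hCWx : IsCyclic ↥(W ⊓ Subgroup.centralizer ({x} : Set G))
  hCPx : P ⊓ Subgroup.centralizer ({x} : Set G) = ⊥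
  hPirr : ∀ P' : Subgroup G, P' ≤ P → x ∈ Subgroup.normalizer (P' : Set G) → P' = ⊥ ∨ P' = P
  hWirr : ∀ W' : Subgroup G, W' ≤ W → P ≤ Subgroup.normalizer (W' : Set G) →
    x ∈ Subgroup.normalizer (W' : Set G) → W' = ⊥ ∨ W' = W
  hCVW : V ⊓ Subgroup.centralizer (W : Set G) = ⊥

namespace FC

variable {p q r : ℕ} {V W P : Subgroup G} {x : G} [Finite G]

section
variable (h : FC p q r V W P x)
include h

theorem commV : IsMulCommutative V := ⟨⟨fun a b => Subtype.ext (h.hVab a a.2 b b.2)⟩⟩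

theorem commW : IsMulCommutative W := ⟨⟨fun a b => Subtype.ext (h.hWab a a.2 b b.2)⟩⟩

theorem r_odd : Odd r := by
  have h1 : r ∣ Nat.card G := by rw [← h.hx]; exact orderOf_dvd_natCard x
  exact Odd.of_dvd_nat h.hodd h1

theorem three_le_r : 3 ≤ r := by
  have h2 := h.hr.two_le
  have h3 := h.r_odd
  rcases h3 with ⟨k, hk⟩
  omega

theorem x_ne_one : x ≠ 1 := by
  intro h1
  have := h.hx
  rw [h1, orderOf_one] at this
  exact h.hr.one_lt.ne this

theorem P_ne_bot : P ≠ ⊥ := by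
  intro h1
  apply h.hPncW
  rw [h1]
  exact bot_le

theorem W_ne_bot : W ≠ ⊥ := by
  intro h1
  apply h.hPncW
  rw [h1]
  intro g _
  rw [Subgroup.mem_centralizer_iff]
  intro y hy
  have : y = 1 := by simpa using hy
  rw [this, one_mul, mul_one]

theorem exists_card_W : ∃ n, Nat.card W = q ^ n := by
  haveI : Fact q.Prime := ⟨h.hq⟩
  exact IsPGroup.iff_card.mp h.hWq

theorem exists_card_P : ∃ n, Nat.card P = p ^ n := by
  haveI : Fact p.Prime := ⟨h.hp⟩
  exact IsPGroup.iff_card.mp h.hP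

theorem exists_card_V : ∃ n, Nat.card V = p ^ n := by
  haveI : Fact p.Prime := ⟨h.hp⟩
  exact IsPGroup.iff_card.mp h.hVp

theorem exists_card_le_W {M : Subgroup G} (hM : M ≤ W) : ∃ n, Nat.card M = q ^ n := by
  obtain ⟨n, hn⟩ := h.exists_card_W
  have := Subgroup.card_dvd_of_le hM
  rw [hn] at this
  obtain ⟨k, _, hk⟩ := (Nat.dvd_prime_pow h.hq).mp this
  exact ⟨k, hk⟩

theorem exists_card_le_V {X : Subgroup G} (hX : X ≤ V) : ∃ n, Nat.card X = p ^ n := by
  obtain ⟨n, hn⟩ := h.exists_card_V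
  have := Subgroup.card_dvd_of_le hX
  rw [hn] at this
  obtain ⟨k, _, hk⟩ := (Nat.dvd_prime_pow h.hp).mp this
  exact ⟨k, hk⟩

theorem cop_pq (a b : ℕ) : Nat.Coprime (p ^ a) (q ^ b) :=
  Nat.Coprime.pow _ _ ((Nat.coprime_primes h.hp h.hq).mpr h.hpq)

theorem cop_pr (a : ℕ) : Nat.Coprime (p ^ a) r :=
  Nat.Coprime.pow_left _ ((Nat.coprime_primes h.hp h.hr).mpr h.hpr)

theorem cop_qr (a : ℕ) : Nat.Coprime (q ^ a) r :=
  Nat.Coprime.pow_left _ ((Nat.coprime_primes h.hq h.hr).mpr h.hqr)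

/-- `zpowers x` normalizes whatever `x` normalizes. -/
theorem zpowers_le_normalizer {H : Subgroup G} (hx : x ∈ Subgroup.normalizer (H : Set G)) :
    Subgroup.zpowers x ≤ Subgroup.normalizer (H : Set G) := by
  rw [Subgroup.zpowers_le]; exact hx

/-- `W` has exponent `q`. -/
theorem W_exp : ∀ w ∈ W, w ^ q = 1 := by
  let Ω : Subgroup G :=
    { carrier := {w | w ∈ W ∧ w ^ q = 1}
      one_mem' := ⟨W.one_mem, one_pow _⟩
      mul_mem' := by
        rintro a b ⟨ha, ha'⟩ ⟨hb, hb'⟩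
        refine ⟨W.mul_mem ha hb, ?_⟩
        have hc : Commute a b := h.hWab a ha b hb
        rw [hc.mul_pow, ha', hb', one_mul]
      inv_mem' := by
        rintro a ⟨ha, ha'⟩
        exact ⟨W.inv_mem ha, by rw [inv_pow, ha', inv_one]⟩ }
  have hΩmem : ∀ w, w ∈ Ω ↔ w ∈ W ∧ w ^ q = 1 := fun w => Iff.rfl
  have hΩW : Ω ≤ W := fun w hw => hw.1
  have hconj : ∀ g, g ∈ Subgroup.normalizer (W : Set G) → g ∈ Subgroup.normalizer (Ω : Set G) := by
    intro g hg
    apply mem_normalizer_of_conj_mem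
    intro n hn
    refine ⟨(Subgroup.mem_normalizer_iff.mp hg n).mp hn.1, ?_⟩
    rw [conj_pow, hn.2]; group
  have hPΩ : P ≤ Subgroup.normalizer (Ω : Set G) := fun g hg => hconj g (h.hPW hg)
  rcases h.hWirr Ω hΩW hPΩ (hconj x h.hxW) with h1 | h1
  · exfalso
    -- a nontrivial `q`-group has an element of order `q`
    obtain ⟨n, hn⟩ := h.exists_card_W
    have hn0 : n ≠ 0 := by
      intro h0
      rw [h0, pow_zero] at hn
      exact h.W_ne_bot (Subgroup.card_eq_one.mp hn)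
    haveI : Fact q.Prime := ⟨h.hq⟩
    have hdvd : q ∣ Nat.card W := by
      rw [hn]; exact dvd_pow_self q hn0
    obtain ⟨w, hw⟩ := exists_prime_orderOf_dvd_card' q hdvd
    have hwΩ : (w : G) ∈ Ω := by
      refine ⟨w.2, ?_⟩
      have : w ^ q = 1 := by rw [← hw]; exact pow_orderOf_eq_one w
      have := congrArg Subtype.val this
      simpa using this
    rw [h1, Subgroup.mem_bot] at hwΩ
    have hw1 : w = 1 := Subtype.ext hwΩ
    rw [hw1, orderOf_one] at hw
    exact h.hq.one_lt.ne hw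
  · intro w hw
    have : w ∈ Ω := by rw [h1]; exact hw
    exact this.2

/-- `C_W(P) = 1`. -/
theorem W_inf_cent_P : W ⊓ Subgroup.centralizer (P : Set G) = ⊥ := by
  have h1 : P ≤ Subgroup.normalizer ((W ⊓ Subgroup.centralizer (P : Set G) : Subgroup G) : Set G) :=
    le_normalizer_inf h.hPW (fun g hg => mem_normalizer_centralizer (Subgroup.le_normalizer hg))
  have h2 : x ∈ Subgroup.normalizer ((W ⊓ Subgroup.centralizer (P : Set G) : Subgroup G) : Set G) :=
    le_normalizer_inf (h.zpowers_le_normalizer h.hxW)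
      (fun g hg => mem_normalizer_centralizer (h.zpowers_le_normalizer h.hxP hg))
      (Subgroup.mem_zpowers x)
  rcases h.hWirr _ inf_le_left h1 h2 with h3 | h3
  · exact h3
  · exfalso
    apply h.hPncW
    intro g hg
    rw [Subgroup.mem_centralizer_iff]
    intro w hw
    have : w ∈ W ⊓ Subgroup.centralizer (P : Set G) := by rw [h3]; exact hw
    exact (Subgroup.mem_centralizer_iff.mp this.2 g hg).symm

theorem isSolvable_of_le_W {M : Subgroup G} (hM : M ≤ W) : Group.IsSolvable M :=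
  Group.isSolvable_of_comm (fun a b => Subtype.ext (h.hWab a (hM a.2) b (hM b.2)))

theorem isSolvable_of_le_V {X : Subgroup G} (hX : X ≤ V) : Group.IsSolvable X :=
  Group.isSolvable_of_comm (fun a b => Subtype.ext (h.hVab a (hX a.2) b (hX b.2)))

/-- `|C_W(x)| = q`. -/
theorem card_CWx : Nat.card ↥(W ⊓ Subgroup.centralizer ({x} : Set G)) = q ∧ Nat.card W = q ^ r := by
  obtain ⟨a, ha⟩ := h.exists_card_W
  obtain ⟨b, hb⟩ := h.exists_card_P
  have hfrob := Cfsg.Agent.Lib.Helper9.frob_card_eq h.hr x h.hx P W h.P_ne_bot h.hxP h.hCPx h.hPW h.hxW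
    (by rw [ha, hb]; exact (h.cop_pq b a).symm) (by rw [ha]; exact h.cop_qr a)
    (by rw [hb]; exact h.cop_pr b) (h.isSolvable_of_le_W le_rfl) h.W_inf_cent_P
  haveI := h.hCWx
  obtain ⟨g, hg⟩ := IsCyclic.exists_generator (α := ↥(W ⊓ Subgroup.centralizer ({x} : Set G)))
  have hcard : Nat.card ↥(W ⊓ Subgroup.centralizer ({x} : Set G)) = orderOf g := by
    rw [← Nat.card_zpowers g]
    have : Subgroup.zpowers g = ⊤ := by
      rw [Subgroup.eq_top_iff']; exact hg
    rw [this, Subgroup.card_top]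
  have hgq : g ^ q = 1 := by
    apply Subtype.ext
    have := h.W_exp g g.2.1
    simpa using this
  have hdvd : orderOf g ∣ q := orderOf_dvd_of_pow_eq_one hgq
  rcases (Nat.dvd_prime h.hq).mp hdvd with h1 | h1
  · exfalso
    rw [hcard, h1, one_pow] at hfrob
    exact h.W_ne_bot (Subgroup.card_eq_one.mp hfrob)
  · rw [hcard, h1] at hfrob ⊢
    exact ⟨rfl, hfrob⟩

theorem card_W : Nat.card W = q ^ r := h.card_CWx.2

theorem card_zpowers_x : Nat.card (Subgroup.zpowers x) = r := by rw [Nat.card_zpowers, h.hx]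

/-- The norm map of `⟨x⟩` on `W`. -/
noncomputable def Nx : W →* W :=
  haveI := h.commW
  nrm (Subgroup.zpowers x) W (h.zpowers_le_normalizer h.hxW)

/-- The kernel of the norm map of `⟨x⟩` on `W`, as a subgroup of `G`. -/
noncomputable def A : Subgroup G := (h.Nx).ker.map W.subtype

theorem A_le : h.A ≤ W := Subgroup.map_subtype_le _

theorem mem_A {g : G} : g ∈ h.A ↔ ∃ hg : g ∈ W, h.Nx ⟨g, hg⟩ = 1 := by
  unfold A
  rw [Subgroup.mem_map]
  constructor
  · rintro ⟨w, hw, rfl⟩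
    exact ⟨w.2, MonoidHom.mem_ker.mp hw⟩
  · rintro ⟨hg, h1⟩
    exact ⟨⟨g, hg⟩, MonoidHom.mem_ker.mpr h1, rfl⟩

theorem x_mem_normalizer_A : x ∈ Subgroup.normalizer (h.A : Set G) := by
  haveI := h.commW
  apply mem_normalizer_of_conj_mem
  intro n hn
  obtain ⟨hnW, h1⟩ := h.mem_A.mp hn
  have h2 := nrm_cj (Subgroup.zpowers x) W (h.zpowers_le_normalizer h.hxW)
    (Subgroup.mem_zpowers x) ⟨n, hnW⟩
  refine h.mem_A.mpr ⟨(Subgroup.mem_normalizer_iff.mp h.hxW n).mp hnW, ?_⟩
  exact h2.trans h1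

/-- elements commuting with `x` commute with `zpowers x`. -/
theorem commute_zpowers {g : G} (hg : x * g = g * x) : ∀ m ∈ Subgroup.zpowers x, m * g = g * m := by
  intro m hm
  obtain ⟨k, rfl⟩ := Subgroup.mem_zpowers_iff.mp hm
  exact (Commute.zpow_left (show Commute x g from hg) k).eq

theorem Nx_of_fixed {g : G} (hgW : g ∈ W) (hg : x * g = g * x) :
    h.Nx ⟨g, hgW⟩ = ⟨g, hgW⟩ ^ r := by
  haveI := h.commW
  have := nrm_of_fixed (Subgroup.zpowers x) W (h.zpowers_le_normalizer h.hxW) ⟨g, hgW⟩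
    (h.commute_zpowers hg)
  rw [h.card_zpowers_x] at this
  exact this

theorem A_inf_cent_x : h.A ⊓ Subgroup.centralizer ({x} : Set G) = ⊥ := by
  rw [eq_bot_iff]
  intro g hg
  rw [Subgroup.mem_bot]
  obtain ⟨hgA, hgx⟩ := Subgroup.mem_inf.mp hg
  rw [Subgroup.mem_centralizer_singleton_iff] at hgx
  obtain ⟨hgW, h1⟩ := h.mem_A.mp hgA
  rw [h.Nx_of_fixed hgW hgx.symm] at h1
  have h2 : g ^ r = 1 := by
    have := congrArg Subtype.val h1
    simpa using this
  have h3 : g ^ q = 1 := h.W_exp g hgW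
  exact eq_one_of_pow_coprime ((Nat.coprime_primes h.hq h.hr).mpr h.hqr) h3 h2

theorem range_Nx : (h.Nx).range.map W.subtype = W ⊓ Subgroup.centralizer ({x} : Set G) := by
  haveI := h.commW
  apply le_antisymm
  · rintro _ ⟨_, ⟨w, rfl⟩, rfl⟩
    refine Subgroup.mem_inf.mpr ⟨(h.Nx w).2, ?_⟩
    rw [Subgroup.mem_centralizer_singleton_iff]
    have h1 := cj_nrm (Subgroup.zpowers x) W (h.zpowers_le_normalizer h.hxW)
      (Subgroup.mem_zpowers x) w
    have h2 := congrArg Subtype.val h1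
    rw [cj_coe] at h2
    change x * ((h.Nx w : W) : G) * x⁻¹ = ((h.Nx w : W) : G) at h2
    simp only [Subgroup.coe_subtype]
    calc ((h.Nx w : W) : G) * x = (x * ((h.Nx w : W) : G) * x⁻¹) * x := by rw [h2]
      _ = x * ((h.Nx w : W) : G) := by group
  · intro c hc
    obtain ⟨hcW, hcx⟩ := Subgroup.mem_inf.mp hc
    rw [Subgroup.mem_centralizer_singleton_iff] at hcx
    obtain ⟨s, _, hs⟩ := Nat.exists_mul_mod_eq_one_of_coprime
      ((Nat.coprime_primes h.hr h.hq).mpr (Ne.symm h.hqr)) h.hq.one_lt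
    have hcs : x * c ^ s = c ^ s * x := (Commute.pow_right (show Commute x c from hcx.symm) s).eq
    refine ⟨h.Nx ⟨c ^ s, W.pow_mem hcW s⟩, ⟨_, rfl⟩, ?_⟩
    rw [h.Nx_of_fixed (W.pow_mem hcW s) hcs]
    simp only [Subgroup.coe_subtype, SubgroupClass.coe_pow]
    rw [← pow_mul, mul_comm, pow_eq_pow_mod (r * s) (h.W_exp c hcW), hs, pow_one]

theorem card_A : Nat.card W = q * Nat.card h.A := by
  have h1 := (h.Nx).ker.card_mul_index
  rw [Subgroup.index_ker] at h1
  have h2 : Nat.card (h.Nx).range = q := by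
    rw [← Subgroup.card_subtype, h.range_Nx]
    exact h.card_CWx.1
  have h3 : Nat.card h.A = Nat.card (h.Nx).ker := Subgroup.card_subtype _ _
  rw [h3, ← h1, h2, mul_comm]

theorem q_lt_card_A : q < Nat.card h.A := by
  have h1 := h.card_A
  rw [h.card_W] at h1
  by_contra hcon
  push Not at hcon
  have h2 : q ^ r ≤ q ^ 2 := by
    rw [h1, pow_two]
    exact Nat.mul_le_mul_left q hcon
  have h3 : q ^ 2 < q ^ r := Nat.pow_lt_pow_right h.hq.one_lt (by have := h.three_le_r; omega)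
  omega

theorem A_ne_bot : h.A ≠ ⊥ := by
  intro h1
  have h2 := h.q_lt_card_A
  rw [h1, Subgroup.card_bot] at h2
  have := h.hq.one_lt
  omega

theorem A_ne_W : h.A ≠ W := by
  intro h1
  have h2 := h.card_A
  rw [h1] at h2
  have h3 : 0 < Nat.card W := Nat.card_pos
  have := h.hq.one_lt
  nlinarith

end

end FC

end Cfsg.Agent.Lib.Helper91
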