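import Mathlib
import Cfsg.Agent.Lib.Helper91.BG36A

/-!
MODULE B (`final_case`) for S1444 (BG Theorem 3.6), part B: hyperplanes of `W` with nontrivial
fixed points on `V`, the norm-map key lemma, Claims 1 and 2 (helper91, from helper9's sketch).
-/

set_option autoImplicit false
set_option linter.style.haveILetI false
set_option linter.unusedSectionVars false

namespace Cfsg.Agent.Lib.Helper91

open scoped IsMulCommutative Pointwise
open Cfsg.Agent.Lib.Helper54

variable {G : Type*} [Group G]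

/-- `M` is a hyperplane (subgroup of index `q`) of `W`. -/
def IsHyp (q : ℕ) (W M : Subgroup G) : Prop := M ≤ W ∧ Nat.card W = q * Nat.card M

/-- `M` is a hyperplane of `W` with nontrivial fixed points on `V`. -/
def IsCal (q : ℕ) (V W M : Subgroup G) : Prop :=
  IsHyp q W M ∧ V ⊓ Subgroup.centralizer (M : Set G) ≠ ⊥

theorem conj_mem_centralizer_conj {g v : G} {M : Subgroup G}
    (hv : v ∈ Subgroup.centralizer (M : Set G)) :
    g * v * g⁻¹ ∈ Subgroup.centralizer ((MulAut.conj g • M : Subgroup G) : Set G) := by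
  rw [Subgroup.mem_centralizer_iff]
  intro y hy
  have hy' : g⁻¹ * y * g ∈ M := mem_conj_smul_iff.mp hy
  have h1 := Subgroup.mem_centralizer_iff.mp hv _ hy'
  calc y * (g * v * g⁻¹) = g * ((g⁻¹ * y * g) * v) * g⁻¹ := by group
    _ = g * (v * (g⁻¹ * y * g)) * g⁻¹ := by rw [h1]
    _ = g * v * g⁻¹ * y := by group

theorem conj_smul_le_of_normalizer {g : G} {M W : Subgroup G} (hM : M ≤ W)
    (hg : g ∈ Subgroup.normalizer (W : Set G)) : MulAut.conj g • M ≤ W := by
  have h1 := conj_smul_le_conj_smul (g := g) hM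
  rwa [mem_normalizer_iff_conj_smul.mp hg] at h1

theorem IsHyp.conj {q : ℕ} {W M : Subgroup G} (hM : IsHyp q W M) {g : G}
    (hg : g ∈ Subgroup.normalizer (W : Set G)) : IsHyp q W (MulAut.conj g • M) :=
  ⟨conj_smul_le_of_normalizer hM.1 hg, by rw [card_conj_smul]; exact hM.2⟩

theorem IsCal.conj {q : ℕ} {V W M : Subgroup G} (hM : IsCal q V W M) {g : G}
    (hgV : g ∈ Subgroup.normalizer (V : Set G))
    (hg : g ∈ Subgroup.normalizer (W : Set G)) : IsCal q V W (MulAut.conj g • M) := by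
  refine ⟨hM.1.conj hg, ?_⟩
  intro hbot
  apply hM.2
  rw [eq_bot_iff]
  intro v hv
  rw [Subgroup.mem_bot]
  obtain ⟨hvV, hvM⟩ := Subgroup.mem_inf.mp hv
  have h1 : g * v * g⁻¹ ∈ V ⊓ Subgroup.centralizer ((MulAut.conj g • M : Subgroup G) : Set G) :=
    Subgroup.mem_inf.mpr ⟨(Subgroup.mem_normalizer_iff.mp hgV v).mp hvV,
      conj_mem_centralizer_conj hvM⟩
  rw [hbot, Subgroup.mem_bot] at h1
  calc v = g⁻¹ * (g * v * g⁻¹) * g := by group
    _ = 1 := by rw [h1]; group

theorem conj_smul_one_eq (M : Subgroup G) : MulAut.conj (1 : G) • M = M := by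
  rw [map_one, one_smul]

theorem conj_smul_mul_eq (g k : G) (M : Subgroup G) :
    MulAut.conj (g * k) • M = MulAut.conj g • MulAut.conj k • M := by
  rw [map_mul, mul_smul]

namespace FC

variable {p q r : ℕ} {V W P : Subgroup G} {x : G} [Finite G]

section
variable (h : FC p q r V W P x)
include h

/-- There is a hyperplane of `W` with nontrivial fixed points on `V`. -/
theorem exists_cal : ∃ M, IsCal q V W M := by
  haveI : Fact q.Prime := ⟨h.hq⟩
  have hV1 : ¬ V ≤ ⊥ := by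
    intro hle
    have hVbot : V = ⊥ := le_bot_iff.mp hle
    have h1 := h.hCVx
    have h2 : V ⊓ Subgroup.centralizer ({x} : Set G) = ⊥ := by
      rw [hVbot]; exact bot_inf_eq _
    rw [h2, Subgroup.card_bot] at h1
    exact h.hp.one_lt.ne h1
  have hqV : ¬ q ∣ Nat.card V := by
    obtain ⟨n, hn⟩ := h.exists_card_V
    rw [hn]
    intro hd
    exact h.hpq ((Nat.prime_dvd_prime_iff_eq h.hq h.hp).mp (h.hq.dvd_of_dvd_pow hd)).symm
  obtain ⟨B, hBW, hBcard, hBC⟩ := exists_hyperplane_centralizer W V ⊥ h.hWab h.W_exp hqV h.hWV hV1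
  have hBne : V ⊓ Subgroup.centralizer (B : Set G) ≠ ⊥ := fun h0 => hBC (le_of_eq h0)
  have hBW' : B ≠ W := by
    intro h0
    rw [h0] at hBne
    exact hBne h.hCVW
  refine ⟨B, ⟨hBW, ?_⟩, hBne⟩
  -- index computation
  obtain ⟨k, hk⟩ := Subgroup.card_dvd_of_le hBW
  have hBpos : 0 < Nat.card B := Nat.card_pos
  have hk1 : k ≠ 1 := by
    intro h1
    rw [h1, mul_one] at hk
    exact hBW' (Subgroup.eq_of_le_of_card_ge hBW (le_of_eq hk))
  have hkq : k ≤ q := by
    rw [hk, mul_comm] at hBcard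
    exact Nat.le_of_mul_le_mul_right hBcard hBpos
  have hkdvd : k ∣ q ^ r := by
    rw [← h.card_W, hk]; exact Dvd.intro_left _ rfl
  obtain ⟨j, _, hj⟩ := (Nat.dvd_prime_pow h.hq).mp hkdvd
  have hj1 : j = 1 := by
    rcases j with _ | _ | j
    · exact absurd hj (by simpa using hk1)
    · rfl
    · exfalso
      rw [hj] at hkq
      have : q ^ 1 < q ^ (j + 1 + 1) := Nat.pow_lt_pow_right h.hq.one_lt (by omega)
      rw [pow_one] at this
      omega
  rw [hj1, pow_one] at hj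
  rw [hk, hj, mul_comm]

/-- The norm map of a subgroup `M ≤ W` on `V`. -/
noncomputable def NV (M : Subgroup G) (hM : M ≤ W) : V →* V :=
  haveI := h.commV
  nrm M V (hM.trans h.hWV)

/-- The norm map of `⟨x⟩` on `V`. -/
noncomputable def NxV : V →* V :=
  haveI := h.commV
  nrm (Subgroup.zpowers x) V (h.zpowers_le_normalizer h.hxV)

/-- KEY (A): if `M M' = W` and `y` is fixed by `M'` then `N_M(y) = 1`. -/
theorem keyA {M M' : Subgroup G} (hM : M ≤ W) (hM' : M' ≤ W) (hsup : M ⊔ M' = W) (y : V)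
    (hy : ∀ m ∈ M', m * (y : G) = (y : G) * m) : h.NV M hM y = 1 := by
  haveI := h.commV
  have hle : M ⊔ M' ≤ Subgroup.centralizer ({((h.NV M hM y : V) : G)} : Set G) := by
    apply sup_le
    · intro m hm
      rw [Subgroup.mem_centralizer_singleton_iff]
      have h1 := congrArg Subtype.val (cj_nrm M V (hM.trans h.hWV) hm y)
      rw [cj_coe] at h1
      change m * ((h.NV M hM y : V) : G) * m⁻¹ = ((h.NV M hM y : V) : G) at h1
      calc m * ((h.NV M hM y : V) : G) = (m * ((h.NV M hM y : V) : G) * m⁻¹) * m := by group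
        _ = ((h.NV M hM y : V) : G) * m := by rw [h1]
    · intro c hc
      rw [Subgroup.mem_centralizer_singleton_iff]
      have h1 := congrArg Subtype.val (cj_nrm_of_commute M V (hM.trans h.hWV) (h.hWV (hM' hc))
        (fun m hm => h.hWab c (hM' hc) m (hM hm)) y (hy c hc))
      rw [cj_coe] at h1
      change c * ((h.NV M hM y : V) : G) * c⁻¹ = ((h.NV M hM y : V) : G) at h1
      calc c * ((h.NV M hM y : V) : G) = (c * ((h.NV M hM y : V) : G) * c⁻¹) * c := by group
        _ = ((h.NV M hM y : V) : G) * c := by rw [h1]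
  have hmem : ((h.NV M hM y : V) : G) ∈ V ⊓ Subgroup.centralizer (W : Set G) := by
    refine Subgroup.mem_inf.mpr ⟨(h.NV M hM y).2, ?_⟩
    rw [Subgroup.mem_centralizer_iff]
    intro w hw
    rw [← hsup] at hw
    exact Subgroup.mem_centralizer_singleton_iff.mp (hle hw)
  rw [h.hCVW, Subgroup.mem_bot] at hmem
  exact Subtype.ext hmem

/-- KEY (A) for two distinct hyperplanes. -/
theorem keyA' {M M' : Subgroup G} (hM : IsHyp q W M) (hM' : IsHyp q W M') (hne : M ≠ M') (y : V)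
    (hy : ∀ m ∈ M', m * (y : G) = (y : G) * m) : h.NV M hM.1 y = 1 := by
  apply h.keyA hM.1 hM'.1 _ y hy
  apply hyp_sup h.hq hM.1 hM'.1 hM.2 _ hne
  have h1 := hM.2
  rw [hM'.2] at h1
  exact (Nat.eq_of_mul_eq_mul_left h.hq.pos h1)

/-- KEY (B): a fixed point of `M` with trivial `M`-norm is trivial. -/
theorem keyB {M : Subgroup G} (hM : M ≤ W) (u : V) (hu : ∀ m ∈ M, m * (u : G) = (u : G) * m)
    (h1 : h.NV M hM u = 1) : u = 1 := by
  haveI := h.commV
  have h2 := nrm_of_fixed M V (hM.trans h.hWV) u hu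
  have h3 : u ^ Nat.card M = 1 := by rw [← h2]; exact h1
  obtain ⟨k, hk⟩ := h.exists_card_le_W hM
  obtain ⟨n, hn⟩ := h.exists_card_V
  have h4 : u ^ Nat.card V = 1 := pow_card_eq_one'
  rw [hk] at h3
  rw [hn] at h4
  exact eq_one_of_pow_coprime (h.cop_pq n k) h4 h3

/-- A conjugate of a fixed point is fixed by the conjugate subgroup. -/
theorem fixed_conj {M : Subgroup G} {t : G} (ht : t ∈ Subgroup.normalizer (V : Set G)) (u : V)
    (hu : ∀ m ∈ M, m * (u : G) = (u : G) * m) :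
    ∀ y ∈ MulAut.conj t • M, y * ((cj V t ht u : V) : G) = ((cj V t ht u : V) : G) * y := by
  have h1 : (u : G) ∈ Subgroup.centralizer (M : Set G) := Subgroup.mem_centralizer_iff.mpr hu
  have h2 := conj_mem_centralizer_conj (g := t) h1
  exact Subgroup.mem_centralizer_iff.mp h2

/-- If `M` is not `x`-invariant then `N_M ∘ N_x = N_M` on `C_V(M)`. -/
theorem modK {M : Subgroup G} (hM : IsHyp q W M) (hxM : x ∉ Subgroup.normalizer (M : Set G))
    (u : V) (hu : ∀ m ∈ M, m * (u : G) = (u : G) * m) :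
    h.NV M hM.1 (h.NxV u) = h.NV M hM.1 u := by
  haveI := h.commV
  apply map_nrm_eq (Subgroup.zpowers x) V (h.zpowers_le_normalizer h.hxV) (h.NV M hM.1) u
  intro t ht ht1
  have htW : t ∈ Subgroup.normalizer (W : Set G) := h.zpowers_le_normalizer h.hxW ht
  apply h.keyA' hM (hM.conj htW) _ _ (h.fixed_conj _ u hu)
  intro heq
  apply hxM
  have htM : t ∈ Subgroup.normalizer (M : Set G) := mem_normalizer_iff_conj_smul.mpr heq.symm
  have hxt := mem_zpowers_of_prime_order h.hr h.hx ht ht1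
  exact (Subgroup.zpowers_le.mpr htM) hxt

/-- If no `x`-conjugate of `M'` equals `M` then `N_M ∘ N_x = 1` on `C_V(M')`. -/
theorem allK {M M' : Subgroup G} (hM : IsHyp q W M) (hM' : IsHyp q W M')
    (hne : ∀ t ∈ Subgroup.zpowers x, MulAut.conj t • M' ≠ M)
    (u : V) (hu : ∀ m ∈ M', m * (u : G) = (u : G) * m) :
    h.NV M hM.1 (h.NxV u) = 1 := by
  haveI := h.commV
  apply map_nrm_eq_one (Subgroup.zpowers x) V (h.zpowers_le_normalizer h.hxV) (h.NV M hM.1) u
  intro t ht
  have htW : t ∈ Subgroup.normalizer (W : Set G) := h.zpowers_le_normalizer h.hxW ht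
  exact h.keyA' hM (hM'.conj htW) (hne t ht).symm _ (h.fixed_conj _ u hu)

/-- The norm `N_x` on `V` takes values in `C_V(x)`. -/
theorem NxV_mem (u : V) : ((h.NxV u : V) : G) ∈ V ⊓ Subgroup.centralizer ({x} : Set G) := by
  haveI := h.commV
  refine Subgroup.mem_inf.mpr ⟨(h.NxV u).2, ?_⟩
  rw [Subgroup.mem_centralizer_singleton_iff]
  have h1 := congrArg Subtype.val (cj_nrm (Subgroup.zpowers x) V (h.zpowers_le_normalizer h.hxV)
    (Subgroup.mem_zpowers x) u)
  rw [cj_coe] at h1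
  change x * ((h.NxV u : V) : G) * x⁻¹ = ((h.NxV u : V) : G) at h1
  calc ((h.NxV u : V) : G) * x = (x * ((h.NxV u : V) : G) * x⁻¹) * x := by rw [h1]
    _ = x * ((h.NxV u : V) : G) := by group

/-- Claim 1, injectivity of `N_x` on `C_V(M)`. -/
theorem claim1_inj {M : Subgroup G} (hM : IsHyp q W M) (hxM : x ∉ Subgroup.normalizer (M : Set G))
    (u : V) (hu : ∀ m ∈ M, m * (u : G) = (u : G) * m) (h1 : h.NxV u = 1) : u = 1 := by
  apply h.keyB hM.1 u hu
  rw [← h.modK hM hxM u hu, h1, map_one]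

/-- `N_x` restricted to `C_V(M)`, with values in `C_V(x)`. -/
noncomputable def NxRes (M : Subgroup G) :
    ↥(V ⊓ Subgroup.centralizer (M : Set G)) →* ↥(V ⊓ Subgroup.centralizer ({x} : Set G)) :=
  MonoidHom.codRestrict ((V.subtype.comp h.NxV).comp (Subgroup.inclusion inf_le_left)) _
    (fun _ => h.NxV_mem _)

theorem NxRes_coe (M : Subgroup G) (u : ↥(V ⊓ Subgroup.centralizer (M : Set G))) :
    ((h.NxRes M u : ↥(V ⊓ Subgroup.centralizer ({x} : Set G))) : G) =
      ((h.NxV ⟨u, u.2.1⟩ : V) : G) := rfl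

/-- Claim 1: if `M ∈ calM` is not `x`-invariant then `|C_V(M)| = p` and `N_x` maps `C_V(M)` onto
`C_V(x)`. -/
theorem claim1 {M : Subgroup G} (hM : IsCal q V W M)
    (hxM : x ∉ Subgroup.normalizer (M : Set G)) :
    Nat.card ↥(V ⊓ Subgroup.centralizer (M : Set G)) = p ∧
      ∀ c ∈ V ⊓ Subgroup.centralizer ({x} : Set G), ∃ u : V,
        (∀ m ∈ M, m * (u : G) = (u : G) * m) ∧ ((h.NxV u : V) : G) = c := by
  have hinj : Function.Injective (h.NxRes M) := by
    rw [injective_iff_map_eq_one]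
    intro u hu
    have hu' : h.NxV ⟨u, u.2.1⟩ = 1 := by
      apply Subtype.ext
      rw [← h.NxRes_coe, hu]
      rfl
    have h3 := h.claim1_inj hM.1 hxM ⟨u, u.2.1⟩ (Subgroup.mem_centralizer_iff.mp u.2.2) hu'
    apply Subtype.ext
    have h4 := congrArg Subtype.val h3
    exact h4
  have hle : Nat.card ↥(V ⊓ Subgroup.centralizer (M : Set G)) ≤ p := by
    have := Nat.card_le_card_of_injective _ hinj
    rwa [h.hCVx] at this
  obtain ⟨k, hk⟩ := h.exists_card_le_V (inf_le_left : V ⊓ Subgroup.centralizer (M : Set G) ≤ V)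
  have hk0 : k ≠ 0 := by
    intro h0
    rw [h0, pow_zero] at hk
    exact hM.2 (Subgroup.card_eq_one.mp hk)
  have hge : p ≤ Nat.card ↥(V ⊓ Subgroup.centralizer (M : Set G)) := by
    rw [hk]
    exact Nat.le_self_pow hk0 p
  have hcard : Nat.card ↥(V ⊓ Subgroup.centralizer (M : Set G)) = p := le_antisymm hle hge
  refine ⟨hcard, ?_⟩
  have hbij : Function.Bijective (h.NxRes M) :=
    hinj.bijective_of_nat_card_le (by rw [h.hCVx, hcard])
  intro c hc
  obtain ⟨u, hu⟩ := hbij.2 ⟨c, hc⟩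
  refine ⟨⟨u, u.2.1⟩, Subgroup.mem_centralizer_iff.mp u.2.2, ?_⟩
  rw [← h.NxRes_coe, hu]

/-- Claim 2: two members of `calM`, both not `x`-invariant, are `x`-conjugate. -/
theorem claim2 {M M' : Subgroup G} (hM : IsCal q V W M) (hM' : IsCal q V W M')
    (hxM : x ∉ Subgroup.normalizer (M : Set G)) (hxM' : x ∉ Subgroup.normalizer (M' : Set G))
    (hne : ∀ t ∈ Subgroup.zpowers x, MulAut.conj t • M' ≠ M) : False := by
  obtain ⟨u₀, hu₀, hu₀1⟩ : ∃ u₀ ∈ V ⊓ Subgroup.centralizer (M : Set G), u₀ ≠ 1 := by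
    by_contra hcon
    push Not at hcon
    apply hM.2
    rw [eq_bot_iff]
    intro g hg
    rw [Subgroup.mem_bot]
    exact hcon g hg
  have hu : ∀ m ∈ M, m * ((⟨u₀, hu₀.1⟩ : V) : G) = ((⟨u₀, hu₀.1⟩ : V) : G) * m :=
    Subgroup.mem_centralizer_iff.mp hu₀.2
  obtain ⟨u', hu', hc⟩ := (h.claim1 hM' hxM').2 _ (h.NxV_mem ⟨u₀, hu₀.1⟩)
  have h1 : h.NxV u' = h.NxV ⟨u₀, hu₀.1⟩ := Subtype.ext hc
  have h2 := h.allK hM.1 hM'.1 hne u' hu'
  rw [h1, h.modK hM.1 hxM _ hu] at h2
  have := h.keyB hM.1.1 _ hu h2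
  exact hu₀1 (congrArg Subtype.val this)

end

end FC

end Cfsg.Agent.Lib.Helper91
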