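import Mathlib
import Cfsg.Agent.Lib.Helper91.BG36B

/-!
MODULE B (`final_case`) for S1444 (BG Theorem 3.6), part C: Claims 3 and 4
(helper91, from helper9's sketch).
-/

set_option autoImplicit false
set_option linter.style.haveILetI false
set_option linter.unusedSectionVars false

namespace Cfsg.Agent.Lib.Helper91

open scoped IsMulCommutative Pointwise
open Cfsg.Agent.Lib.Helper54

variable {G : Type*} [Group G]

theorem mem_normalizer_inf' {g : G} {X Y : Subgroup G}
    (hX : g ∈ Subgroup.normalizer (X : Set G)) (hY : g ∈ Subgroup.normalizer (Y : Set G)) :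
    g ∈ Subgroup.normalizer ((X ⊓ Y : Subgroup G) : Set G) := by
  rw [Subgroup.mem_normalizer_iff]
  intro k
  rw [Subgroup.mem_inf, Subgroup.mem_inf, ← Subgroup.mem_normalizer_iff.mp hX k,
    ← Subgroup.mem_normalizer_iff.mp hY k]

theorem mem_centralizer_sup' {v : G} {M A : Subgroup G}
    (h1 : v ∈ Subgroup.centralizer (M : Set G)) (h2 : v ∈ Subgroup.centralizer (A : Set G)) :
    v ∈ Subgroup.centralizer ((M ⊔ A : Subgroup G) : Set G) := by
  have hle : M ⊔ A ≤ Subgroup.centralizer ({v} : Set G) := by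
    apply sup_le
    · intro m hm
      rw [Subgroup.mem_centralizer_singleton_iff]
      exact Subgroup.mem_centralizer_iff.mp h1 m hm
    · intro m hm
      rw [Subgroup.mem_centralizer_singleton_iff]
      exact Subgroup.mem_centralizer_iff.mp h2 m hm
  rw [Subgroup.mem_centralizer_iff]
  intro w hw
  exact Subgroup.mem_centralizer_singleton_iff.mp (hle hw)

/-- A subgroup commuting elementwise with `M` normalizes `M`. -/
theorem le_normalizer_of_commute {A M : Subgroup G} (hc : ∀ a ∈ A, ∀ m ∈ M, a * m = m * a) :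
    A ≤ Subgroup.normalizer (M : Set G) := by
  intro a ha
  apply Subgroup.centralizer_le_normalizer
  rw [Subgroup.mem_centralizer_iff]
  intro m hm
  exact (hc a ha m hm).symm

theorem mem_normalizer_normalizer {g : G} {A : Subgroup G}
    (hg : g ∈ Subgroup.normalizer (A : Set G)) :
    g ∈ Subgroup.normalizer ((Subgroup.normalizer (A : Set G) : Subgroup G) : Set G) :=
  Subgroup.le_normalizer hg

/-- A `p`-group normalizing a group of order `p` centralizes it. -/
theorem commute_of_card_prime [Finite G] {p : ℕ} (hp : p.Prime) {P X : Subgroup G}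
    (hP : IsPGroup p P) (hX : Nat.card X = p) (hPX : P ≤ Subgroup.normalizer (X : Set G)) :
    ∀ g ∈ P, ∀ u ∈ X, g * u = u * g := by
  haveI : Fact p.Prime := ⟨hp⟩
  have hXp : IsPGroup p X := IsPGroup.of_card (n := 1) (by rw [hX, pow_one])
  have hS : IsPGroup p ↥(P ⊔ X) := IsPGroup.to_sup_of_normal_right' hP hXp hPX
  haveI : (X.subgroupOf (P ⊔ X)).Normal :=
    (Subgroup.normal_subgroupOf_iff_le_normalizer le_sup_right).mpr
      (sup_le hPX Subgroup.le_normalizer)
  have hcard : Nat.card (X.subgroupOf (P ⊔ X)) = p := by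
    rw [Nat.card_congr (Subgroup.subgroupOfEquivOfLe (le_sup_right : X ≤ P ⊔ X)).toEquiv, hX]
  have hcen := Cfsg.Agent.Lib.Helper63.normal_card_prime_le_center hS (X.subgroupOf (P ⊔ X)) hcard
  intro g hg u hu
  have hu' : (⟨u, (le_sup_right : X ≤ P ⊔ X) hu⟩ : ↥(P ⊔ X)) ∈ X.subgroupOf (P ⊔ X) := by
    rw [Subgroup.mem_subgroupOf]; exact hu
  have h1 := Subgroup.mem_center_iff.mp (hcen hu') ⟨g, (le_sup_left : P ≤ P ⊔ X) hg⟩
  exact congrArg Subtype.val h1

/-- An element normalizing `H` and `K` normalizes `⁅H, K⁆`. -/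
theorem mem_normalizer_commutator {g : G} {H K : Subgroup G}
    (hH : g ∈ Subgroup.normalizer (H : Set G)) (hK : g ∈ Subgroup.normalizer (K : Set G)) :
    g ∈ Subgroup.normalizer ((⁅H, K⁆ : Subgroup G) : Set G) := by
  rw [mem_normalizer_iff_conj_smul] at hH hK ⊢
  have h1 : ∀ L : Subgroup G, MulAut.conj g • L = L.map (MulAut.conj g).toMonoidHom :=
    fun _ => rfl
  rw [h1, Subgroup.map_commutator, ← h1, ← h1, hH, hK]

namespace FC

variable {p q r : ℕ} {V W P : Subgroup G} {x : G} [Finite G]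

section
variable (h : FC p q r V W P x)
include h

theorem isHyp_A : IsHyp q W h.A := ⟨h.A_le, h.card_A⟩

theorem W_le_normalizer_of_le {M : Subgroup G} (hM : M ≤ W) :
    W ≤ Subgroup.normalizer (M : Set G) :=
  le_normalizer_of_commute (fun a ha m hm => h.hWab a ha m (hM hm))

/-- Claim 3: an `x`-invariant member of `calM` equals `A`. -/
theorem claim3 {M : Subgroup G} (hM : IsCal q V W M)
    (hxM : x ∈ Subgroup.normalizer (M : Set G)) : M = h.A := by
  by_contra hne
  have hcardMA : Nat.card h.A = Nat.card M := by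
    have h1 := hM.1.2
    rw [h.card_A] at h1
    exact Nat.eq_of_mul_eq_mul_left h.hq.pos h1
  have hsup : M ⊔ h.A = W := hyp_sup h.hq hM.1.1 h.A_le hM.1.2 hcardMA hne
  have hAnM : h.A ≤ Subgroup.normalizer (M : Set G) := h.A_le.trans (h.W_le_normalizer_of_le hM.1.1)
  -- `X = C_V(M)`
  have hAX : h.A ≤ Subgroup.normalizer
      ((V ⊓ Subgroup.centralizer (M : Set G) : Subgroup G) : Set G) :=
    le_normalizer_inf (h.A_le.trans h.hWV) (fun a ha => mem_normalizer_centralizer (hAnM ha))
  have hxX : x ∈ Subgroup.normalizer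
      ((V ⊓ Subgroup.centralizer (M : Set G) : Subgroup G) : Set G) :=
    mem_normalizer_inf' h.hxV (mem_normalizer_centralizer hxM)
  have hVMA : ∀ v ∈ V, v ∈ Subgroup.centralizer (M : Set G) →
      v ∈ Subgroup.centralizer (h.A : Set G) → v = 1 := by
    intro v hvV hvM hvA
    have h1 := mem_centralizer_sup' hvM hvA
    rw [hsup] at h1
    have h2 : v ∈ V ⊓ Subgroup.centralizer (W : Set G) := Subgroup.mem_inf.mpr ⟨hvV, h1⟩
    rw [h.hCVW, Subgroup.mem_bot] at h2
    exact h2
  have hXA : (V ⊓ Subgroup.centralizer (M : Set G)) ⊓ Subgroup.centralizer (h.A : Set G) = ⊥ := by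
    rw [eq_bot_iff]
    intro v hv
    rw [Subgroup.mem_bot]
    exact hVMA v hv.1.1 hv.1.2 hv.2
  obtain ⟨a, ha⟩ := h.exists_card_le_V
    (inf_le_left : V ⊓ Subgroup.centralizer (M : Set G) ≤ V)
  obtain ⟨b, hb⟩ := h.exists_card_le_W h.A_le
  obtain ⟨n, hn⟩ := h.exists_card_V
  have hfrob := Cfsg.Agent.Lib.Helper9.frob_card_eq h.hr x h.hx h.A
    (V ⊓ Subgroup.centralizer (M : Set G)) h.A_ne_bot h.x_mem_normalizer_A h.A_inf_cent_x hAX hxX
    (by rw [ha, hb]; exact h.cop_pq a b) (by rw [ha]; exact h.cop_pr a)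
    (by rw [hb]; exact h.cop_qr b) (h.isSolvable_of_le_V inf_le_left) hXA
  -- `C_X(x) = C_V(x)`
  have hle : (V ⊓ Subgroup.centralizer (M : Set G)) ⊓ Subgroup.centralizer ({x} : Set G) ≤
      V ⊓ Subgroup.centralizer ({x} : Set G) := inf_le_inf_right _ inf_le_left
  have hdvd := Subgroup.card_dvd_of_le hle
  rw [h.hCVx] at hdvd
  have hcardXx : Nat.card ↥((V ⊓ Subgroup.centralizer (M : Set G)) ⊓
      Subgroup.centralizer ({x} : Set G)) = p := by
    rcases (Nat.dvd_prime h.hp).mp hdvd with h1 | h1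
    · exfalso
      rw [h1, one_pow] at hfrob
      exact hM.2 (Subgroup.card_eq_one.mp hfrob)
    · exact h1
  have hXxeq : (V ⊓ Subgroup.centralizer (M : Set G)) ⊓ Subgroup.centralizer ({x} : Set G) =
      V ⊓ Subgroup.centralizer ({x} : Set G) :=
    Subgroup.eq_of_le_of_card_ge hle (by rw [hcardXx, h.hCVx])
  have hCVxM : V ⊓ Subgroup.centralizer ({x} : Set G) ≤ Subgroup.centralizer (M : Set G) := by
    rw [← hXxeq]
    exact inf_le_left.trans inf_le_right
  rw [hcardXx] at hfrob
  -- Wielandt on `V`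
  have hform := Cfsg.Agent.Lib.Helper9.frob_formula h.hr x h.hx h.A V h.A_ne_bot
    h.x_mem_normalizer_A h.A_inf_cent_x (h.A_le.trans h.hWV) h.hxV
    (by rw [hn, hb]; exact h.cop_pq n b) (by rw [hn]; exact h.cop_pr n)
    (by rw [hb]; exact h.cop_qr b) (h.isSolvable_of_le_V le_rfl)
  have hbot : V ⊓ Subgroup.centralizer ((h.A ⊔ Subgroup.zpowers x : Subgroup G) : Set G) = ⊥ := by
    rw [eq_bot_iff]
    intro v hv
    rw [Subgroup.mem_bot]
    obtain ⟨hvV, hvC⟩ := Subgroup.mem_inf.mp hv
    have hvA : v ∈ Subgroup.centralizer (h.A : Set G) :=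
      Subgroup.centralizer_le (by exact_mod_cast (le_sup_left : h.A ≤ h.A ⊔ Subgroup.zpowers x)) hvC
    have hvx : v ∈ Subgroup.centralizer ({x} : Set G) := by
      rw [Subgroup.mem_centralizer_singleton_iff]
      exact (Subgroup.mem_centralizer_iff.mp hvC x
        ((le_sup_right : Subgroup.zpowers x ≤ h.A ⊔ Subgroup.zpowers x)
          (Subgroup.mem_zpowers x))).symm
    exact hVMA v hvV (hCVxM (Subgroup.mem_inf.mpr ⟨hvV, hvx⟩)) hvA
  rw [hbot, Subgroup.card_bot, one_pow, one_mul, h.hCVx, ← hfrob] at hform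
  -- `V = X * Y`
  have hXY : (V ⊓ Subgroup.centralizer (M : Set G)) ⊓ (V ⊓ Subgroup.centralizer (h.A : Set G)) =
      ⊥ := by
    rw [eq_bot_iff, ← hXA]
    exact inf_le_inf_left _ inf_le_right
  have hYnX : V ⊓ Subgroup.centralizer (h.A : Set G) ≤ Subgroup.normalizer
      ((V ⊓ Subgroup.centralizer (M : Set G) : Subgroup G) : Set G) :=
    le_normalizer_of_commute (fun y hy v hv => h.hVab y hy.1 v hv.1)
  have hcardsup := card_sup_of_le_normalizer hYnX hXY
  rw [← hform] at hcardsup
  have hsupV : (V ⊓ Subgroup.centralizer (M : Set G)) ⊔ (V ⊓ Subgroup.centralizer (h.A : Set G)) =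
      V := Subgroup.eq_of_le_of_card_ge (sup_le inf_le_left inf_le_left) (le_of_eq hcardsup.symm)
  -- `M ∩ A` centralizes `V`
  have hMA : M ⊓ h.A = ⊥ := by
    rw [eq_bot_iff]
    intro g hg
    rw [Subgroup.mem_bot]
    apply h.hfaith g (hM.1.1 hg.1)
    intro v hv
    have hle2 : (V ⊓ Subgroup.centralizer (M : Set G)) ⊔
        (V ⊓ Subgroup.centralizer (h.A : Set G)) ≤ Subgroup.centralizer ({g} : Set G) := by
      apply sup_le
      · intro y hy
        rw [Subgroup.mem_centralizer_singleton_iff]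
        exact (Subgroup.mem_centralizer_iff.mp hy.2 g hg.1).symm
      · intro y hy
        rw [Subgroup.mem_centralizer_singleton_iff]
        exact (Subgroup.mem_centralizer_iff.mp hy.2 g hg.2).symm
    rw [hsupV] at hle2
    exact (Subgroup.mem_centralizer_singleton_iff.mp (hle2 hv)).symm
  have hcard2 := card_sup_of_le_normalizer hAnM hMA
  rw [hsup, hM.1.2] at hcard2
  have hMpos : 0 < Nat.card M := Nat.card_pos
  have hqA : q = Nat.card h.A := by
    rw [mul_comm] at hcard2
    exact Nat.eq_of_mul_eq_mul_left hMpos hcard2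
  have := h.q_lt_card_A
  omega

/-- If `A ∈ calM` then `N_P(A) = 1`. -/
theorem P_inf_normalizer_A : P ⊓ Subgroup.normalizer (h.A : Set G) = ⊥ := by
  have hx : x ∈ Subgroup.normalizer
      ((P ⊓ Subgroup.normalizer (h.A : Set G) : Subgroup G) : Set G) :=
    mem_normalizer_inf' h.hxP (mem_normalizer_normalizer h.x_mem_normalizer_A)
  rcases h.hPirr _ inf_le_left hx with h1 | h1
  · exact h1
  · exfalso
    have hPA : P ≤ Subgroup.normalizer (h.A : Set G) := inf_eq_left.mp h1
    rcases h.hWirr h.A h.A_le hPA h.x_mem_normalizer_A with h2 | h2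
    · exact h.A_ne_bot h2
    · exact h.A_ne_W h2

/-- Claim 4: `C_V(A) = 1`. -/
theorem claim4 : V ⊓ Subgroup.centralizer (h.A : Set G) = ⊥ := by
  by_contra hcon
  have hcal : IsCal q V W h.A := ⟨h.isHyp_A, hcon⟩
  have hNPA := h.P_inf_normalizer_A
  -- conjugates of `A` by nontrivial elements of `P` are not `x`-invariant
  have hnot : ∀ k ∈ P, k ≠ 1 → x ∉ Subgroup.normalizer ((MulAut.conj k • h.A : Subgroup G) : Set G) := by
    intro k hk hk1 hxk
    have h1 := h.claim3 (hcal.conj (h.hPV hk) (h.hPW hk)) hxk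
    have h2 : k ∈ P ⊓ Subgroup.normalizer (h.A : Set G) :=
      Subgroup.mem_inf.mpr ⟨hk, mem_normalizer_iff_conj_smul.mpr h1⟩
    rw [hNPA, Subgroup.mem_bot] at h2
    exact hk1 h2
  have hall : ∀ g ∈ P, g = 1 := by
    intro g hg
    by_contra hg1
    have hginv : g⁻¹ ∈ P := P.inv_mem hg
    have hginv1 : g⁻¹ ≠ 1 := fun h0 => hg1 (inv_eq_one.mp h0)
    have hex : ∃ t ∈ Subgroup.zpowers x,
        MulAut.conj t • (MulAut.conj g • h.A) = MulAut.conj g⁻¹ • h.A := by
      by_contra hno
      push Not at hno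
      exact h.claim2 (hcal.conj (h.hPV hginv) (h.hPW hginv)) (hcal.conj (h.hPV hg) (h.hPW hg))
        (hnot _ hginv hginv1) (hnot g hg hg1) hno
    obtain ⟨t, ht, hteq⟩ := hex
    have htA : t ∈ Subgroup.normalizer (h.A : Set G) :=
      h.zpowers_le_normalizer h.x_mem_normalizer_A ht
    have htP : t ∈ Subgroup.normalizer (P : Set G) := h.zpowers_le_normalizer h.hxP ht
    have h1 : g * t * g ∈ Subgroup.normalizer (h.A : Set G) := by
      rw [mem_normalizer_iff_conj_smul, conj_smul_mul_eq, conj_smul_mul_eq, hteq,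
        ← conj_smul_mul_eq, mul_inv_cancel, conj_smul_one_eq]
    have h2 : g * (t * g * t⁻¹) ∈ P ⊓ Subgroup.normalizer (h.A : Set G) := by
      refine Subgroup.mem_inf.mpr ⟨P.mul_mem hg ((Subgroup.mem_normalizer_iff.mp htP g).mp hg), ?_⟩
      have h3 : g * (t * g * t⁻¹) = (g * t * g) * t⁻¹ := by group
      rw [h3]
      exact (Subgroup.normalizer (h.A : Set G)).mul_mem h1
        ((Subgroup.normalizer (h.A : Set G)).inv_mem htA)
    rw [hNPA, Subgroup.mem_bot] at h2
    have h3 : t * g * t⁻¹ = g⁻¹ := by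
      calc t * g * t⁻¹ = g⁻¹ * (g * (t * g * t⁻¹)) := by group
        _ = g⁻¹ := by rw [h2, mul_one]
    have h4 : (t * t) * g = g * (t * t) := by
      have h5 : t * g⁻¹ * t⁻¹ = g := by
        calc t * g⁻¹ * t⁻¹ = (t * g * t⁻¹)⁻¹ := by group
          _ = g := by rw [h3, inv_inv]
      calc (t * t) * g = t * (t * g * t⁻¹) * t⁻¹ * (t * t) := by group
        _ = (t * g⁻¹ * t⁻¹) * (t * t) := by rw [h3]
        _ = g * (t * t) := by rw [h5]
    have htt : t * t = 1 := by
      by_contra htt1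
      have hxg := Cfsg.Agent.Lib.Helper9.commute_of_commute_zpowers_prime h.hr h.hx
        ((Subgroup.zpowers x).mul_mem ht ht) htt1 h4
      have : g ∈ P ⊓ Subgroup.centralizer ({x} : Set G) := by
        refine Subgroup.mem_inf.mpr ⟨hg, ?_⟩
        rw [Subgroup.mem_centralizer_singleton_iff]
        exact hxg.symm
      rw [h.hCPx, Subgroup.mem_bot] at this
      exact hg1 this
    have ht1 : t = 1 := eq_one_of_sq_of_odd h.hodd htt
    rw [ht1, one_mul, inv_one, mul_one] at h3
    apply hg1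
    apply eq_one_of_sq_of_odd h.hodd
    calc g * g = g * g⁻¹ := by rw [← h3]
      _ = 1 := mul_inv_cancel g
  apply h.P_ne_bot
  rw [eq_bot_iff]
  intro g hg
  rw [Subgroup.mem_bot]
  exact hall g hg

/-- No member of `calM` is `x`-invariant. -/
theorem not_xinv {M : Subgroup G} (hM : IsCal q V W M) :
    x ∉ Subgroup.normalizer (M : Set G) := by
  intro hxM
  have h1 := h.claim3 hM hxM
  apply hM.2
  rw [h1]
  exact h.claim4

/-- Any two members of `calM` are conjugate under `⟨x⟩`. -/
theorem exists_conj {M M' : Subgroup G} (hM : IsCal q V W M) (hM' : IsCal q V W M') :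
    ∃ t ∈ Subgroup.zpowers x, MulAut.conj t • M' = M := by
  by_contra hno
  push Not at hno
  exact h.claim2 hM hM' (h.not_xinv hM) (h.not_xinv hM') hno

end

end FC

end Cfsg.Agent.Lib.Helper91
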