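import Mathlib
import Cfsg.Agent.Lib.Helper91.BG36C

/-!
MODULE B (`final_case`) for S1444 (BG Theorem 3.6), part D: Claim 5 and the final statement
(helper91, from helper9's sketch).
-/

set_option autoImplicit false
set_option linter.style.haveILetI false
set_option linter.unusedSectionVars false

namespace Cfsg.Agent.Lib.Helper91

open scoped IsMulCommutative Pointwise
open Cfsg.Agent.Lib.Helper54

variable {G : Type*} [Group G]

namespace FC

variable {p q r : ℕ} {V W P : Subgroup G} {x : G} [Finite G]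

section
variable (h : FC p q r V W P x)
include h

/-- Claim 5: the configuration is contradictory. -/
theorem false_of_FC : False := by
  haveI : Fact p.Prime := ⟨h.hp⟩
  obtain ⟨M₀, hM₀⟩ := h.exists_cal
  -- the action of `P` on `calM`
  letI act : MulAction ↥P {M : Subgroup G // IsCal q V W M} :=
    { smul := fun g M => ⟨MulAut.conj (g : G) • M.1, M.2.conj (h.hPV g.2) (h.hPW g.2)⟩
      one_smul := fun M => Subtype.ext (conj_smul_one_eq M.1)
      mul_smul := fun g k M => Subtype.ext (conj_smul_mul_eq (g : G) (k : G) M.1) }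
  -- `calM` is a regular `⟨x⟩`-orbit
  let f : Subgroup.zpowers x → {M : Subgroup G // IsCal q V W M} := fun t =>
    ⟨MulAut.conj (t : G) • M₀, hM₀.conj (h.zpowers_le_normalizer h.hxV t.2)
      (h.zpowers_le_normalizer h.hxW t.2)⟩
  have hf : Function.Bijective f := by
    constructor
    · intro t t' htt'
      have h1 : MulAut.conj (t : G) • M₀ = MulAut.conj (t' : G) • M₀ := congrArg Subtype.val htt'
      have h2 : MulAut.conj ((t' : G)⁻¹ * t) • M₀ = M₀ := by
        rw [conj_smul_mul_eq, h1, ← conj_smul_mul_eq, inv_mul_cancel, conj_smul_one_eq]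
      by_contra hne
      have h3 : (t' : G)⁻¹ * t ≠ 1 := by
        intro h0
        apply hne
        apply Subtype.ext
        calc (t : G) = t' * ((t' : G)⁻¹ * t) := by group
          _ = t' := by rw [h0, mul_one]
      have h4 : (t' : G)⁻¹ * t ∈ Subgroup.zpowers x :=
        (Subgroup.zpowers x).mul_mem ((Subgroup.zpowers x).inv_mem t'.2) t.2
      have h5 := mem_zpowers_of_prime_order h.hr h.hx h4 h3
      have h6 : (t' : G)⁻¹ * t ∈ Subgroup.normalizer (M₀ : Set G) :=
        mem_normalizer_iff_conj_smul.mpr h2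
      exact h.not_xinv hM₀ ((Subgroup.zpowers_le.mpr h6) h5)
    · intro M
      obtain ⟨t, ht, hteq⟩ := h.exists_conj M.2 hM₀
      exact ⟨⟨t, ht⟩, Subtype.ext hteq⟩
  have hcard : Nat.card {M : Subgroup G // IsCal q V W M} = r := by
    rw [← Nat.card_congr (Equiv.ofBijective f hf), h.card_zpowers_x]
  have hnd : ¬ p ∣ Nat.card {M : Subgroup G // IsCal q V W M} := by
    rw [hcard]
    intro hd
    exact h.hpr ((Nat.prime_dvd_prime_iff_eq h.hp h.hr).mp hd)
  obtain ⟨M₁, hM₁⟩ := h.hP.nonempty_fixed_point_of_prime_not_dvd_card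
    {M : Subgroup G // IsCal q V W M} hnd
  obtain ⟨M, hM⟩ := M₁
  have hPM : P ≤ Subgroup.normalizer (M : Set G) := by
    intro g hg
    rw [mem_normalizer_iff_conj_smul]
    have h1 := MulAction.mem_fixedPoints.mp hM₁ ⟨g, hg⟩
    exact congrArg Subtype.val h1
  have hxM := h.not_xinv hM
  have hcardX := (h.claim1 hM hxM).1
  have hPX : P ≤ Subgroup.normalizer
      ((V ⊓ Subgroup.centralizer (M : Set G) : Subgroup G) : Set G) :=
    le_normalizer_inf h.hPV (fun g hg => mem_normalizer_centralizer (hPM hg))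
  have hcomm := commute_of_card_prime h.hp h.hP hcardX hPX
  have hWX : W ≤ Subgroup.normalizer
      ((V ⊓ Subgroup.centralizer (M : Set G) : Subgroup G) : Set G) :=
    le_normalizer_inf h.hWV
      (fun w hw => mem_normalizer_centralizer (h.W_le_normalizer_of_le hM.1.1 hw))
  have hcommle : ⁅W, P⁆ ≤ W ⊓ Subgroup.centralizer
      ((V ⊓ Subgroup.centralizer (M : Set G) : Subgroup G) : Set G) := by
    rw [Subgroup.commutator_le]
    intro w hw g hg
    refine Subgroup.mem_inf.mpr ⟨?_, ?_⟩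
    · rw [commutatorElement_def]
      have h1 : w * g * w⁻¹ * g⁻¹ = w * (g * w⁻¹ * g⁻¹) := by group
      rw [h1]
      exact W.mul_mem hw ((Subgroup.mem_normalizer_iff.mp (h.hPW hg) _).mp (W.inv_mem hw))
    · rw [Subgroup.mem_centralizer_iff]
      intro u hu
      have hu' : w⁻¹ * u * w ∈ V ⊓ Subgroup.centralizer (M : Set G) :=
        (Subgroup.mem_normalizer_iff''.mp (hWX hw) u).mp hu
      have h1 := hcomm g hg u hu
      have h2 := hcomm g hg _ hu'
      have h3 : u * g⁻¹ = g⁻¹ * u := by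
        calc u * g⁻¹ = g⁻¹ * (g * u) * g⁻¹ := by group
          _ = g⁻¹ * (u * g) * g⁻¹ := by rw [h1]
          _ = g⁻¹ * u := by group
      rw [commutatorElement_def]
      calc u * (w * g * w⁻¹ * g⁻¹) = w * ((w⁻¹ * u * w) * g) * w⁻¹ * g⁻¹ := by group
        _ = w * (g * (w⁻¹ * u * w)) * w⁻¹ * g⁻¹ := by rw [h2]
        _ = w * g * w⁻¹ * (u * g⁻¹) := by group
        _ = w * g * w⁻¹ * (g⁻¹ * u) := by rw [h3]
        _ = w * g * w⁻¹ * g⁻¹ * u := by group
  have hPc : P ≤ Subgroup.normalizer ((⁅W, P⁆ : Subgroup G) : Set G) :=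
    fun g hg => mem_normalizer_commutator (h.hPW hg) (Subgroup.le_normalizer hg)
  have hxc : x ∈ Subgroup.normalizer ((⁅W, P⁆ : Subgroup G) : Set G) :=
    mem_normalizer_commutator h.hxW h.hxP
  rcases h.hWirr ⁅W, P⁆ (hcommle.trans inf_le_left) hPc hxc with h1 | h1
  · have h2 := Subgroup.commutator_eq_bot_iff_le_centralizer.mp h1
    apply h.hPncW
    intro g hg
    rw [Subgroup.mem_centralizer_iff]
    intro w hw
    exact (Subgroup.mem_centralizer_iff.mp (h2 hw) g hg).symm
  · apply hM.2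
    rw [eq_bot_iff, ← h.hCVW]
    intro u hu
    refine Subgroup.mem_inf.mpr ⟨hu.1, ?_⟩
    rw [Subgroup.mem_centralizer_iff]
    intro w hw
    have h2 : w ∈ ⁅W, P⁆ := by rw [h1]; exact hw
    have h3 := (hcommle h2).2
    exact (Subgroup.mem_centralizer_iff.mp h3 u hu).symm

end

end FC

/-- **MODULE B** of S1444 (BG Theorem 3.6): the final configuration is impossible. -/
theorem final_case {G : Type*} [Group G] [Finite G] (hodd : Odd (Nat.card G)) {p q r : ℕ}
    (hp : p.Prime) (hq : q.Prime) (hr : r.Prime) (hpq : p ≠ q) (hpr : p ≠ r) (hqr : q ≠ r)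
    (V W P : Subgroup G) (x : G) (hx : orderOf x = r)
    (hVab : ∀ a ∈ V, ∀ b ∈ V, a * b = b * a) (hVp : IsPGroup p V)
    (hWab : ∀ a ∈ W, ∀ b ∈ W, a * b = b * a) (hWq : IsPGroup q W) (hP : IsPGroup p P)
    (hWV : W ≤ Subgroup.normalizer (V : Set G)) (hPV : P ≤ Subgroup.normalizer (V : Set G))
    (hxV : x ∈ Subgroup.normalizer (V : Set G))
    (hPW : P ≤ Subgroup.normalizer (W : Set G)) (hxW : x ∈ Subgroup.normalizer (W : Set G))
    (hxP : x ∈ Subgroup.normalizer (P : Set G))
    (hfaith : ∀ g ∈ W, (∀ v ∈ V, g * v = v * g) → g = 1)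
    (hPncW : ¬ P ≤ Subgroup.centralizer (W : Set G))
    (hCVx : Nat.card ↥(V ⊓ Subgroup.centralizer ({x} : Set G)) = p)
    (hCWx : IsCyclic ↥(W ⊓ Subgroup.centralizer ({x} : Set G)))
    (hCPx : P ⊓ Subgroup.centralizer ({x} : Set G) = ⊥)
    (hPirr : ∀ P' : Subgroup G, P' ≤ P → x ∈ Subgroup.normalizer (P' : Set G) →
      P' = ⊥ ∨ P' = P)
    (hWirr : ∀ W' : Subgroup G, W' ≤ W → P ≤ Subgroup.normalizer (W' : Set G) →
      x ∈ Subgroup.normalizer (W' : Set G) → W' = ⊥ ∨ W' = W)
    (hCVW : V ⊓ Subgroup.centralizer (W : Set G) = ⊥) : False :=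
  FC.false_of_FC (p := p) (q := q) (r := r) (V := V) (W := W) (P := P) (x := x)
    ⟨hodd, hp, hq, hr, hpq, hpr, hqr, hx, hVab, hVp, hWab, hWq, hP, hWV, hPV, hxV, hPW, hxW, hxP,
      hfaith, hPncW, hCVx, hCWx, hCPx, hPirr, hWirr, hCVW⟩

end Cfsg.Agent.Lib.Helper91
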