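/-
helper91: exceptional graph automorphisms of Chevalley groups, by comparison of two diagonal blocks of the adjoint
module (the block on an invariant subspace spanned by coordinate vectors, and the block on the quotient).
Entry checks are done on helper18's symbolic engine; the group is generated by the fundamental root elements
and their negatives (ChevGen).
-/
import Cfsg.Agent.Lib.Helper91.ChevGen

set_option autoImplicit false

namespace Cfsg.Agent.Lib.Helper91.ExcAut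

open Cfsg.Lie Cfsg.Agent.Lib.Helper18 Cfsg.Agent.Lib.Helper91.ChevGen

universe u

/-! ### Entry checks -/

/-- The polynomial of the entry in row `i`, column `j` of `x_r(τ)`. -/
def entryPoly (D : ChevalleyDatum) (r : ℕ) (τ : Poly) (j i : Code) : Poly :=
  ((colX D r τ j).filter fun e => decide (e.1 = i)).flatMap fun e => e.2

/-- All coefficients are divisible by `p`. -/
def allDiv (p : ℕ) (q : Poly) : Bool := q.all fun m => decide (m.1 % (p : ℤ) = 0)

/-- Check: modulo `p`, the entry `(i, j)` of `x_r(t)` is the entry `(i', j')` of `x_{r'}(t ^ lam)`. -/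
def eqChk (D : ChevalleyDatum) (p r r' lam : ℕ) (j i j' i' : Code) : Bool :=
  allDiv p (normPoly (entryPoly D r (varPoly 2) j i ++
    negPoly (entryPoly D r' (powPoly (varPoly 2) lam) j' i')))

/-- Check: modulo `p`, the entry `(i, j)` of `x_r(t)` vanishes. -/
def zeroChk (D : ChevalleyDatum) (p r : ℕ) (j i : Code) : Bool :=
  allDiv p (normPoly (entryPoly D r (varPoly 2) j i))

section Sound

variable {F : Type*} [Field F]

theorem evPoly_flatMap_filter (ρ : ℕ → F) (c : Code) (v : SVec) :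
    evPoly ρ ((v.filter fun e => decide (e.1 = c)).flatMap fun e => e.2)
      = (v.map fun e => if e.1 = c then evPoly ρ e.2 else 0).sum := by
  induction v with
  | nil => rfl
  | cons e v ih =>
    by_cases h : e.1 = c
    · rw [List.filter_cons_of_pos (by simpa using h), List.flatMap_cons, evPoly_append, ih,
        List.map_cons, List.sum_cons, if_pos h]
    · rw [List.filter_cons_of_neg (by simpa using h), ih, List.map_cons, List.sum_cons, if_neg h,
        zero_add]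

theorem evPoly_entryPoly (D : ChevalleyDatum) (ρ : ℕ → F) (r : Fin D.nroots) (τ : Poly) (j i : D.Idx) :
    evPoly ρ (entryPoly D r.1 τ (code D j) (code D i)) = D.xMat F r (evPoly ρ τ) i j := by
  rw [← evVec_colX D ρ r τ j i]
  unfold entryPoly evVec
  exact evPoly_flatMap_filter ρ _ _

theorem evPoly_eq_zero_of_allDiv (ρ : ℕ → F) (p : ℕ) (hp : (p : F) = 0) (q : Poly)
    (h : allDiv p q = true) : evPoly ρ q = 0 := by
  induction q with
  | nil => rfl
  | cons m q ih =>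
    unfold allDiv at h
    rw [List.all_cons, Bool.and_eq_true] at h
    rw [evPoly_cons, ih h.2, add_zero]
    have h1 : m.1 % (p : ℤ) = 0 := by simpa using h.1
    obtain ⟨k, hk⟩ := Int.dvd_of_emod_eq_zero h1
    unfold evMono
    rw [hk]
    push_cast
    rw [hp]
    ring

/-- The valuation of the variables: `X₂ ↦ t`, all others to one. -/
def val (t : F) : ℕ → F := fun k => if k = 2 then t else 1

theorem val_mul (t : F) : val t 0 * val t 1 = 1 := by simp [val]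

theorem val_two (t : F) : val t 2 = t := by simp [val]

theorem entry_eq_of_eqChk (D : ChevalleyDatum) (p : ℕ) (hp : (p : F) = 0) (r r' : Fin D.nroots) (lam : ℕ)
    (j i j' i' : D.Idx) (t : F)
    (h : eqChk D p r.1 r'.1 lam (code D j) (code D i) (code D j') (code D i') = true) :
    D.xMat F r t i j = D.xMat F r' (t ^ lam) i' j' := by
  have h0 := evPoly_eq_zero_of_allDiv (val t) p hp _ h
  rw [evPoly_normPoly _ (val_mul t), evPoly_append, evPoly_negPoly, evPoly_entryPoly, evPoly_entryPoly,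
    evPoly_powPoly, evPoly_varPoly, val_two] at h0
  exact sub_eq_zero.mp (by rw [sub_eq_add_neg]; exact h0)

theorem entry_eq_zero_of_zeroChk (D : ChevalleyDatum) (p : ℕ) (hp : (p : F) = 0) (r : Fin D.nroots)
    (j i : D.Idx) (t : F) (h : zeroChk D p r.1 (code D j) (code D i) = true) :
    D.xMat F r t i j = 0 := by
  have h0 := evPoly_eq_zero_of_allDiv (val t) p hp _ h
  rw [evPoly_normPoly _ (val_mul t), evPoly_entryPoly, evPoly_varPoly, val_two] at h0
  exact h0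

end Sound

/-! ### Blocks -/

/-- Two families of coordinates which together enumerate all coordinates. -/
structure Blocks (D : ChevalleyDatum) (n : ℕ) where
  eI : Fin n → D.Idx
  eJ : Fin n → D.Idx
  bij : Function.Bijective (Sum.elim eI eJ)

namespace Blocks

variable {D : ChevalleyDatum} {n : ℕ} (B : Blocks D n) {F : Type u} [Field F]

theorem eI_injective : Function.Injective B.eI := fun a b h =>
  Sum.inl_injective (B.bij.1 (show Sum.elim B.eI B.eJ (Sum.inl a) = Sum.elim B.eI B.eJ (Sum.inl b) from h))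

theorem eJ_injective : Function.Injective B.eJ := fun a b h =>
  Sum.inr_injective (B.bij.1 (show Sum.elim B.eI B.eJ (Sum.inr a) = Sum.elim B.eI B.eJ (Sum.inr b) from h))

theorem eJ_ne_eI (j i : Fin n) : B.eJ j ≠ B.eI i := fun h => by
  have := B.bij.1 (show Sum.elim B.eI B.eJ (Sum.inr j) = Sum.elim B.eI B.eJ (Sum.inl i) from h)
  cases this

theorem sum_split (f : D.Idx → F) : ∑ x, f x = ∑ i, f (B.eI i) + ∑ j, f (B.eJ j) := by
  rw [← (Equiv.ofBijective _ B.bij).sum_comp f, Fintype.sum_sum_type]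
  rfl

/-- The block on the first family. -/
def bI (M : Matrix D.Idx D.Idx F) : Matrix (Fin n) (Fin n) F := M.submatrix B.eI B.eI

/-- The block on the second family. -/
def bJ (M : Matrix D.Idx D.Idx F) : Matrix (Fin n) (Fin n) F := M.submatrix B.eJ B.eJ

/-- The span of the first family of coordinate vectors is invariant. -/
def IsBT (M : Matrix D.Idx D.Idx F) : Prop := ∀ j i, M (B.eJ j) (B.eI i) = 0

theorem isBT_one : B.IsBT (1 : Matrix D.Idx D.Idx F) := fun j i => Matrix.one_apply_ne (B.eJ_ne_eI j i)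

theorem bI_one : B.bI (1 : Matrix D.Idx D.Idx F) = 1 := by
  ext i k
  simp only [bI, Matrix.submatrix_apply, Matrix.one_apply, B.eI_injective.eq_iff]

theorem bJ_one : B.bJ (1 : Matrix D.Idx D.Idx F) = 1 := by
  ext i k
  simp only [bJ, Matrix.submatrix_apply, Matrix.one_apply, B.eJ_injective.eq_iff]

variable {B}

theorem IsBT.mul {M N : Matrix D.Idx D.Idx F} (hM : B.IsBT M) (hN : B.IsBT N) : B.IsBT (M * N) := by
  intro j i
  rw [Matrix.mul_apply, B.sum_split]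
  have h1 : ∑ k, M (B.eJ j) (B.eI k) * N (B.eI k) (B.eI i) = 0 :=
    Finset.sum_eq_zero fun k _ => by rw [hM j k, zero_mul]
  have h2 : ∑ k, M (B.eJ j) (B.eJ k) * N (B.eJ k) (B.eI i) = 0 :=
    Finset.sum_eq_zero fun k _ => by rw [hN k i, mul_zero]
  rw [h1, h2, add_zero]

theorem bI_mul {M N : Matrix D.Idx D.Idx F} (hN : B.IsBT N) : B.bI (M * N) = B.bI M * B.bI N := by
  ext i k
  simp only [bI, Matrix.submatrix_apply, Matrix.mul_apply]
  rw [B.sum_split]
  have h2 : ∑ l, M (B.eI i) (B.eJ l) * N (B.eJ l) (B.eI k) = 0 :=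
    Finset.sum_eq_zero fun l _ => by rw [hN l k, mul_zero]
  rw [h2, add_zero]

theorem bJ_mul {M N : Matrix D.Idx D.Idx F} (hM : B.IsBT M) : B.bJ (M * N) = B.bJ M * B.bJ N := by
  ext i k
  simp only [bJ, Matrix.submatrix_apply, Matrix.mul_apply]
  rw [B.sum_split]
  have h1 : ∑ l, M (B.eJ i) (B.eI l) * N (B.eI l) (B.eJ k) = 0 :=
    Finset.sum_eq_zero fun l _ => by rw [hM i l, zero_mul]
  rw [h1, zero_add]

variable (B)

/-- The relation: both elements and their inverses leave the span of the first family invariant, and the block of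
the first element on the quotient is the block of the second element on the subspace. -/
def rel (F : Type u) [Field F] : Subgroup (GL D.Idx F × GL D.Idx F) where
  carrier := {x | B.IsBT (x.1 : Matrix D.Idx D.Idx F) ∧ B.IsBT ((x.1⁻¹ : GL D.Idx F) : Matrix D.Idx D.Idx F) ∧
    B.IsBT (x.2 : Matrix D.Idx D.Idx F) ∧ B.IsBT ((x.2⁻¹ : GL D.Idx F) : Matrix D.Idx D.Idx F) ∧
    B.bJ (x.1 : Matrix D.Idx D.Idx F) = B.bI (x.2 : Matrix D.Idx D.Idx F)}
  one_mem' := by
    refine ⟨?_, ?_, ?_, ?_, ?_⟩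
    · exact B.isBT_one
    · show B.IsBT (((1 : GL D.Idx F)⁻¹ : GL D.Idx F) : Matrix D.Idx D.Idx F)
      rw [inv_one]; exact B.isBT_one
    · exact B.isBT_one
    · show B.IsBT (((1 : GL D.Idx F)⁻¹ : GL D.Idx F) : Matrix D.Idx D.Idx F)
      rw [inv_one]; exact B.isBT_one
    · show B.bJ ((1 : GL D.Idx F) : Matrix D.Idx D.Idx F) = B.bI ((1 : GL D.Idx F) : Matrix D.Idx D.Idx F)
      rw [Units.val_one, B.bJ_one, B.bI_one]
  mul_mem' := by
    rintro ⟨a₁, a₂⟩ ⟨b₁, b₂⟩ ⟨ha1, ha2, ha3, ha4, ha5⟩ ⟨hb1, hb2, hb3, hb4, hb5⟩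
    refine ⟨?_, ?_, ?_, ?_, ?_⟩
    · show B.IsBT ((a₁ * b₁ : GL D.Idx F) : Matrix D.Idx D.Idx F)
      rw [Units.val_mul]; exact ha1.mul hb1
    · show B.IsBT (((a₁ * b₁)⁻¹ : GL D.Idx F) : Matrix D.Idx D.Idx F)
      rw [mul_inv_rev, Units.val_mul]; exact hb2.mul ha2
    · show B.IsBT ((a₂ * b₂ : GL D.Idx F) : Matrix D.Idx D.Idx F)
      rw [Units.val_mul]; exact ha3.mul hb3
    · show B.IsBT (((a₂ * b₂)⁻¹ : GL D.Idx F) : Matrix D.Idx D.Idx F)
      rw [mul_inv_rev, Units.val_mul]; exact hb4.mul ha4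
    · show B.bJ ((a₁ * b₁ : GL D.Idx F) : Matrix D.Idx D.Idx F) = B.bI ((a₂ * b₂ : GL D.Idx F) : Matrix D.Idx D.Idx F)
      rw [Units.val_mul, Units.val_mul, bJ_mul ha1, bI_mul hb3, ha5, hb5]
  inv_mem' := by
    rintro ⟨a₁, a₂⟩ ⟨ha1, ha2, ha3, ha4, ha5⟩
    refine ⟨ha2, ?_, ha4, ?_, ?_⟩
    · show B.IsBT (((a₁⁻¹)⁻¹ : GL D.Idx F) : Matrix D.Idx D.Idx F)
      rw [inv_inv]; exact ha1
    · show B.IsBT (((a₂⁻¹)⁻¹ : GL D.Idx F) : Matrix D.Idx D.Idx F)
      rw [inv_inv]; exact ha3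
    · show B.bJ ((a₁⁻¹ : GL D.Idx F) : Matrix D.Idx D.Idx F) = B.bI ((a₂⁻¹ : GL D.Idx F) : Matrix D.Idx D.Idx F)
      have e1 : B.bJ ((a₁⁻¹ : GL D.Idx F) : Matrix D.Idx D.Idx F) * B.bJ (a₁ : Matrix D.Idx D.Idx F) = 1 := by
        rw [← bJ_mul ha2, ← Units.val_mul, inv_mul_cancel, Units.val_one, B.bJ_one]
      have e2 : B.bI (a₂ : Matrix D.Idx D.Idx F) * B.bI ((a₂⁻¹ : GL D.Idx F) : Matrix D.Idx D.Idx F) = 1 := by
        rw [← bI_mul ha4, ← Units.val_mul, mul_inv_cancel, Units.val_one, B.bI_one]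
      rw [ha5] at e1
      exact left_inv_eq_right_inv e1 e2

theorem mem_rel_iff (x : GL D.Idx F × GL D.Idx F) : x ∈ B.rel F ↔
    B.IsBT (x.1 : Matrix D.Idx D.Idx F) ∧ B.IsBT ((x.1⁻¹ : GL D.Idx F) : Matrix D.Idx D.Idx F) ∧
    B.IsBT (x.2 : Matrix D.Idx D.Idx F) ∧ B.IsBT ((x.2⁻¹ : GL D.Idx F) : Matrix D.Idx D.Idx F) ∧
    B.bJ (x.1 : Matrix D.Idx D.Idx F) = B.bI (x.2 : Matrix D.Idx D.Idx F) := Iff.rfl

/-! ### The automorphism -/

section Aut

variable (hD : D ∈ [chevG2, chevB2, chevD4, chevF4, chevE6, chevE7, chevE8])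

include hD in
theorem exists_rel_left (h1 : ∀ x ∈ fundSet D F, ∃ y ∈ D.group F, (x, y) ∈ B.rel F) :
    ∀ x ∈ D.group F, ∃ y ∈ D.group F, (x, y) ∈ B.rel F := by
  intro x hx
  rw [group_eq_closure_fundSet hD] at hx
  induction hx using Subgroup.closure_induction with
  | mem x hx => exact h1 x hx
  | one => exact ⟨1, one_mem _, one_mem _⟩
  | mul x₁ x₂ _ _ ih1 ih2 =>
    obtain ⟨y₁, hy₁, hr₁⟩ := ih1
    obtain ⟨y₂, hy₂, hr₂⟩ := ih2
    exact ⟨y₁ * y₂, mul_mem hy₁ hy₂, mul_mem hr₁ hr₂⟩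
  | inv x _ ih =>
    obtain ⟨y, hy, hr⟩ := ih
    exact ⟨y⁻¹, inv_mem hy, inv_mem hr⟩

include hD in
theorem exists_rel_right (h2 : ∀ y ∈ fundSet D F, ∃ x ∈ D.group F, (x, y) ∈ B.rel F) :
    ∀ y ∈ D.group F, ∃ x ∈ D.group F, (x, y) ∈ B.rel F := by
  intro y hy
  rw [group_eq_closure_fundSet hD] at hy
  induction hy using Subgroup.closure_induction with
  | mem y hy => exact h2 y hy
  | one => exact ⟨1, one_mem _, one_mem _⟩
  | mul y₁ y₂ _ _ ih1 ih2 =>
    obtain ⟨x₁, hx₁, hr₁⟩ := ih1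
    obtain ⟨x₂, hx₂, hr₂⟩ := ih2
    exact ⟨x₁ * x₂, mul_mem hx₁ hx₂, mul_mem hr₁ hr₂⟩
  | inv y _ ih =>
    obtain ⟨x, hx, hr⟩ := ih
    exact ⟨x⁻¹, inv_mem hx, inv_mem hr⟩

/-- A multiplicative block is faithful on a simple group on which it is not trivial. -/
theorem faithful_of_simple [hs : IsSimpleGroup ↥(D.group F)]
    (blk : Matrix D.Idx D.Idx F → Matrix (Fin n) (Fin n) F) (hone : blk 1 = 1)
    (hmul : ∀ g ∈ D.group F, ∀ h ∈ D.group F,
      blk ((g * h : GL D.Idx F) : Matrix D.Idx D.Idx F) = blk (g : Matrix D.Idx D.Idx F) * blk (h : Matrix D.Idx D.Idx F))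
    (g₀ : GL D.Idx F) (hg₀ : g₀ ∈ D.group F) (h₀ : blk (g₀ : Matrix D.Idx D.Idx F) ≠ 1) :
    ∀ g ∈ D.group F, blk (g : Matrix D.Idx D.Idx F) = 1 → g = 1 := by
  let φ : ↥(D.group F) →* Matrix (Fin n) (Fin n) F :=
    { toFun := fun g => blk ((g : GL D.Idx F) : Matrix D.Idx D.Idx F)
      map_one' := by
        show blk (((1 : ↥(D.group F)) : GL D.Idx F) : Matrix D.Idx D.Idx F) = 1
        rw [Subgroup.coe_one, Units.val_one, hone]
      map_mul' := fun g h => by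
        show blk (((g * h : ↥(D.group F)) : GL D.Idx F) : Matrix D.Idx D.Idx F) = _
        rw [Subgroup.coe_mul]
        exact hmul _ g.2 _ h.2 }
  have hker : φ.ker = ⊥ := by
    rcases φ.normal_ker.eq_bot_or_eq_top with h | h
    · exact h
    · exfalso
      have : (⟨g₀, hg₀⟩ : ↥(D.group F)) ∈ φ.ker := by rw [h]; trivial
      exact h₀ (MonoidHom.mem_ker.mp this)
  intro g hg h
  have : (⟨g, hg⟩ : ↥(D.group F)) ∈ φ.ker := MonoidHom.mem_ker.mpr h
  rw [hker, Subgroup.mem_bot] at this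
  exact congrArg Subtype.val this

include hD in
/-- The automorphism defined by the relation. -/
theorem exists_aut (h1 : ∀ x ∈ fundSet D F, ∃ y ∈ D.group F, (x, y) ∈ B.rel F)
    (h2 : ∀ y ∈ fundSet D F, ∃ x ∈ D.group F, (x, y) ∈ B.rel F)
    (hI : ∀ g ∈ D.group F, B.bI (g : Matrix D.Idx D.Idx F) = 1 → g = 1)
    (hJ : ∀ g ∈ D.group F, B.bJ (g : Matrix D.Idx D.Idx F) = 1 → g = 1) :
    ∃ α : ↥(D.group F) ≃* ↥(D.group F), ∀ g g' : ↥(D.group F),
      ((g : GL D.Idx F), (g' : GL D.Idx F)) ∈ B.rel F → α g = g' := by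
  have E1 := exists_rel_left B hD h1
  have E2 := exists_rel_right B hD h2
  have U1 : ∀ x y₁ y₂ : GL D.Idx F, y₁ ∈ D.group F → y₂ ∈ D.group F → (x, y₁) ∈ B.rel F →
      (x, y₂) ∈ B.rel F → y₁ = y₂ := by
    intro x y₁ y₂ hy₁ hy₂ hr₁ hr₂
    have h := mul_mem (inv_mem hr₁) hr₂
    have h' : ((1 : GL D.Idx F), y₁⁻¹ * y₂) ∈ B.rel F := by
      have e : ((x, y₁)⁻¹ * (x, y₂) : GL D.Idx F × GL D.Idx F) = (1, y₁⁻¹ * y₂) := by
        rw [Prod.inv_mk, Prod.mk_mul_mk, inv_mul_cancel]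
      rw [e] at h
      exact h
    have h5 := ((B.mem_rel_iff _).mp h').2.2.2.2
    have : y₁⁻¹ * y₂ = 1 := hI _ (mul_mem (inv_mem hy₁) hy₂) (by
      rw [← h5]
      show B.bJ ((1 : GL D.Idx F) : Matrix D.Idx D.Idx F) = 1
      rw [Units.val_one, B.bJ_one])
    exact (inv_mul_eq_one.mp this)
  have U2 : ∀ x₁ x₂ y : GL D.Idx F, x₁ ∈ D.group F → x₂ ∈ D.group F → (x₁, y) ∈ B.rel F →
      (x₂, y) ∈ B.rel F → x₁ = x₂ := by
    intro x₁ x₂ y hx₁ hx₂ hr₁ hr₂
    have h := mul_mem (inv_mem hr₁) hr₂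
    have h' : (x₁⁻¹ * x₂, (1 : GL D.Idx F)) ∈ B.rel F := by
      have e : ((x₁, y)⁻¹ * (x₂, y) : GL D.Idx F × GL D.Idx F) = (x₁⁻¹ * x₂, 1) := by
        rw [Prod.inv_mk, Prod.mk_mul_mk, inv_mul_cancel]
      rw [e] at h
      exact h
    have h5 := ((B.mem_rel_iff _).mp h').2.2.2.2
    have : x₁⁻¹ * x₂ = 1 := hJ _ (mul_mem (inv_mem hx₁) hx₂) (by
      rw [h5]
      show B.bI ((1 : GL D.Idx F) : Matrix D.Idx D.Idx F) = 1
      rw [Units.val_one, B.bI_one])
    exact (inv_mul_eq_one.mp this)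
  let R : Subgroup (↥(D.group F) × ↥(D.group F)) :=
    (B.rel F).comap ((D.group F).subtype.prodMap (D.group F).subtype)
  have hR : ∀ z : ↥(D.group F) × ↥(D.group F), z ∈ R ↔
      ((z.1 : GL D.Idx F), (z.2 : GL D.Idx F)) ∈ B.rel F := fun z => Iff.rfl
  let f1 : ↥R →* ↥(D.group F) := (MonoidHom.fst _ _).comp R.subtype
  let f2 : ↥R →* ↥(D.group F) := (MonoidHom.snd _ _).comp R.subtype
  have f1_apply : ∀ z : ↥R, f1 z = z.1.1 := fun z => rfl
  have f2_apply : ∀ z : ↥R, f2 z = z.1.2 := fun z => rfl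
  have b1 : Function.Bijective f1 := by
    constructor
    · rintro ⟨⟨a₁, a₂⟩, ha⟩ ⟨⟨b₁, b₂⟩, hb⟩ hab
      have e1 : a₁ = b₁ := hab
      subst e1
      have e2 : (a₂ : GL D.Idx F) = b₂ := U1 a₁ a₂ b₂ a₂.2 b₂.2 ((hR _).mp ha) ((hR _).mp hb)
      have e3 : a₂ = b₂ := Subtype.ext e2
      subst e3
      rfl
    · intro g
      obtain ⟨y, hy, hr⟩ := E1 g g.2
      exact ⟨⟨(g, ⟨y, hy⟩), (hR _).mpr hr⟩, rfl⟩
  have b2 : Function.Bijective f2 := by
    constructor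
    · rintro ⟨⟨a₁, a₂⟩, ha⟩ ⟨⟨b₁, b₂⟩, hb⟩ hab
      have e1 : a₂ = b₂ := hab
      subst e1
      have e2 : (a₁ : GL D.Idx F) = b₁ := U2 a₁ b₁ a₂ a₁.2 b₁.2 ((hR _).mp ha) ((hR _).mp hb)
      have e3 : a₁ = b₁ := Subtype.ext e2
      subst e3
      rfl
    · intro g
      obtain ⟨x, hx, hr⟩ := E2 g g.2
      exact ⟨⟨(⟨x, hx⟩, g), (hR _).mpr hr⟩, rfl⟩
  refine ⟨(MulEquiv.ofBijective f1 b1).symm.trans (MulEquiv.ofBijective f2 b2), ?_⟩
  intro g g' hgg'
  have hz : (MulEquiv.ofBijective f1 b1).symm g = ⟨(g, g'), (hR _).mpr hgg'⟩ := by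
    rw [MulEquiv.symm_apply_eq]
    rfl
  rw [MulEquiv.trans_apply, hz]
  rfl

end Aut

/-! ### Pairs of root elements in the relation -/

include B in
theorem pair_mem_rel (hD : D ∈ [chevG2, chevB2, chevD4, chevF4, chevE6, chevE7, chevE8]) (p : ℕ)
    (hp : (p : F) = 0) (r r' : ℕ) (hr : r < D.nroots) (hr' : r' < D.nroots) (lam : ℕ)
    (hz : ∀ j i : Fin n, zeroChk D p r (code D (B.eI i)) (code D (B.eJ j)) = true)
    (hz' : ∀ j i : Fin n, zeroChk D p r' (code D (B.eI i)) (code D (B.eJ j)) = true)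
    (he : ∀ i j : Fin n, eqChk D p r r' lam (code D (B.eJ j)) (code D (B.eJ i)) (code D (B.eI j))
      (code D (B.eI i)) = true) (t : F) :
    (xG hD r t, xG hD r' (t ^ lam)) ∈ B.rel F := by
  have hx : ∀ s : F, D.x F r s = D.xMat F ⟨r, hr⟩ s := fun s => by
    unfold ChevalleyDatum.x; rw [dif_pos hr]
  have hx' : ∀ s : F, D.x F r' s = D.xMat F ⟨r', hr'⟩ s := fun s => by
    unfold ChevalleyDatum.x; rw [dif_pos hr']
  have bt : ∀ s : F, B.IsBT (D.x F r s) := fun s j i => by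
    rw [hx]; exact entry_eq_zero_of_zeroChk D p hp ⟨r, hr⟩ _ _ s (hz j i)
  have bt' : ∀ s : F, B.IsBT (D.x F r' s) := fun s j i => by
    rw [hx']; exact entry_eq_zero_of_zeroChk D p hp ⟨r', hr'⟩ _ _ s (hz' j i)
  rw [B.mem_rel_iff]
  refine ⟨?_, ?_, ?_, ?_, ?_⟩
  · show B.IsBT ((xG hD r t : GL D.Idx F) : Matrix D.Idx D.Idx F)
    rw [coe_xG]; exact bt t
  · show B.IsBT (((xG hD r t)⁻¹ : GL D.Idx F) : Matrix D.Idx D.Idx F)
    rw [xG_inv, coe_xG]; exact bt _
  · show B.IsBT ((xG hD r' (t ^ lam) : GL D.Idx F) : Matrix D.Idx D.Idx F)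
    rw [coe_xG]; exact bt' _
  · show B.IsBT (((xG hD r' (t ^ lam))⁻¹ : GL D.Idx F) : Matrix D.Idx D.Idx F)
    rw [xG_inv, coe_xG]; exact bt' _
  · show B.bJ ((xG hD r t : GL D.Idx F) : Matrix D.Idx D.Idx F)
      = B.bI ((xG hD r' (t ^ lam) : GL D.Idx F) : Matrix D.Idx D.Idx F)
    rw [coe_xG, coe_xG, hx, hx']
    ext i j
    exact entry_eq_of_eqChk D p hp ⟨r, hr⟩ ⟨r', hr'⟩ lam _ _ _ _ t (he i j)

end Blocks

end Cfsg.Agent.Lib.Helper91.ExcAut
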