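/-
helper91: faithfulness of a diagonal block of the adjoint module on a Chevalley group, from the (B,N)-pair
(no simplicity needed, so it also covers B₂ over the field with two elements): a normal subgroup of the
Chevalley group is trivial or covers the group together with `B`; a kernel of a block containing `e_r`, `e_{-r}`
cannot cover, because the block of `x_{-r}(1)` is not triangular.
-/
import Cfsg.Agent.Lib.Helper91.ExcAut
import Cfsg.Agent.Lib.Helper18.SimpleAll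
import Cfsg.Agent.S2158

set_option autoImplicit false

namespace Cfsg.Agent.Lib.Helper91.ExcAut

open Cfsg.Lie Cfsg.Agent.Lib.Helper18 Cfsg.Agent.Lib.Helper17 Cfsg.Agent.Lib.Helper6
  Cfsg.Agent.Lib.Helper91.ChevGen

universe u

/-- Tits' dichotomy for a normal subgroup of a group with an irreducible (B,N)-pair whose `B` has trivial core. -/
theorem normal_eq_bot_or_sup_eq_top {G : Type*} [Group G] (P : Cfsg.BNPair G) (hirr : P.Irreducible)
    (hcore : P.B.normalCore = ⊥) (H : Subgroup G) [hH : H.Normal] : H = ⊥ ∨ P.B ⊔ H = ⊤ := by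
  set M := P.B ⊔ H with hM
  have hBM : P.B ≤ M := le_sup_left
  set J : Set G := {s | s ∈ P.S ∧ s ∈ M} with hJ
  have hJS : J ⊆ P.S := fun s hs => hs.1
  have hMJ : M = P.parabolic J := eq_parabolic_of_B_le P hBM
  by_cases h1 : J.Nonempty
  · by_cases h2 : (P.S \ J).Nonempty
    · exfalso
      obtain ⟨s, hs, s', hs', hn⟩ := hirr J hJS h1 h2
      apply hn
      have hs'M : s' ∉ M := fun hc => hs'.2 ⟨hs'.1, hc⟩
      exact comm_of_normal P hs.1 hs'.1 hs.2 hs'M
    · right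
      have hSJ : P.S ⊆ J := by
        intro s hs
        by_contra hc
        exact h2 ⟨s, hs, hc⟩
      rw [eq_top_iff, ← P.sup_eq_top]
      refine sup_le hBM ?_
      rw [← P.closure_sup]
      refine sup_le ?_ (le_trans inf_le_left hBM)
      rw [Subgroup.closure_le]
      exact fun s hs => (hSJ hs).2
  · left
    have hJe : J = ∅ := Set.not_nonempty_iff_eq_empty.1 h1
    have hMB : M = P.B := by
      rw [hMJ, hJe]
      unfold BNPair.parabolic
      simp
    have hHB : H ≤ P.B := by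
      rw [← hMB]; exact le_sup_right
    have : H ≤ P.B.normalCore := Subgroup.normal_le_normalCore.2 hHB
    rw [hcore] at this
    exact le_bot_iff.1 this

variable {F : Type u} [Field F] {D : ChevalleyDatum}

/-- The (B,N)-pair of a Chevalley group with connected Dynkin diagram is irreducible. -/
theorem exists_irreducible_bnPair (hD : D ∈ [chevG2, chevB2, chevD4, chevF4, chevE6, chevE7, chevE8])
    (C : ChevData.{u} D) (ord : List ℕ) (hdyn : C.T.dynkinOK C.tabs C.simples ord = true) :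
    ∃ P : Cfsg.BNPair ↥(D.group F), P.B = (D.borelSubgroup F).subgroupOf (D.group F) ∧ P.Irreducible := by
  obtain ⟨hBG, hNG, hsup⟩ := Cfsg.Agent.S1043.result (F := F) D hD
  have hl := C.rank_eq
  obtain ⟨P, hPB, hPN, hPS⟩ := Cfsg.Agent.S1042.exists_bnPair (F := F) D hD C
  refine ⟨P, hPB, ?_⟩
  intro J hJ hJne hJc
  have hsS : ∀ i < D.rank, (⟨sG hD C i, hNG (sG_mem_monomial hD C i)⟩ : ↥(D.group F)) ∈ P.S := by
    intro i hi
    rw [hPS]
    exact ⟨i, hi, coe_sG hD C i hi⟩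
  have hSs : ∀ s ∈ P.S, ∃ i < D.rank, s = ⟨sG hD C i, hNG (sG_mem_monomial hD C i)⟩ := by
    intro s hs
    rw [hPS] at hs
    obtain ⟨i, hi, hsi⟩ := hs
    exact ⟨i, hi, Subtype.ext (Units.ext (by rw [hsi, coe_sG hD C i hi]))⟩
  have h1 : ∃ i < C.T.rank, (⟨sG hD C i, hNG (sG_mem_monomial hD C i)⟩ : ↥(D.group F)) ∈ J := by
    obtain ⟨s, hs⟩ := hJne
    obtain ⟨i, hi, rfl⟩ := hSs s (hJ hs)
    exact ⟨i, hl ▸ hi, hs⟩
  have h2 : ∃ j < C.T.rank, ¬ (⟨sG hD C j, hNG (sG_mem_monomial hD C j)⟩ : ↥(D.group F)) ∈ J := by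
    obtain ⟨s, hs, hsJ⟩ := hJc
    obtain ⟨j, hj, rfl⟩ := hSs s hs
    exact ⟨j, hl ▸ hj, hsJ⟩
  obtain ⟨i, j, hi, hj, hadj, hfi, hfj⟩ := C.T.exists_adj_of_dynkinOK C.tabs C.simples ord hdyn
    (fun i => (⟨sG hD C i, hNG (sG_mem_monomial hD C i)⟩ : ↥(D.group F)) ∈ J) h1 h2
  rw [hl] at hi hj
  refine ⟨_, hfi, _, ⟨hsS j hj, hfj⟩, ?_⟩
  rw [hPB, Subgroup.mem_subgroupOf]
  unfold FastDatum.adjF at hadj
  rw [Bool.and_eq_true] at hadj
  exact sG_comm_not_mem_borel hD C i j hi hj hadj.1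

/-- A multiplicative block which sees the coordinates of `e_r` and `e_{-r}` for a positive root `r` is faithful
on the Chevalley group. -/
theorem faithful_of_bn {n : ℕ} (hD : D ∈ [chevG2, chevB2, chevD4, chevF4, chevE6, chevE7, chevE8])
    (C : ChevData.{u} D) (ord : List ℕ) (hdyn : C.T.dynkinOK C.tabs C.simples ord = true)
    (blk : Matrix D.Idx D.Idx F → Matrix (Fin n) (Fin n) F) (hone : blk 1 = 1)
    (hmul : ∀ g ∈ D.group F, ∀ h ∈ D.group F,
      blk ((g * h : GL D.Idx F) : Matrix D.Idx D.Idx F) = blk (g : Matrix D.Idx D.Idx F) * blk (h : Matrix D.Idx D.Idx F))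
    (r : ℕ) (hr : r < D.nroots) (hpos : D.nroots / 2 ≤ r) (i k : Fin n)
    (hblk : ∀ M : Matrix D.Idx D.Idx F,
      blk M i k = M (Sum.inr ⟨D.neg r, neg_lt_nroots D hD r hr⟩) (Sum.inr ⟨r, hr⟩)) :
    ∀ g ∈ D.group F, blk (g : Matrix D.Idx D.Idx F) = 1 → g = 1 := by
  obtain ⟨P, hPB, hirr⟩ := exists_irreducible_bnPair (F := F) hD C ord hdyn
  have hcore : P.B.normalCore = ⊥ := by
    rw [hPB]
    exact Cfsg.Agent.S1051.result D hD
  let φ : ↥(D.group F) →* Matrix (Fin n) (Fin n) F :=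
    { toFun := fun g => blk ((g : GL D.Idx F) : Matrix D.Idx D.Idx F)
      map_one' := by
        show blk (((1 : ↥(D.group F)) : GL D.Idx F) : Matrix D.Idx D.Idx F) = 1
        rw [Subgroup.coe_one, Units.val_one, hone]
      map_mul' := fun g h => by
        show blk (((g * h : ↥(D.group F)) : GL D.Idx F) : Matrix D.Idx D.Idx F) = _
        rw [Subgroup.coe_mul]
        exact hmul _ g.2 _ h.2 }
  have hφ : ∀ g : ↥(D.group F), φ g = blk ((g : GL D.Idx F) : Matrix D.Idx D.Idx F) := fun g => rfl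
  have hker : φ.ker = ⊥ := by
    rcases normal_eq_bot_or_sup_eq_top P hirr hcore φ.ker with h | h
    · exact h
    · exfalso
      have hnr := neg_lt_nroots D hD r hr
      have hev := nroots_even hD
      have hneg : D.neg r = D.nroots - 1 - r := negIdx_eq_sub hD r hr
      have hnn' : D.neg (D.neg r) = D.nroots - 1 - D.neg r := negIdx_eq_sub hD _ hnr
      have hnn : D.neg (D.neg r) = r := by
        rw [hnn', hneg]; omega
      let g : ↥(D.group F) := ⟨xG hD (D.neg r) 1, xG_mem_group hD _ hnr 1⟩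
      have hg : g ∈ P.B ⊔ φ.ker := by rw [h]; trivial
      obtain ⟨b, hb, z, hz, e⟩ := Subgroup.mem_sup_of_normal_right.1 hg
      have e1 : φ g = φ b := by
        rw [← e, map_mul, MonoidHom.mem_ker.mp hz, mul_one]
      have e2 := congrFun (congrFun e1 i) k
      rw [hφ, hφ, hblk, hblk] at e2
      have hbB : (b : GL D.Idx F) ∈ D.borelSubgroup F := by
        rw [hPB, Subgroup.mem_subgroupOf] at hb
        exact hb
      have hd := Cfsg.Agent.S2158.borel_depth_zero D hD _ hbB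
      have hz0 : ((b : GL D.Idx F) : Matrix D.Idx D.Idx F) (Sum.inr ⟨D.neg r, hnr⟩) (Sum.inr ⟨r, hr⟩) = 0 := by
        apply hd
        rw [chevWeight_inr, chevWeight_inr]
        simp only
        split_ifs <;> omega
      have hx := Cfsg.Agent.S2158.x_apply_root_negroot (F := F) D hD (D.neg r) hnr (1 : F)
      have hx' : D.x F (D.neg r) 1 (Sum.inr ⟨D.neg r, hnr⟩) (Sum.inr ⟨r, hr⟩) = -((1 : F) ^ 2) := by
        convert hx using 3
        exact Fin.ext hnn.symm
      rw [hz0] at e2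
      change D.x F (D.neg r) 1 (Sum.inr ⟨D.neg r, hnr⟩) (Sum.inr ⟨r, hr⟩) = 0 at e2
      rw [hx'] at e2
      simp at e2
  intro g hg h
  have : (⟨g, hg⟩ : ↥(D.group F)) ∈ φ.ker := MonoidHom.mem_ker.mpr h
  rw [hker, Subgroup.mem_bot] at this
  exact congrArg Subtype.val this

/-- The table checks for an exceptional graph automorphism: `perm[i] = (i', λ)` means that the root elements of the
`i`-th fundamental root (and of its negative) go to those of the `i'`-th one, with the parameter raised to the power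
`λ`. -/
def ChkAll {n : ℕ} (D : ChevalleyDatum) (B : Blocks D n) (pr : ℕ) (perm : List (ℕ × ℕ)) : Prop :=
  ∀ i : Fin D.rank, ∀ a b : Fin n,
    zeroChk D pr (D.simple i) (code D (B.eI b)) (code D (B.eJ a)) = true ∧
    zeroChk D pr (D.neg (D.simple i)) (code D (B.eI b)) (code D (B.eJ a)) = true ∧
    eqChk D pr (D.simple i) (D.simple (perm.getD i (0, 1)).1) (perm.getD i (0, 1)).2
      (code D (B.eJ b)) (code D (B.eJ a)) (code D (B.eI b)) (code D (B.eI a)) = true ∧
    eqChk D pr (D.neg (D.simple i)) (D.neg (D.simple (perm.getD i (0, 1)).1)) (perm.getD i (0, 1)).2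
      (code D (B.eJ b)) (code D (B.eJ a)) (code D (B.eI b)) (code D (B.eI a)) = true

/-- Exceptional graph automorphisms from the table checks. -/
theorem exists_graph_aut {n : ℕ} (hD : D ∈ [chevG2, chevB2, chevD4, chevF4, chevE6, chevE7, chevE8])
    (C : ChevData.{u} D) (ord : List ℕ) (hdyn : C.T.dynkinOK C.tabs C.simples ord = true)
    (B : Blocks D n) (pr : ℕ) (hpr : ((pr : ℕ) : F) = 0) (hperf : ∀ x : F, ∃ y : F, y ^ pr = x)
    (perm : List (ℕ × ℕ))
    (hlam : ∀ i < D.rank, (perm.getD i (0, 1)).2 = 1 ∨ (perm.getD i (0, 1)).2 = pr)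
    (hlt : ∀ i < D.rank, (perm.getD i (0, 1)).1 < D.rank)
    (hsurj : ∀ j < D.rank, ∃ i < D.rank, (perm.getD i (0, 1)).1 = j)
    (hchk : ChkAll D B pr perm)
    (rI : ℕ) (hrI : rI < D.nroots) (hposI : D.nroots / 2 ≤ rI) (iI kI : Fin n)
    (hiI : B.eI iI = Sum.inr ⟨D.neg rI, neg_lt_nroots D hD rI hrI⟩) (hkI : B.eI kI = Sum.inr ⟨rI, hrI⟩)
    (rJ : ℕ) (hrJ : rJ < D.nroots) (hposJ : D.nroots / 2 ≤ rJ) (iJ kJ : Fin n)
    (hiJ : B.eJ iJ = Sum.inr ⟨D.neg rJ, neg_lt_nroots D hD rJ hrJ⟩) (hkJ : B.eJ kJ = Sum.inr ⟨rJ, hrJ⟩) :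
    ∃ α : ↥(D.group F) ≃* ↥(D.group F), ∀ (g : ↥(D.group F)) (i : ℕ) (t : F), i < D.rank →
      (((g : GL D.Idx F) : Matrix D.Idx D.Idx F) = D.x F (D.simple i) t →
        ((α g : GL D.Idx F) : Matrix D.Idx D.Idx F)
          = D.x F (D.simple (perm.getD i (0, 1)).1) (t ^ (perm.getD i (0, 1)).2)) ∧
      (((g : GL D.Idx F) : Matrix D.Idx D.Idx F) = D.x F (D.neg (D.simple i)) t →
        ((α g : GL D.Idx F) : Matrix D.Idx D.Idx F)
          = D.x F (D.neg (D.simple (perm.getD i (0, 1)).1)) (t ^ (perm.getD i (0, 1)).2)) := by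
  have hsl : ∀ i < D.rank, D.simple i < D.nroots := fun i hi => C.simple_lt i hi
  have hnl : ∀ i < D.rank, D.neg (D.simple i) < D.nroots := fun i hi => neg_lt_nroots D hD _ (hsl i hi)
  have pairP : ∀ i (hi : i < D.rank) (t : F),
      (xG hD (D.simple i) t, xG hD (D.simple (perm.getD i (0, 1)).1) (t ^ (perm.getD i (0, 1)).2)) ∈ B.rel F := by
    intro i hi t
    have hi' := hlt i hi
    exact B.pair_mem_rel hD pr hpr _ _ (hsl i hi) (hsl _ hi') _
      (fun a b => (hchk ⟨i, hi⟩ a b).1) (fun a b => (hchk ⟨_, hi'⟩ a b).1)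
      (fun a b => (hchk ⟨i, hi⟩ a b).2.2.1) t
  have pairN : ∀ i (hi : i < D.rank) (t : F),
      (xG hD (D.neg (D.simple i)) t,
        xG hD (D.neg (D.simple (perm.getD i (0, 1)).1)) (t ^ (perm.getD i (0, 1)).2)) ∈ B.rel F := by
    intro i hi t
    have hi' := hlt i hi
    exact B.pair_mem_rel hD pr hpr _ _ (hnl i hi) (hnl _ hi') _
      (fun a b => (hchk ⟨i, hi⟩ a b).2.1) (fun a b => (hchk ⟨_, hi'⟩ a b).2.1)
      (fun a b => (hchk ⟨i, hi⟩ a b).2.2.2) t
  have h1 : ∀ x ∈ fundSet D F, ∃ y ∈ D.group F, (x, y) ∈ B.rel F := by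
    rintro x ⟨i, t, hi, hx | hx⟩
    · rw [eq_xG hD x _ t hx]
      exact ⟨_, xG_mem_group hD _ (hsl _ (hlt i hi)) _, pairP i hi t⟩
    · rw [eq_xG hD x _ t hx]
      exact ⟨_, xG_mem_group hD _ (hnl _ (hlt i hi)) _, pairN i hi t⟩
  have hroot : ∀ i < D.rank, ∀ s : F, ∃ t : F, t ^ (perm.getD i (0, 1)).2 = s := by
    intro i hi s
    rcases hlam i hi with h | h
    · exact ⟨s, by rw [h, pow_one]⟩
    · rw [h]; exact hperf s
  have h2 : ∀ y ∈ fundSet D F, ∃ x ∈ D.group F, (x, y) ∈ B.rel F := by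
    rintro y ⟨j, s, hj, hy | hy⟩
    · obtain ⟨i, hi, rfl⟩ := hsurj j hj
      obtain ⟨t, rfl⟩ := hroot i hi s
      rw [eq_xG hD y _ _ hy]
      exact ⟨_, xG_mem_group hD _ (hsl i hi) t, pairP i hi t⟩
    · obtain ⟨i, hi, rfl⟩ := hsurj j hj
      obtain ⟨t, rfl⟩ := hroot i hi s
      rw [eq_xG hD y _ _ hy]
      exact ⟨_, xG_mem_group hD _ (hnl i hi) t, pairN i hi t⟩
  have hBT : ∀ g ∈ D.group F, B.IsBT (g : Matrix D.Idx D.Idx F) := by
    intro g hg
    obtain ⟨y, -, hr⟩ := B.exists_rel_left hD h1 g hg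
    exact ((B.mem_rel_iff _).mp hr).1
  have hI : ∀ g ∈ D.group F, B.bI (g : Matrix D.Idx D.Idx F) = 1 → g = 1 := by
    apply faithful_of_bn hD C ord hdyn B.bI B.bI_one
      (fun g _ h hh => by rw [Units.val_mul]; exact Blocks.bI_mul (hBT h hh)) rI hrI hposI iI kI
    intro M
    rw [Blocks.bI, Matrix.submatrix_apply, hiI, hkI]
  have hJ : ∀ g ∈ D.group F, B.bJ (g : Matrix D.Idx D.Idx F) = 1 → g = 1 := by
    apply faithful_of_bn hD C ord hdyn B.bJ B.bJ_one
      (fun g hg h _ => by rw [Units.val_mul]; exact Blocks.bJ_mul (hBT g hg)) rJ hrJ hposJ iJ kJ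
    intro M
    rw [Blocks.bJ, Matrix.submatrix_apply, hiJ, hkJ]
  obtain ⟨α, hα⟩ := B.exists_aut hD h1 h2 hI hJ
  refine ⟨α, fun g i t hi => ⟨?_, ?_⟩⟩
  · intro hg
    have e : (g : GL D.Idx F) = xG hD (D.simple i) t := eq_xG hD _ _ t hg
    rw [hα g ⟨_, xG_mem_group hD _ (hsl _ (hlt i hi)) _⟩ (by rw [e]; exact pairP i hi t)]
    rfl
  · intro hg
    have e : (g : GL D.Idx F) = xG hD (D.neg (D.simple i)) t := eq_xG hD _ _ t hg
    rw [hα g ⟨_, xG_mem_group hD _ (hnl _ (hlt i hi)) _⟩ (by rw [e]; exact pairN i hi t)]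
    rfl

end Cfsg.Agent.Lib.Helper91.ExcAut
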