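/-
helper91: exceptional graph automorphisms from the table checks, in the form used for the twisting automorphisms:
the automorphism sends `g` to `g'` whenever the pair is in the relation of the two blocks.
-/
import Cfsg.Agent.Lib.Helper91.ExcAut2

set_option autoImplicit false

namespace Cfsg.Agent.Lib.Helper91.ExcAut

open Cfsg.Lie Cfsg.Agent.Lib.Helper18 Cfsg.Agent.Lib.Helper17 Cfsg.Agent.Lib.Helper6
  Cfsg.Agent.Lib.Helper91.ChevGen

universe u

variable {F : Type u} [Field F] {D : ChevalleyDatum}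

/-- Exceptional graph automorphisms from the table checks, characterised by the relation of the two blocks. -/
theorem exists_graph_aut_rel {n : ℕ} (hD : D ∈ [chevG2, chevB2, chevD4, chevF4, chevE6, chevE7, chevE8])
    (C : ChevData.{u} D) (ord : List ℕ) (hdyn : C.T.dynkinOK C.tabs C.simples ord = true)
    (B : Blocks D n) (pr : ℕ) (hpr : ((pr : ℕ) : F) = 0) (hperf : ∀ x : F, ∃ y : F, y ^ pr = x)
    (perm : List (ℕ × ℕ))
    (hlam : ∀ i < D.rank, (perm.getD i (0, 1)).2 = 1 ∨ (perm.getD i (0, 1)).2 = pr)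
    (hlt : ∀ i < D.rank, (perm.getD i (0, 1)).1 < D.rank)
    (hsurj : ∀ j < D.rank, ∃ i < D.rank, (perm.getD i (0, 1)).1 = j)
    (hchk : ChkAll D B pr perm)
    (rI : ℕ) (hrI : rI < D.nroots) (hposI : D.nroots / 2 ≤ rI) (iI kI : Fin n)
    (hiI : B.eI iI = Sum.inr ⟨D.neg rI, neg_lt_nroots D hD rI hrI⟩) (hkI : B.eI kI = Sum.inr ⟨rI, hrI⟩)
    (rJ : ℕ) (hrJ : rJ < D.nroots) (hposJ : D.nroots / 2 ≤ rJ) (iJ kJ : Fin n)
    (hiJ : B.eJ iJ = Sum.inr ⟨D.neg rJ, neg_lt_nroots D hD rJ hrJ⟩) (hkJ : B.eJ kJ = Sum.inr ⟨rJ, hrJ⟩) :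
    ∃ α : ↥(D.group F) ≃* ↥(D.group F), ∀ g g' : ↥(D.group F),
      ((g : GL D.Idx F), (g' : GL D.Idx F)) ∈ B.rel F → α g = g' := by
  have hsl : ∀ i < D.rank, D.simple i < D.nroots := fun i hi => C.simple_lt i hi
  have hnl : ∀ i < D.rank, D.neg (D.simple i) < D.nroots := fun i hi => neg_lt_nroots D hD _ (hsl i hi)
  have pairP : ∀ i (hi : i < D.rank) (t : F),
      (xG hD (D.simple i) t, xG hD (D.simple (perm.getD i (0, 1)).1) (t ^ (perm.getD i (0, 1)).2)) ∈ B.rel F := by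
    intro i hi t
    have hi' := hlt i hi
    exact B.pair_mem_rel hD pr hpr _ _ (hsl i hi) (hsl _ hi') _
      (fun a b => (hchk ⟨i, hi⟩ a b).1) (fun a b => (hchk ⟨_, hi'⟩ a b).1)
      (fun a b => (hchk ⟨i, hi⟩ a b).2.2.1) t
  have pairN : ∀ i (hi : i < D.rank) (t : F),
      (xG hD (D.neg (D.simple i)) t,
        xG hD (D.neg (D.simple (perm.getD i (0, 1)).1)) (t ^ (perm.getD i (0, 1)).2)) ∈ B.rel F := by
    intro i hi t
    have hi' := hlt i hi
    exact B.pair_mem_rel hD pr hpr _ _ (hnl i hi) (hnl _ hi') _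
      (fun a b => (hchk ⟨i, hi⟩ a b).2.1) (fun a b => (hchk ⟨_, hi'⟩ a b).2.1)
      (fun a b => (hchk ⟨i, hi⟩ a b).2.2.2) t
  have h1 : ∀ x ∈ fundSet D F, ∃ y ∈ D.group F, (x, y) ∈ B.rel F := by
    rintro x ⟨i, t, hi, hx | hx⟩
    · rw [eq_xG hD x _ t hx]
      exact ⟨_, xG_mem_group hD _ (hsl _ (hlt i hi)) _, pairP i hi t⟩
    · rw [eq_xG hD x _ t hx]
      exact ⟨_, xG_mem_group hD _ (hnl _ (hlt i hi)) _, pairN i hi t⟩
  have hroot : ∀ i < D.rank, ∀ s : F, ∃ t : F, t ^ (perm.getD i (0, 1)).2 = s := by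
    intro i hi s
    rcases hlam i hi with h | h
    · exact ⟨s, by rw [h, pow_one]⟩
    · rw [h]; exact hperf s
  have h2 : ∀ y ∈ fundSet D F, ∃ x ∈ D.group F, (x, y) ∈ B.rel F := by
    rintro y ⟨j, s, hj, hy | hy⟩
    · obtain ⟨i, hi, rfl⟩ := hsurj j hj
      obtain ⟨t, rfl⟩ := hroot i hi s
      rw [eq_xG hD y _ _ hy]
      exact ⟨_, xG_mem_group hD _ (hsl i hi) t, pairP i hi t⟩
    · obtain ⟨i, hi, rfl⟩ := hsurj j hj
      obtain ⟨t, rfl⟩ := hroot i hi s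
      rw [eq_xG hD y _ _ hy]
      exact ⟨_, xG_mem_group hD _ (hnl i hi) t, pairN i hi t⟩
  have hBT : ∀ g ∈ D.group F, B.IsBT (g : Matrix D.Idx D.Idx F) := by
    intro g hg
    obtain ⟨y, -, hr⟩ := B.exists_rel_left hD h1 g hg
    exact ((B.mem_rel_iff _).mp hr).1
  have hI : ∀ g ∈ D.group F, B.bI (g : Matrix D.Idx D.Idx F) = 1 → g = 1 := by
    apply faithful_of_bn hD C ord hdyn B.bI B.bI_one
      (fun g _ h hh => by rw [Units.val_mul]; exact Blocks.bI_mul (hBT h hh)) rI hrI hposI iI kI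
    intro M
    rw [Blocks.bI, Matrix.submatrix_apply, hiI, hkI]
  have hJ : ∀ g ∈ D.group F, B.bJ (g : Matrix D.Idx D.Idx F) = 1 → g = 1 := by
    apply faithful_of_bn hD C ord hdyn B.bJ B.bJ_one
      (fun g hg h _ => by rw [Units.val_mul]; exact Blocks.bJ_mul (hBT g hg)) rJ hrJ hposJ iJ kJ
    intro M
    rw [Blocks.bJ, Matrix.submatrix_apply, hiJ, hkJ]
  exact B.exists_aut hD h1 h2 hI hJ

end Cfsg.Agent.Lib.Helper91.ExcAut
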