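/-
helper91: equality of two words in root elements modulo a prime, checked on helper18's symbolic engine.
-/
import Cfsg.Agent.Lib.Helper91.ExcAut

set_option autoImplicit false

namespace Cfsg.Agent.Lib.Helper91.ExcAut

open Cfsg.Lie Cfsg.Agent.Lib.Helper18

/-- All coefficients of a symbolic vector are divisible by `p` (after normalization). -/
def vecDiv (p : ℕ) (v : SVec) : Bool := (normVec v).all fun e => allDiv p e.2

/-- Check: modulo `p`, the two symbolic words have the same matrix. -/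
def wordEqChk (D : ChevalleyDatum) (p : ℕ) (w₁ w₂ : List (ℕ × Poly)) : Bool :=
  (allCodes D).all fun j =>
    vecDiv p (applyWord D w₁ [(j, onePoly)] ++ negVec (applyWord D w₂ [(j, onePoly)]))

section Sound

variable {F : Type*} [Field F]

theorem evVec_eq_zero_of_forall_allDiv (D : ChevalleyDatum) (ρ : ℕ → F) (p : ℕ) (hp : (p : F) = 0) (v : SVec)
    (h : ∀ e ∈ v, allDiv p e.2 = true) : evVec D ρ v = 0 := by
  funext i
  unfold evVec
  apply List.sum_eq_zero
  intro x hx
  simp only [List.mem_map] at hx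
  obtain ⟨e, he, rfl⟩ := hx
  split_ifs
  · exact evPoly_eq_zero_of_allDiv ρ p hp _ (h e he)
  · rfl

theorem evVec_eq_zero_of_vecDiv (D : ChevalleyDatum) (ρ : ℕ → F) (hρ : ρ 0 * ρ 1 = 1) (p : ℕ)
    (hp : (p : F) = 0) (v : SVec) (h : vecDiv p v = true) : evVec D ρ v = 0 := by
  rw [← evVec_normVec D ρ hρ]
  apply evVec_eq_zero_of_forall_allDiv D ρ p hp
  unfold vecDiv at h
  rw [List.all_eq_true] at h
  exact h

/-- Soundness of `wordEqChk`. -/
theorem wordMat_eq_of_wordEqChk (D : ChevalleyDatum) (ρ : ℕ → F) (hρ : ρ 0 * ρ 1 = 1) (p : ℕ)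
    (hp : (p : F) = 0) (w₁ w₂ : List (ℕ × Poly)) (hc : wordEqChk D p w₁ w₂ = true) :
    D.wordMat F (evWord ρ w₁) = D.wordMat F (evWord ρ w₂) := by
  unfold wordEqChk at hc
  rw [List.all_eq_true] at hc
  ext i j
  have h1 := evVec_eq_zero_of_vecDiv D ρ hρ p hp _ (hc _ (mem_allCodes D j))
  rw [evVec_append, evVec_negVec, evVec_applyWord D ρ hρ, evVec_applyWord D ρ hρ, evVec_single_code,
    evPoly_onePoly, one_smul, Matrix.mulVec_single_one, Matrix.mulVec_single_one] at h1
  have h2 := congrFun h1 i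
  simp only [Pi.add_apply, Pi.neg_apply, Pi.zero_apply, Matrix.col_apply] at h2
  exact add_neg_eq_zero.mp h2

end Sound

end Cfsg.Agent.Lib.Helper91.ExcAut
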