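/-
helper91: the twisting automorphism `σ` of `G₂(K)`, `K` finite of characteristic 3: the exceptional graph
automorphism composed with the field automorphism `t ↦ t^(3^m)`.  On every root element
`σ(x_r(t)) = x_{ρ r}(t^(λ(r) 3^m))` without signs; `σ² = 1` when `t^(3·3^m·3^m) = t` on `K`; the generators of
`²G₂` (the words `reeWordU`, `reeWordV`) are fixed by `σ`.
-/
import Cfsg.Agent.Lib.Helper91.WordModP
import Cfsg.Agent.Lib.Helper91.ExcAut2
import Cfsg.Agent.S1099
import Cfsg.Agent.S1080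

set_option autoImplicit false

namespace Cfsg.Agent.Lib.Helper91.Ree

open Cfsg.Lie Cfsg.Agent.Lib.Helper18 Cfsg.Agent.Lib.Helper91.ChevGen Cfsg.Agent.Lib.Helper91.ExcAut
open Cfsg.Agent.S1099 (g2Blocks hD2)

universe u

/-! ### The permutation of the roots and the exponents -/

/-- The permutation `r ↦ r̄` of the roots of `G₂` (indices of Def_ChevG2): `a ↔ b`, `a+b ↔ 3a+b`, `2a+b ↔ 3a+2b`. -/
def g2rho (r : ℕ) : ℕ := [2, 3, 0, 1, 5, 4, 7, 6, 10, 11, 8, 9].getD r r

/-- The exponent: 3 on short roots, 1 on long roots. -/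
def g2lam (r : ℕ) : ℕ := [1, 1, 3, 3, 3, 1, 1, 3, 3, 3, 1, 1].getD r 1

theorem g2rho_lt (r : ℕ) (hr : r < 12) : g2rho r < 12 := by interval_cases r <;> decide

theorem g2rho_g2rho (r : ℕ) (hr : r < 12) : g2rho (g2rho r) = r := by interval_cases r <;> decide

theorem g2rho_pos (r : ℕ) (hr : r < 12) : 6 ≤ g2rho r ↔ 6 ≤ r := by interval_cases r <;> decide

theorem g2rho_neg (r : ℕ) (hr : r < 12) : g2rho (chevG2.neg r) = chevG2.neg (g2rho r) := by
  interval_cases r <;> decide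

theorem g2lam_mul (r : ℕ) (hr : r < 12) : g2lam r * g2lam (g2rho r) = 3 := by interval_cases r <;> decide

theorem g2lam_cases (r : ℕ) : g2lam r = 1 ∨ g2lam r = 3 := by
  by_cases hr : r < 12
  · interval_cases r <;> decide
  · left
    unfold g2lam
    exact List.getD_eq_default _ _ (by simp only [List.length_cons, List.length_nil]; omega)

theorem g2lam_odd (r : ℕ) : Odd (g2lam r) := by
  rcases g2lam_cases r with h | h <;> rw [h] <;> decide

/-! ### Table checks for all roots -/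

set_option maxRecDepth 100000 in
theorem zero_chk_all : ∀ r : Fin 12, ∀ j i : Fin 7,
    zeroChk chevG2 3 r (code chevG2 (g2Blocks.eI i)) (code chevG2 (g2Blocks.eJ j)) = true := by
  decide +kernel

set_option maxRecDepth 100000 in
theorem eq_chk_all : ∀ r : Fin 12, ∀ i j : Fin 7,
    eqChk chevG2 3 r (g2rho r) (g2lam r) (code chevG2 (g2Blocks.eJ j)) (code chevG2 (g2Blocks.eJ i))
      (code chevG2 (g2Blocks.eI j)) (code chevG2 (g2Blocks.eI i)) = true := by
  decide +kernel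

section Alpha

variable {K : Type u} [Field K] [CharP K 3]

theorem pair_all (r : ℕ) (hr : r < 12) (t : K) :
    (xG hD2 r t, xG hD2 (g2rho r) (t ^ g2lam r)) ∈ g2Blocks.rel K :=
  g2Blocks.pair_mem_rel hD2 3 (CharP.cast_eq_zero K 3) r (g2rho r) hr (g2rho_lt r hr) (g2lam r)
    (zero_chk_all ⟨r, hr⟩) (zero_chk_all ⟨g2rho r, g2rho_lt r hr⟩) (eq_chk_all ⟨r, hr⟩) t

omit [CharP K 3] in
theorem xG_mem (r : ℕ) (hr : r < 12) (t : K) : xG hD2 r t ∈ chevG2.group K := xG_mem_group hD2 r hr t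

/-- The exceptional graph automorphism, characterised by the relation of the two blocks. -/
theorem exists_alpha (hperf : ∀ x : K, ∃ y : K, y ^ 3 = x) :
    ∃ α : ↥(chevG2.group K) ≃* ↥(chevG2.group K), ∀ g g' : ↥(chevG2.group K),
      ((g : GL chevG2.Idx K), (g' : GL chevG2.Idx K)) ∈ g2Blocks.rel K → α g = g' := by
  have h1 : ∀ x ∈ fundSet chevG2 K, ∃ y ∈ chevG2.group K, (x, y) ∈ g2Blocks.rel K := by
    rintro x ⟨i, t, hi, hx | hx⟩
    · change i < 2 at hi
      interval_cases i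
      · rw [eq_xG hD2 x 7 t hx]
        exact ⟨_, xG_mem _ (g2rho_lt 7 (by decide)) _, pair_all 7 (by decide) t⟩
      · rw [eq_xG hD2 x 6 t hx]
        exact ⟨_, xG_mem _ (g2rho_lt 6 (by decide)) _, pair_all 6 (by decide) t⟩
    · change i < 2 at hi
      interval_cases i
      · rw [eq_xG hD2 x 4 t hx]
        exact ⟨_, xG_mem _ (g2rho_lt 4 (by decide)) _, pair_all 4 (by decide) t⟩
      · rw [eq_xG hD2 x 5 t hx]
        exact ⟨_, xG_mem _ (g2rho_lt 5 (by decide)) _, pair_all 5 (by decide) t⟩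
  have hroot : ∀ (r : ℕ) (s : K), ∃ t : K, t ^ g2lam r = s := by
    intro r s
    rcases g2lam_cases r with h | h
    · exact ⟨s, by rw [h, pow_one]⟩
    · rw [h]; exact hperf s
  have h2 : ∀ y ∈ fundSet chevG2 K, ∃ x ∈ chevG2.group K, (x, y) ∈ g2Blocks.rel K := by
    rintro y ⟨i, s, hi, hy | hy⟩
    · change i < 2 at hi
      interval_cases i
      · rw [eq_xG hD2 y 7 s hy]
        obtain ⟨t, rfl⟩ := hroot 6 s
        exact ⟨_, xG_mem 6 (by decide) t, pair_all 6 (by decide) t⟩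
      · rw [eq_xG hD2 y 6 s hy]
        obtain ⟨t, rfl⟩ := hroot 7 s
        exact ⟨_, xG_mem 7 (by decide) t, pair_all 7 (by decide) t⟩
    · change i < 2 at hi
      interval_cases i
      · rw [eq_xG hD2 y 4 s hy]
        obtain ⟨t, rfl⟩ := hroot 5 s
        exact ⟨_, xG_mem 5 (by decide) t, pair_all 5 (by decide) t⟩
      · rw [eq_xG hD2 y 5 s hy]
        obtain ⟨t, rfl⟩ := hroot 4 s
        exact ⟨_, xG_mem 4 (by decide) t, pair_all 4 (by decide) t⟩
  have hBT : ∀ g ∈ chevG2.group K, g2Blocks.IsBT (g : Matrix chevG2.Idx chevG2.Idx K) := by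
    intro g hg
    obtain ⟨y, -, hr⟩ := g2Blocks.exists_rel_left hD2 h1 g hg
    exact ((g2Blocks.mem_rel_iff _).mp hr).1
  have hI : ∀ g ∈ chevG2.group K, g2Blocks.bI (g : Matrix chevG2.Idx chevG2.Idx K) = 1 → g = 1 := by
    apply faithful_of_bn hD2 chevData_G2.{u} [0, 1] dynkinOK_G2 g2Blocks.bI g2Blocks.bI_one
      (fun g _ h hh => by rw [Units.val_mul]; exact Blocks.bI_mul (hBT h hh)) 7 (by decide) (by decide) 3 4
    intro M
    rfl
  have hJ : ∀ g ∈ chevG2.group K, g2Blocks.bJ (g : Matrix chevG2.Idx chevG2.Idx K) = 1 → g = 1 := by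
    apply faithful_of_bn hD2 chevData_G2.{u} [0, 1] dynkinOK_G2 g2Blocks.bJ g2Blocks.bJ_one
      (fun g hg h _ => by rw [Units.val_mul]; exact Blocks.bJ_mul (hBT g hg)) 6 (by decide) (by decide) 3 4
    intro M
    rfl
  exact g2Blocks.exists_aut hD2 h1 h2 hI hJ

end Alpha

/-! ### The field automorphism on the Chevalley group -/

section GlMapG

variable {F : Type u} [Field F] {D : ChevalleyDatum}

/-- The field automorphism acting entrywise, as an automorphism of the Chevalley group. -/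
noncomputable def glMapG (D : ChevalleyDatum) (φ : F ≃+* F) : ↥(D.group F) ≃* ↥(D.group F) :=
  ((Cfsg.Agent.S1080.glMap D φ).subgroupMap (D.group F)).trans
    (MulEquiv.subgroupCongr (Cfsg.Agent.S1080.map_group D φ))

theorem glMapG_coe (φ : F ≃+* F) (g : ↥(D.group F)) :
    ((glMapG D φ g : ↥(D.group F)) : GL D.Idx F) = Cfsg.Agent.S1080.glMap D φ g := rfl

theorem glMap_xG' (hD : D ∈ [chevG2, chevB2, chevD4, chevF4, chevE6, chevE7, chevE8]) (φ : F ≃+* F) (s : ℕ)
    (t : F) : Cfsg.Agent.S1080.glMap D φ (xG hD s t) = xG hD s (φ t) := by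
  apply Units.ext
  rw [Cfsg.Agent.S1080.glMap_coe, coe_xG, coe_xG]
  unfold ChevalleyDatum.x
  split_ifs with h
  · exact Cfsg.Agent.S1080.xMat_map D φ ⟨s, h⟩ t
  · ext i j
    simp [Matrix.one_apply]

end GlMapG

/-! ### Words -/

section Words

variable {K : Type u} [Field K]

/-- The image of a word under `x_r(t) ↦ x_{ρ r}(t^(λ(r) e))`. -/
def mapWord (e : ℕ) (w : List (ℕ × K)) : List (ℕ × K) :=
  w.map fun a => (g2rho a.1, a.2 ^ (g2lam a.1 * e))

theorem wordG_mem (w : List (ℕ × K)) (hw : ∀ a ∈ w, a.1 < 12) : wordG hD2 w ∈ chevG2.group K := by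
  induction w with
  | nil => rw [wordG_nil]; exact one_mem _
  | cons a w ih =>
    rw [wordG_cons]
    exact mul_mem (xG_mem a.1 (hw a List.mem_cons_self) a.2)
      (ih fun b hb => hw b (List.mem_cons_of_mem _ hb))

theorem mapWord_lt (e : ℕ) (w : List (ℕ × K)) (hw : ∀ a ∈ w, a.1 < 12) : ∀ a ∈ mapWord e w, a.1 < 12 := by
  intro a ha
  unfold mapWord at ha
  rw [List.mem_map] at ha
  obtain ⟨b, hb, rfl⟩ := ha
  exact g2rho_lt _ (hw b hb)

end Words

/-! ### The twisting automorphism -/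

section Sigma

variable (K : Type u) [Field K] [Fintype K] [CharP K 3]

theorem perfect3 : ∀ x : K, ∃ y : K, y ^ 3 = x := fun x => by
  obtain ⟨y, hy⟩ := (frobeniusEquiv K 3).surjective x
  exact ⟨y, by rw [← hy]; rfl⟩

/-- The exceptional graph automorphism of `G₂(K)`. -/
noncomputable def g2Alpha : ↥(chevG2.group K) ≃* ↥(chevG2.group K) :=
  Classical.choose (exists_alpha (perfect3 K))

theorem g2Alpha_spec (g g' : ↥(chevG2.group K))
    (h : ((g : GL chevG2.Idx K), (g' : GL chevG2.Idx K)) ∈ g2Blocks.rel K) : g2Alpha K g = g' :=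
  Classical.choose_spec (exists_alpha (perfect3 K)) g g' h

theorem g2Alpha_xG (r : ℕ) (hr : r < 12) (t : K) :
    g2Alpha K ⟨xG hD2 r t, xG_mem r hr t⟩
      = ⟨xG hD2 (g2rho r) (t ^ g2lam r), xG_mem _ (g2rho_lt r hr) _⟩ :=
  g2Alpha_spec K _ _ (pair_all r hr t)

/-- The twisting automorphism `σ` of `G₂(K)`: the field automorphism `t ↦ t^(3^m)` followed by the exceptional
graph automorphism. -/
noncomputable def reeSigma (m : ℕ) : ↥(chevG2.group K) ≃* ↥(chevG2.group K) :=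
  (glMapG chevG2 (iterateFrobeniusEquiv K 3 m)).trans (g2Alpha K)

/-- `σ(x_r(t)) = x_{ρ r}(t^(λ(r) 3^m))` for every root `r`. -/
theorem reeSigma_xG (m : ℕ) (r : ℕ) (hr : r < 12) (t : K) :
    reeSigma K m ⟨xG hD2 r t, xG_mem r hr t⟩
      = ⟨xG hD2 (g2rho r) (t ^ (g2lam r * 3 ^ m)), xG_mem _ (g2rho_lt r hr) _⟩ := by
  have e1 : glMapG chevG2 (iterateFrobeniusEquiv K 3 m) ⟨xG hD2 r t, xG_mem r hr t⟩
      = ⟨xG hD2 r (t ^ 3 ^ m), xG_mem r hr _⟩ := by
    apply Subtype.ext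
    rw [glMapG_coe, glMap_xG' hD2, iterateFrobeniusEquiv_def]
  unfold reeSigma
  rw [MulEquiv.trans_apply, e1, g2Alpha_xG K r hr]
  apply Subtype.ext
  show xG hD2 (g2rho r) ((t ^ 3 ^ m) ^ g2lam r) = xG hD2 (g2rho r) (t ^ (g2lam r * 3 ^ m))
  rw [← pow_mul, mul_comm]

/-- The image of a word in root elements. -/
theorem reeSigma_wordG (m : ℕ) (w : List (ℕ × K)) (hw : ∀ a ∈ w, a.1 < 12) :
    reeSigma K m ⟨wordG hD2 w, wordG_mem w hw⟩
      = ⟨wordG hD2 (mapWord (3 ^ m) w), wordG_mem _ (mapWord_lt _ w hw)⟩ := by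
  induction w with
  | nil =>
    have : (⟨wordG hD2 ([] : List (ℕ × K)), wordG_mem [] hw⟩ : ↥(chevG2.group K)) = 1 := rfl
    rw [this, map_one]
    rfl
  | cons a w ih =>
    have hw' : ∀ b ∈ w, b.1 < 12 := fun b hb => hw b (List.mem_cons_of_mem _ hb)
    have ha : a.1 < 12 := hw a List.mem_cons_self
    have e : (⟨wordG hD2 (a :: w), wordG_mem (a :: w) hw⟩ : ↥(chevG2.group K))
        = ⟨xG hD2 a.1 a.2, xG_mem a.1 ha a.2⟩ * ⟨wordG hD2 w, wordG_mem w hw'⟩ := by
      apply Subtype.ext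
      rw [Subgroup.coe_mul]
      exact wordG_cons hD2 a w
    rw [e, map_mul, ih hw', reeSigma_xG K m a.1 ha]
    apply Subtype.ext
    rw [Subgroup.coe_mul]
    show xG hD2 (g2rho a.1) (a.2 ^ (g2lam a.1 * 3 ^ m)) * wordG hD2 (mapWord (3 ^ m) w)
      = wordG hD2 (mapWord (3 ^ m) (a :: w))
    unfold mapWord
    rw [List.map_cons, wordG_cons]

/-- `σ² = 1` when `t^(3·3^m·3^m) = t` for all `t ∈ K` (e.g. `|K| = 3^(2m+1)`). -/
theorem reeSigma_reeSigma (m : ℕ) (hq : ∀ t : K, t ^ (3 * 3 ^ m * 3 ^ m) = t) (g : ↥(chevG2.group K)) :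
    reeSigma K m (reeSigma K m g) = g := by
  have hroot : ∀ (r : ℕ) (hr : r < 12) (t : K),
      reeSigma K m (reeSigma K m ⟨xG hD2 r t, xG_mem r hr t⟩) = ⟨xG hD2 r t, xG_mem r hr t⟩ := by
    intro r hr t
    rw [reeSigma_xG K m r hr, reeSigma_xG K m _ (g2rho_lt r hr)]
    apply Subtype.ext
    show xG hD2 (g2rho (g2rho r)) ((t ^ (g2lam r * 3 ^ m)) ^ (g2lam (g2rho r) * 3 ^ m)) = xG hD2 r t
    rw [g2rho_g2rho r hr, ← pow_mul]
    have : g2lam r * 3 ^ m * (g2lam (g2rho r) * 3 ^ m) = 3 * 3 ^ m * 3 ^ m := by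
      rw [← g2lam_mul r hr]; ring
    rw [this, hq]
  have h := hom_ext_fund (F := K) hD2
    (((reeSigma K m).trans (reeSigma K m)).toMonoidHom) (MonoidHom.id _) (by
      intro y i t hi hy
      change i < 2 at hi
      show reeSigma K m (reeSigma K m y) = y
      rcases hy with hy | hy
      · interval_cases i
        · have e : y = ⟨xG hD2 7 t, xG_mem 7 (by decide) t⟩ := Subtype.ext (eq_xG hD2 _ 7 t hy)
          rw [e]; exact hroot 7 (by decide) t
        · have e : y = ⟨xG hD2 6 t, xG_mem 6 (by decide) t⟩ := Subtype.ext (eq_xG hD2 _ 6 t hy)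
          rw [e]; exact hroot 6 (by decide) t
      · interval_cases i
        · have e : y = ⟨xG hD2 4 t, xG_mem 4 (by decide) t⟩ := Subtype.ext (eq_xG hD2 _ 4 t hy)
          rw [e]; exact hroot 4 (by decide) t
        · have e : y = ⟨xG hD2 5 t, xG_mem 5 (by decide) t⟩ := Subtype.ext (eq_xG hD2 _ 5 t hy)
          rw [e]; exact hroot 5 (by decide) t)
  exact congrFun (congrArg DFunLike.coe h) g

end Sigma

end Cfsg.Agent.Lib.Helper91.Ree
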