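/-
helper91: the twisting automorphism `σ` of `F₄(K)`, `K` finite of characteristic 2: the exceptional graph
automorphism composed with the field automorphism `t ↦ t^(2^m)`.  On every root element
`σ(x_r(t)) = x_{ρ r}(t^(λ(r) 2^m))`; `σ² = 1` when `t^(2·2^m·2^m) = t` on `K`.
-/
import Cfsg.Agent.Lib.Helper91.WordModP
import Cfsg.Agent.Lib.Helper91.ExcAut3
import Cfsg.Agent.Lib.Helper91.ReeSigma
import Cfsg.Agent.S1098

set_option autoImplicit false

namespace Cfsg.Agent.Lib.Helper91.ReeF4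

open Cfsg.Lie Cfsg.Agent.Lib.Helper18 Cfsg.Agent.Lib.Helper91.ChevGen Cfsg.Agent.Lib.Helper91.ExcAut
open Cfsg.Agent.S1098 (f4Blocks f4_chk)
open Cfsg.Agent.Lib.Helper91.Ree (glMapG glMapG_coe glMap_xG')

universe u

theorem hD4 : chevF4 ∈ [chevG2, chevB2, chevD4, chevF4, chevE6, chevE7, chevE8] := by simp

/-! ### The permutation of the roots and the exponents -/

/-- The permutation of the 48 roots of `F₄` induced by the symmetry of the diagram. -/
def f4rho (r : ℕ) : ℕ := [3, 7, 8, 0, 9, 11, 18, 1, 2, 4, 15, 5, 16, 21, 23, 10, 12, 19, 6, 17, 22, 13, 20, 14, 33,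
  27, 34, 25, 30, 41, 28, 35, 37, 24, 26, 31, 42, 32, 43, 45, 46, 29, 36, 38, 47, 39, 40, 44].getD r r

/-- The exponent: 2 on short roots, 1 on long roots. -/
def f4lam (r : ℕ) : ℕ := [1, 1, 1, 2, 1, 1, 1, 2, 2, 2, 2, 2, 2, 2, 2, 1, 1, 1, 2, 2, 2, 1, 1, 1, 1, 1, 1, 2, 2, 2,
  1, 1, 1, 2, 2, 2, 2, 2, 2, 2, 2, 1, 1, 1, 2, 1, 1, 1].getD r 1

theorem f4rho_lt (r : ℕ) (hr : r < 48) : f4rho r < 48 := by interval_cases r <;> decide

theorem f4rho_f4rho (r : ℕ) (hr : r < 48) : f4rho (f4rho r) = r := by interval_cases r <;> decide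

theorem f4rho_pos (r : ℕ) (hr : r < 48) : 24 ≤ f4rho r ↔ 24 ≤ r := by interval_cases r <;> decide

theorem f4rho_neg (r : ℕ) (hr : r < 48) : f4rho (chevF4.neg r) = chevF4.neg (f4rho r) := by
  interval_cases r <;> decide

theorem f4lam_mul (r : ℕ) (hr : r < 48) : f4lam r * f4lam (f4rho r) = 2 := by interval_cases r <;> decide

theorem f4lam_cases (r : ℕ) : f4lam r = 1 ∨ f4lam r = 2 := by
  by_cases hr : r < 48
  · interval_cases r <;> decide
  · left
    unfold f4lam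
    rw [List.getD_eq_default _ _ (by simpa using hr)]

/-! ### Table checks for all roots -/

set_option maxRecDepth 100000 in
theorem zero_chk_all : ∀ r : Fin 48, ∀ j i : Fin 26,
    zeroChk chevF4 2 r (code chevF4 (f4Blocks.eI i)) (code chevF4 (f4Blocks.eJ j)) = true := by
  decide +kernel

set_option maxRecDepth 100000 in
theorem eq_chk_all : ∀ r : Fin 48, ∀ i j : Fin 26,
    eqChk chevF4 2 r (f4rho r) (f4lam r) (code chevF4 (f4Blocks.eJ j)) (code chevF4 (f4Blocks.eJ i))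
      (code chevF4 (f4Blocks.eI j)) (code chevF4 (f4Blocks.eI i)) = true := by
  decide +kernel

section Alpha

variable {K : Type u} [Field K] [CharP K 2]

theorem pair_all (r : ℕ) (hr : r < 48) (t : K) :
    (xG hD4 r t, xG hD4 (f4rho r) (t ^ f4lam r)) ∈ f4Blocks.rel K :=
  f4Blocks.pair_mem_rel hD4 2 (CharP.cast_eq_zero K 2) r (f4rho r) hr (f4rho_lt r hr) (f4lam r)
    (zero_chk_all ⟨r, hr⟩) (zero_chk_all ⟨f4rho r, f4rho_lt r hr⟩) (eq_chk_all ⟨r, hr⟩) t

omit [CharP K 2] in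
theorem xG_mem (r : ℕ) (hr : r < 48) (t : K) : xG hD4 r t ∈ chevF4.group K := xG_mem_group hD4 r hr t

/-- The exceptional graph automorphism, characterised by the relation of the two blocks. -/
theorem exists_alpha (hperf : ∀ x : K, ∃ y : K, y ^ 2 = x) :
    ∃ α : ↥(chevF4.group K) ≃* ↥(chevF4.group K), ∀ g g' : ↥(chevF4.group K),
      ((g : GL chevF4.Idx K), (g' : GL chevF4.Idx K)) ∈ f4Blocks.rel K → α g = g' :=
  exists_graph_aut_rel (F := K) hD4 chevData_F4.{u} [0, 1, 2, 3] dynkinOK_F4 f4Blocks 2 (CharP.cast_eq_zero K 2)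
    hperf [(3, 2), (2, 2), (1, 1), (0, 1)] (by decide) (by decide) (by decide) f4_chk
    33 (by decide) (by decide) 13 14 rfl rfl 24 (by decide) (by decide) 13 14 rfl rfl

end Alpha

/-! ### Words -/

section Words

variable {K : Type u} [Field K]

/-- The image of a word under `x_r(t) ↦ x_{ρ r}(t^(λ(r) e))`. -/
def mapWord (e : ℕ) (w : List (ℕ × K)) : List (ℕ × K) :=
  w.map fun a => (f4rho a.1, a.2 ^ (f4lam a.1 * e))

theorem wordG_mem (w : List (ℕ × K)) (hw : ∀ a ∈ w, a.1 < 48) : wordG hD4 w ∈ chevF4.group K := by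
  induction w with
  | nil => rw [wordG_nil]; exact one_mem _
  | cons a w ih =>
    rw [wordG_cons]
    exact mul_mem (xG_mem a.1 (hw a List.mem_cons_self) a.2)
      (ih fun b hb => hw b (List.mem_cons_of_mem _ hb))

theorem mapWord_lt (e : ℕ) (w : List (ℕ × K)) (hw : ∀ a ∈ w, a.1 < 48) : ∀ a ∈ mapWord e w, a.1 < 48 := by
  intro a ha
  unfold mapWord at ha
  rw [List.mem_map] at ha
  obtain ⟨b, hb, rfl⟩ := ha
  exact f4rho_lt _ (hw b hb)

end Words

/-! ### The twisting automorphism -/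

section Sigma

variable (K : Type u) [Field K] [Fintype K] [CharP K 2]

theorem perfect2 : ∀ x : K, ∃ y : K, y ^ 2 = x := fun x => by
  obtain ⟨y, hy⟩ := (frobeniusEquiv K 2).surjective x
  exact ⟨y, by rw [← hy]; rfl⟩

/-- The exceptional graph automorphism of `F₄(K)`. -/
noncomputable def f4Alpha : ↥(chevF4.group K) ≃* ↥(chevF4.group K) :=
  Classical.choose (exists_alpha (perfect2 K))

theorem f4Alpha_spec (g g' : ↥(chevF4.group K))
    (h : ((g : GL chevF4.Idx K), (g' : GL chevF4.Idx K)) ∈ f4Blocks.rel K) : f4Alpha K g = g' :=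
  Classical.choose_spec (exists_alpha (perfect2 K)) g g' h

theorem f4Alpha_xG (r : ℕ) (hr : r < 48) (t : K) :
    f4Alpha K ⟨xG hD4 r t, xG_mem r hr t⟩
      = ⟨xG hD4 (f4rho r) (t ^ f4lam r), xG_mem _ (f4rho_lt r hr) _⟩ :=
  f4Alpha_spec K _ _ (pair_all r hr t)

/-- The twisting automorphism `σ` of `F₄(K)`: the field automorphism `t ↦ t^(2^m)` followed by the exceptional
graph automorphism. -/
noncomputable def f4Sigma (m : ℕ) : ↥(chevF4.group K) ≃* ↥(chevF4.group K) :=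
  (glMapG chevF4 (iterateFrobeniusEquiv K 2 m)).trans (f4Alpha K)

/-- `σ(x_r(t)) = x_{ρ r}(t^(λ(r) 2^m))` for every root `r`. -/
theorem f4Sigma_xG (m : ℕ) (r : ℕ) (hr : r < 48) (t : K) :
    f4Sigma K m ⟨xG hD4 r t, xG_mem r hr t⟩
      = ⟨xG hD4 (f4rho r) (t ^ (f4lam r * 2 ^ m)), xG_mem _ (f4rho_lt r hr) _⟩ := by
  have e1 : glMapG chevF4 (iterateFrobeniusEquiv K 2 m) ⟨xG hD4 r t, xG_mem r hr t⟩
      = ⟨xG hD4 r (t ^ 2 ^ m), xG_mem r hr _⟩ := by
    apply Subtype.ext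
    rw [glMapG_coe, glMap_xG' hD4, iterateFrobeniusEquiv_def]
  unfold f4Sigma
  rw [MulEquiv.trans_apply, e1, f4Alpha_xG K r hr]
  apply Subtype.ext
  show xG hD4 (f4rho r) ((t ^ 2 ^ m) ^ f4lam r) = xG hD4 (f4rho r) (t ^ (f4lam r * 2 ^ m))
  rw [← pow_mul, mul_comm]

/-- The image of a word in root elements. -/
theorem f4Sigma_wordG (m : ℕ) (w : List (ℕ × K)) (hw : ∀ a ∈ w, a.1 < 48) :
    f4Sigma K m ⟨wordG hD4 w, wordG_mem w hw⟩
      = ⟨wordG hD4 (mapWord (2 ^ m) w), wordG_mem _ (mapWord_lt _ w hw)⟩ := by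
  induction w with
  | nil =>
    have : (⟨wordG hD4 ([] : List (ℕ × K)), wordG_mem [] hw⟩ : ↥(chevF4.group K)) = 1 := rfl
    rw [this, map_one]
    rfl
  | cons a w ih =>
    have hw' : ∀ b ∈ w, b.1 < 48 := fun b hb => hw b (List.mem_cons_of_mem _ hb)
    have ha : a.1 < 48 := hw a List.mem_cons_self
    have e : (⟨wordG hD4 (a :: w), wordG_mem (a :: w) hw⟩ : ↥(chevF4.group K))
        = ⟨xG hD4 a.1 a.2, xG_mem a.1 ha a.2⟩ * ⟨wordG hD4 w, wordG_mem w hw'⟩ := by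
      apply Subtype.ext
      rw [Subgroup.coe_mul]
      exact wordG_cons hD4 a w
    rw [e, map_mul, ih hw', f4Sigma_xG K m a.1 ha]
    apply Subtype.ext
    rw [Subgroup.coe_mul]
    show xG hD4 (f4rho a.1) (a.2 ^ (f4lam a.1 * 2 ^ m)) * wordG hD4 (mapWord (2 ^ m) w)
      = wordG hD4 (mapWord (2 ^ m) (a :: w))
    unfold mapWord
    rw [List.map_cons, wordG_cons]

/-- `σ² = 1` when `t^(2·2^m·2^m) = t` for all `t ∈ K` (e.g. `|K| = 2^(2m+1)`). -/
theorem f4Sigma_f4Sigma (m : ℕ) (hq : ∀ t : K, t ^ (2 * 2 ^ m * 2 ^ m) = t) (g : ↥(chevF4.group K)) :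
    f4Sigma K m (f4Sigma K m g) = g := by
  have hroot : ∀ (r : ℕ) (hr : r < 48) (t : K),
      f4Sigma K m (f4Sigma K m ⟨xG hD4 r t, xG_mem r hr t⟩) = ⟨xG hD4 r t, xG_mem r hr t⟩ := by
    intro r hr t
    rw [f4Sigma_xG K m r hr, f4Sigma_xG K m _ (f4rho_lt r hr)]
    apply Subtype.ext
    show xG hD4 (f4rho (f4rho r)) ((t ^ (f4lam r * 2 ^ m)) ^ (f4lam (f4rho r) * 2 ^ m)) = xG hD4 r t
    rw [f4rho_f4rho r hr, ← pow_mul]
    have : f4lam r * 2 ^ m * (f4lam (f4rho r) * 2 ^ m) = 2 * 2 ^ m * 2 ^ m := by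
      rw [← f4lam_mul r hr]; ring
    rw [this, hq]
  have hsl : ∀ i < chevF4.rank, chevF4.simple i < 48 := fun i hi => chevData_F4.{u}.simple_lt i hi
  have hnl : ∀ i < chevF4.rank, chevF4.neg (chevF4.simple i) < 48 := fun i hi =>
    neg_lt_nroots chevF4 hD4 _ (hsl i hi)
  have h := hom_ext_fund (F := K) hD4
    (((f4Sigma K m).trans (f4Sigma K m)).toMonoidHom) (MonoidHom.id _) (by
      intro y i t hi hy
      show f4Sigma K m (f4Sigma K m y) = y
      rcases hy with hy | hy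
      · have e : y = ⟨xG hD4 _ t, xG_mem _ (hsl i hi) t⟩ := Subtype.ext (eq_xG hD4 _ _ t hy)
        rw [e]; exact hroot _ (hsl i hi) t
      · have e : y = ⟨xG hD4 _ t, xG_mem _ (hnl i hi) t⟩ := Subtype.ext (eq_xG hD4 _ _ t hy)
        rw [e]; exact hroot _ (hnl i hi) t)
  exact congrFun (congrArg DFunLike.coe h) g

end Sigma

end Cfsg.Agent.Lib.Helper91.ReeF4
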