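/-
helper91: the generators of `²F₄` (the pair words and the `B₂`-class words) are fixed by the twisting automorphism
`σ` of `F₄(K)`; hence `twistedF4 K (2^m) ≤ Fix(σ)`.  The collection identities are checked modulo 2 on helper18's
symbolic engine.
-/
import Cfsg.Agent.Lib.Helper91.F4Sigma

set_option autoImplicit false

namespace Cfsg.Agent.Lib.Helper91.ReeF4

open Cfsg.Lie Cfsg.Agent.Lib.Helper18 Cfsg.Agent.Lib.Helper91.ChevGen Cfsg.Agent.Lib.Helper91.ExcAut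

universe u

/-! ### The collection identities -/

/-- The variable `X_k`. -/
def sv (k : ℕ) : Poly := varPoly k

def pairL (r rb : ℕ) : List (ℕ × Poly) := [(rb, sv 2), (r, sv 3)]

def pairR (r rb : ℕ) : List (ℕ × Poly) := [(r, sv 3), (rb, sv 2)]

def clsL (a b ab aab : ℕ) : List (ℕ × Poly) := [(b, sv 2), (a, sv 3), (aab, sv 4), (ab, sv 5)]

def clsR (a b ab aab : ℕ) : List (ℕ × Poly) := [(a, sv 3), (b, sv 2), (ab, sv 5 ++ mulPoly (sv 2) (sv 3)),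
  (aab, sv 4 ++ mulPoly (sv 2) (powPoly (sv 3) 2))]

set_option maxRecDepth 100000 in
theorem pair_pos_chk : wordEqChk chevF4 2 (pairL 33 24) (pairR 33 24) = true := by decide +kernel

set_option maxRecDepth 100000 in
theorem pair_neg_chk : wordEqChk chevF4 2 (pairL 14 23) (pairR 14 23) = true := by decide +kernel

set_option maxRecDepth 100000 in
theorem cls_pos_chk : wordEqChk chevF4 2 (clsL 27 25 28 30) (clsR 27 25 28 30) = true := by decide +kernel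

set_option maxRecDepth 100000 in
theorem cls_neg_chk : wordEqChk chevF4 2 (clsL 20 22 19 17) (clsR 20 22 19 17) = true := by decide +kernel

section Ident

variable {K : Type u} [Field K] [CharP K 2]

/-- The valuation of the four variables. -/
def val4 (s₁ s₂ s₃ s₄ : K) : ℕ → K := fun k =>
  if k = 2 then s₁ else if k = 3 then s₂ else if k = 4 then s₃ else if k = 5 then s₄ else 1

theorem pair_identity_aux (r rb : ℕ) (hc : wordEqChk chevF4 2 (pairL r rb) (pairR r rb) = true) (s₁ s₂ : K) :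
    chevF4.wordMat K [(rb, s₁), (r, s₂)] = chevF4.wordMat K [(r, s₂), (rb, s₁)] := by
  have h := wordMat_eq_of_wordEqChk chevF4 (val4 s₁ s₂ 1 1) (by simp [val4]) 2
    (CharP.cast_eq_zero K 2) (pairL r rb) (pairR r rb) hc
  have eL : evWord (val4 s₁ s₂ 1 1) (pairL r rb) = [(rb, s₁), (r, s₂)] := by
    simp [evWord, pairL, sv, val4]
  have eR : evWord (val4 s₁ s₂ 1 1) (pairR r rb) = [(r, s₂), (rb, s₁)] := by
    simp [evWord, pairR, sv, val4]
  rw [eL, eR] at h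
  exact h

theorem cls_identity_aux (a b ab aab : ℕ)
    (hc : wordEqChk chevF4 2 (clsL a b ab aab) (clsR a b ab aab) = true) (s₁ s₂ s₃ s₄ : K) :
    chevF4.wordMat K [(b, s₁), (a, s₂), (aab, s₃), (ab, s₄)]
      = chevF4.wordMat K [(a, s₂), (b, s₁), (ab, s₄ + s₁ * s₂), (aab, s₃ + s₁ * s₂ ^ 2)] := by
  have h := wordMat_eq_of_wordEqChk chevF4 (val4 s₁ s₂ s₃ s₄) (by simp [val4]) 2
    (CharP.cast_eq_zero K 2) (clsL a b ab aab) (clsR a b ab aab) hc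
  have eL : evWord (val4 s₁ s₂ s₃ s₄) (clsL a b ab aab) = [(b, s₁), (a, s₂), (aab, s₃), (ab, s₄)] := by
    simp [evWord, clsL, sv, val4]
  have eR : evWord (val4 s₁ s₂ s₃ s₄) (clsR a b ab aab)
      = [(a, s₂), (b, s₁), (ab, s₄ + s₁ * s₂), (aab, s₃ + s₁ * s₂ ^ 2)] := by
    simp [evWord, clsR, sv, val4, evPoly_append, evPoly_mulPoly, evPoly_powPoly]
  rw [eL, eR] at h
  exact h

end Ident

/-! ### The generators are fixed -/

section Fixed

variable {K : Type u} [Field K] [CharP K 2]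
set_option linter.unusedSectionVars false

theorem frob_add (m : ℕ) (x y : K) : (x + y) ^ (2 * 2 ^ m) = x ^ (2 * 2 ^ m) + y ^ (2 * 2 ^ m) := by
  have : 2 * 2 ^ m = 2 ^ (m + 1) := by rw [pow_succ, mul_comm]
  rw [this]
  have : Fact (Nat.Prime 2) := ⟨by norm_num⟩
  exact add_pow_char_pow x y 2 (m + 1)

theorem list2_ext {r₁ r₂ : ℕ} {a₁ a₂ b₁ b₂ : K} (h₁ : a₁ = b₁) (h₂ : a₂ = b₂) :
    [(r₁, a₁), (r₂, a₂)] = [(r₁, b₁), (r₂, b₂)] := by
  subst h₁ h₂; rfl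

theorem list4_ext {r₁ r₂ r₃ r₄ : ℕ} {a₁ a₂ a₃ a₄ b₁ b₂ b₃ b₄ : K}
    (h₁ : a₁ = b₁) (h₂ : a₂ = b₂) (h₃ : a₃ = b₃) (h₄ : a₄ = b₄) :
    [(r₁, a₁), (r₂, a₂), (r₃, a₃), (r₄, a₄)] = [(r₁, b₁), (r₂, b₂), (r₃, b₃), (r₄, b₄)] := by
  subst h₁ h₂ h₃ h₄; rfl

section

variable (m : ℕ) (hq : ∀ t : K, t ^ (2 * 2 ^ m * 2 ^ m) = t)
include hq

theorem theta_q (x : K) : (x ^ 2 ^ m) ^ (2 * 2 ^ m) = x := by
  rw [← pow_mul]
  have : 2 ^ m * (2 * 2 ^ m) = 2 * 2 ^ m * 2 ^ m := by ring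
  rw [this, hq]

theorem q_theta (x : K) : (x ^ (2 * 2 ^ m)) ^ 2 ^ m = x := by
  rw [← pow_mul, hq]

theorem coef_c (t u : K) : (t ^ (2 ^ m + 1) + u) ^ (2 * 2 ^ m) = t * t ^ (2 * 2 ^ m) + u ^ (2 * 2 ^ m) := by
  rw [frob_add, pow_succ, mul_pow, theta_q m hq]

theorem mapWord_pair_pos (t : K) :
    chevF4.wordMat K (mapWord (2 ^ m) (f4PairWord (2 ^ m) f4p1 f4p4 t))
      = chevF4.wordMat K (f4PairWord (2 ^ m) f4p1 f4p4 t) := by
  have e0 : mapWord (2 ^ m) (f4PairWord (2 ^ m) f4p1 f4p4 t)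
      = [(24, (t ^ 2 ^ m) ^ (2 * 2 ^ m)), (33, t ^ (1 * 2 ^ m))] := rfl
  rw [e0, pair_identity_aux 33 24 pair_pos_chk]
  refine congrArg (chevF4.wordMat K) (list2_ext ?_ ?_)
  · rw [one_mul]
  · exact theta_q m hq t

theorem mapWord_pair_neg (t : K) :
    chevF4.wordMat K (mapWord (2 ^ m) (f4PairWord (2 ^ m) f4m1 f4m4 t))
      = chevF4.wordMat K (f4PairWord (2 ^ m) f4m1 f4m4 t) := by
  have e0 : mapWord (2 ^ m) (f4PairWord (2 ^ m) f4m1 f4m4 t)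
      = [(23, (t ^ 2 ^ m) ^ (2 * 2 ^ m)), (14, t ^ (1 * 2 ^ m))] := rfl
  rw [e0, pair_identity_aux 14 23 pair_neg_chk]
  refine congrArg (chevF4.wordMat K) (list2_ext ?_ ?_)
  · rw [one_mul]
  · exact theta_q m hq t

theorem mapWord_cls_pos (t u : K) :
    chevF4.wordMat K (mapWord (2 ^ m) (b2ClassWord (2 ^ m) f4a f4b f4ab f4aab t u))
      = chevF4.wordMat K (b2ClassWord (2 ^ m) f4a f4b f4ab f4aab t u) := by
  have e0 : mapWord (2 ^ m) (b2ClassWord (2 ^ m) f4a f4b f4ab f4aab t u)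
      = [(25, (t ^ 2 ^ m) ^ (2 * 2 ^ m)), (27, t ^ (1 * 2 ^ m)),
         (30, (t ^ (2 ^ m + 1) + u) ^ (2 * 2 ^ m)), (28, (u ^ (2 * 2 ^ m)) ^ (1 * 2 ^ m))] := rfl
  rw [e0, cls_identity_aux 27 25 28 30 cls_pos_chk]
  refine congrArg (chevF4.wordMat K) (list4_ext ?_ ?_ ?_ ?_)
  · rw [one_mul]
  · exact theta_q m hq t
  · rw [one_mul, q_theta m hq, theta_q m hq, pow_succ]; ring
  · rw [coef_c m hq, theta_q m hq, one_mul, ← pow_mul, mul_comm (2 ^ m) 2]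
    have h2 : t * t ^ (2 * 2 ^ m) + t * t ^ (2 * 2 ^ m) = 0 := CharTwo.add_self_eq_zero _
    calc t * t ^ (2 * 2 ^ m) + u ^ (2 * 2 ^ m) + t * t ^ (2 * 2 ^ m)
        = u ^ (2 * 2 ^ m) + (t * t ^ (2 * 2 ^ m) + t * t ^ (2 * 2 ^ m)) := by ring
      _ = u ^ (2 * 2 ^ m) := by rw [h2, add_zero]

theorem mapWord_cls_neg (t u : K) :
    chevF4.wordMat K (mapWord (2 ^ m) (b2ClassWord (2 ^ m) f4ma f4mb f4mab f4maab t u))
      = chevF4.wordMat K (b2ClassWord (2 ^ m) f4ma f4mb f4mab f4maab t u) := by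
  have e0 : mapWord (2 ^ m) (b2ClassWord (2 ^ m) f4ma f4mb f4mab f4maab t u)
      = [(22, (t ^ 2 ^ m) ^ (2 * 2 ^ m)), (20, t ^ (1 * 2 ^ m)),
         (17, (t ^ (2 ^ m + 1) + u) ^ (2 * 2 ^ m)), (19, (u ^ (2 * 2 ^ m)) ^ (1 * 2 ^ m))] := rfl
  rw [e0, cls_identity_aux 20 22 19 17 cls_neg_chk]
  refine congrArg (chevF4.wordMat K) (list4_ext ?_ ?_ ?_ ?_)
  · rw [one_mul]
  · exact theta_q m hq t
  · rw [one_mul, q_theta m hq, theta_q m hq, pow_succ]; ring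
  · rw [coef_c m hq, theta_q m hq, one_mul, ← pow_mul, mul_comm (2 ^ m) 2]
    have h2 : t * t ^ (2 * 2 ^ m) + t * t ^ (2 * 2 ^ m) = 0 := CharTwo.add_self_eq_zero _
    calc t * t ^ (2 * 2 ^ m) + u ^ (2 * 2 ^ m) + t * t ^ (2 * 2 ^ m)
        = u ^ (2 * 2 ^ m) + (t * t ^ (2 * 2 ^ m) + t * t ^ (2 * 2 ^ m)) := by ring
      _ = u ^ (2 * 2 ^ m) := by rw [h2, add_zero]

end

end Fixed

/-! ### `²F₄ ≤ Fix(σ)` -/

section Final

theorem f4Words_lt {K : Type u} [Field K] (e : ℕ) (w : List (ℕ × K)) (hw : w ∈ f4Words K e) :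
    ∀ a ∈ w, a.1 < 48 := by
  intro a ha
  rcases hw with ⟨t, rfl | rfl⟩ | ⟨t, u, rfl | rfl⟩
  · simp only [f4PairWord, List.mem_cons, List.not_mem_nil, or_false] at ha
    rcases ha with rfl | rfl <;> simp only [f4p1, f4p4] <;> norm_num
  · simp only [f4PairWord, List.mem_cons, List.not_mem_nil, or_false] at ha
    rcases ha with rfl | rfl <;> simp only [f4m1, f4m4] <;> norm_num
  · simp only [b2ClassWord, List.mem_cons, List.not_mem_nil, or_false] at ha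
    rcases ha with rfl | rfl | rfl | rfl <;> simp only [f4a, f4b, f4ab, f4aab] <;> norm_num
  · simp only [b2ClassWord, List.mem_cons, List.not_mem_nil, or_false] at ha
    rcases ha with rfl | rfl | rfl | rfl <;> simp only [f4ma, f4mb, f4mab, f4maab] <;> norm_num

/-- A generator of `²F₄` is the `wordG` of its word. -/
theorem gen_eq_wordG {K : Type u} [Field K] (g : GL chevF4.Idx K) (w : List (ℕ × K))
    (hgw : (g : Matrix chevF4.Idx chevF4.Idx K) = chevF4.wordMat K w) : g = wordG hD4 w :=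
  Units.ext (by rw [hgw, coe_wordG])

/-- `²F₄(K, e)` lies in the Chevalley group `F₄(K)` (any field, any exponent). -/
theorem twistedF4_le_group (K : Type u) [Field K] (e : ℕ) : twistedF4 K e ≤ chevF4.group K := by
  unfold twistedF4 ChevalleyDatum.genSubgroup
  rw [Subgroup.closure_le]
  rintro g ⟨w, hw, hgw⟩
  rw [gen_eq_wordG g w hgw]
  exact wordG_mem w (f4Words_lt e w hw)

variable (K : Type u) [Field K] [Fintype K] [CharP K 2]

/-- The fixed points of `σ`, as a subgroup of `F₄(K)`. -/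
noncomputable def f4Fix (m : ℕ) : Subgroup ↥(chevF4.group K) :=
  MonoidHom.eqLocus (f4Sigma K m).toMonoidHom (MonoidHom.id _)

theorem mem_f4Fix (m : ℕ) (g : ↥(chevF4.group K)) : g ∈ f4Fix K m ↔ f4Sigma K m g = g := Iff.rfl

/-- The generators of `²F₄` are fixed by `σ`. -/
theorem f4Sigma_gen (m : ℕ) (hq : ∀ t : K, t ^ (2 * 2 ^ m * 2 ^ m) = t) (w : List (ℕ × K))
    (hw : w ∈ f4Words K (2 ^ m)) :
    f4Sigma K m ⟨wordG hD4 w, wordG_mem w (f4Words_lt _ w hw)⟩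
      = ⟨wordG hD4 w, wordG_mem w (f4Words_lt _ w hw)⟩ := by
  rw [f4Sigma_wordG K m w (f4Words_lt _ w hw)]
  apply Subtype.ext
  apply Units.ext
  show ((wordG hD4 (mapWord (2 ^ m) w) : GL chevF4.Idx K) : Matrix chevF4.Idx chevF4.Idx K)
    = ((wordG hD4 w : GL chevF4.Idx K) : Matrix chevF4.Idx chevF4.Idx K)
  rw [coe_wordG, coe_wordG]
  rcases hw with ⟨t, rfl | rfl⟩ | ⟨t, u, rfl | rfl⟩
  · exact mapWord_pair_pos m hq t
  · exact mapWord_pair_neg m hq t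
  · exact mapWord_cls_pos m hq t u
  · exact mapWord_cls_neg m hq t u

/-- `²F₄(K, 2^m) ≤ Fix(σ)` (as subgroups of `GL`). -/
theorem twistedF4_le_f4Fix (m : ℕ) (hq : ∀ t : K, t ^ (2 * 2 ^ m * 2 ^ m) = t) :
    twistedF4 K (2 ^ m) ≤ (f4Fix K m).map (chevF4.group K).subtype := by
  unfold twistedF4 ChevalleyDatum.genSubgroup
  rw [Subgroup.closure_le]
  rintro g ⟨w, hw, hgw⟩
  exact ⟨⟨wordG hD4 w, wordG_mem w (f4Words_lt _ w hw)⟩, f4Sigma_gen K m hq w hw, (gen_eq_wordG g w hgw).symm⟩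

/-- Every element of `²F₄(K, 2^m)` is fixed by `σ`. -/
theorem f4Sigma_fixed (m : ℕ) (hq : ∀ t : K, t ^ (2 * 2 ^ m * 2 ^ m) = t) (g : GL chevF4.Idx K)
    (hg : g ∈ twistedF4 K (2 ^ m)) :
    f4Sigma K m ⟨g, twistedF4_le_group K _ hg⟩ = ⟨g, twistedF4_le_group K _ hg⟩ := by
  obtain ⟨x, hx, hxg⟩ := twistedF4_le_f4Fix K m hq hg
  have e : x = ⟨g, twistedF4_le_group K _ hg⟩ := Subtype.ext hxg
  rw [← e]
  exact hx

end Final

end Cfsg.Agent.Lib.Helper91.ReeF4
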