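/-
helper91: an automorphism `σ` of a Chevalley group (as a `MulEquiv` of the subgroup type) acting on the root elements
by `x_r(t) ↦ x_{ρ r}(t^(ε r))` preserves `U`, `V`, `H`, `N` and the subgroups `U_n^-`; the three factors of the
strong Bruhat form `u₀ n u` of a `σ`-fixed element are `σ`-fixed.
-/
import Cfsg.Agent.Lib.Helper18.Tw10
import Cfsg.Agent.Lib.Helper91.ChevGen
import Cfsg.Agent.S1043

set_option autoImplicit false

namespace Cfsg.Agent.Lib.Helper91.SigAbs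

open Cfsg.Lie Cfsg.Agent.Lib.Helper18 Cfsg.Agent.Lib.Helper17

universe u

variable {K : Type u} [Field K] {D : ChevalleyDatum}

/-- An automorphism of the Chevalley group acting on root elements by `x_r(t) ↦ x_{ρ r}(t^(ε r))`. -/
structure SigData (K : Type u) [Field K] (D : ChevalleyDatum)
    (hD : D ∈ [chevG2, chevB2, chevD4, chevF4, chevE6, chevE7, chevE8]) where
  σ : ↥(D.group K) ≃* ↥(D.group K)
  ρ : ℕ → ℕ
  ε : ℕ → ℕ
  σ_xG : ∀ (r : ℕ) (hr : r < D.nroots) (t : K),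
    ((σ ⟨xG hD r t, Cfsg.Agent.Lib.Helper91.ChevGen.xG_mem_group hD r hr t⟩ : ↥(D.group K)) : GL D.Idx K)
      = xG hD (ρ r) (t ^ ε r)
  ρ_lt : ∀ r, r < D.nroots → ρ r < D.nroots
  ρ_pos : ∀ r, r < D.nroots → (D.nroots / 2 ≤ ρ r ↔ D.nroots / 2 ≤ r)
  ρ_neg : ∀ r, r < D.nroots → ρ (D.neg r) = D.neg (ρ r)
  ε_neg : ∀ r, r < D.nroots → ε (D.neg r) = ε r
  neg_pow : ∀ (r : ℕ) (t : K), (-t) ^ ε r = -(t ^ ε r)
  pow_surj : ∀ r, r < D.nroots → ∀ s : K, ∃ t : K, t ^ ε r = s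

namespace SigData

variable {hD : D ∈ [chevG2, chevB2, chevD4, chevF4, chevE6, chevE7, chevE8]} (S : SigData K D hD)

/-- `σ` as a map on elements of `GL` known to lie in the Chevalley group. -/
noncomputable def app (x : GL D.Idx K) (hx : x ∈ D.group K) : GL D.Idx K := ((S.σ ⟨x, hx⟩ : ↥(D.group K)) : GL D.Idx K)

theorem app_mem (x : GL D.Idx K) (hx : x ∈ D.group K) : S.app x hx ∈ D.group K := (S.σ ⟨x, hx⟩).2

theorem app_one (h1 : (1 : GL D.Idx K) ∈ D.group K) : S.app 1 h1 = 1 := by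
  unfold app
  have : (⟨1, h1⟩ : ↥(D.group K)) = 1 := rfl
  rw [this, map_one]
  rfl

theorem app_mul (x y : GL D.Idx K) (hx : x ∈ D.group K) (hy : y ∈ D.group K) (hxy : x * y ∈ D.group K) :
    S.app (x * y) hxy = S.app x hx * S.app y hy := by
  unfold app
  have : (⟨x * y, hxy⟩ : ↥(D.group K)) = ⟨x, hx⟩ * ⟨y, hy⟩ := rfl
  rw [this, map_mul]
  rfl

theorem app_inv (x : GL D.Idx K) (hx : x ∈ D.group K) (hx' : x⁻¹ ∈ D.group K) :
    S.app x⁻¹ hx' = (S.app x hx)⁻¹ := by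
  unfold app
  have : (⟨x⁻¹, hx'⟩ : ↥(D.group K)) = (⟨x, hx⟩ : ↥(D.group K))⁻¹ := rfl
  rw [this, map_inv]
  rfl

theorem app_congr (x y : GL D.Idx K) (h : x = y) (hx : x ∈ D.group K) (hy : y ∈ D.group K) :
    S.app x hx = S.app y hy := by
  subst h; rfl

theorem app_xG (r : ℕ) (hr : r < D.nroots) (t : K) (hx : xG hD r t ∈ D.group K) :
    S.app (xG hD r t) hx = xG hD (S.ρ r) (t ^ S.ε r) := S.σ_xG r hr t

/-- Generic closure induction: if `σ` maps the generators `X ⊆ G` into `T`, it maps `closure X` into `T`. -/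
theorem app_mem_of_closure (X : Set (GL D.Idx K)) (hXG : X ⊆ D.group K) (T : Subgroup (GL D.Idx K))
    (hX : ∀ x (hx : x ∈ X), S.app x (hXG hx) ∈ T) (x : GL D.Idx K) (hxc : x ∈ Subgroup.closure X)
    (hx : x ∈ D.group K) : S.app x hx ∈ T := by
  have hle : Subgroup.closure X ≤ D.group K := (Subgroup.closure_le _).mpr hXG
  induction hxc using Subgroup.closure_induction with
  | mem y hy => exact hX y hy
  | one => rw [S.app_one]; exact one_mem T
  | mul y z hy hz ihy ihz =>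
    rw [S.app_mul y z (hle hy) (hle hz)]
    exact mul_mem (ihy (hle hy)) (ihz (hle hz))
  | inv y hy ih =>
    rw [S.app_inv y (hle hy)]
    exact inv_mem (ih (hle hy))

/-! ### Words -/

/-- The image of a word under `x_r(t) ↦ x_{ρ r}(t^(ε r))`. -/
def mapWord (w : List (ℕ × K)) : List (ℕ × K) := w.map fun a => (S.ρ a.1, a.2 ^ S.ε a.1)

theorem wordG_mem_group (w : List (ℕ × K)) : wordG hD w ∈ D.group K := by
  induction w with
  | nil => rw [wordG_nil]; exact one_mem _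
  | cons a w ih =>
    rw [wordG_cons]
    exact mul_mem (Cfsg.Agent.Lib.Helper18.xG_mem_group hD a.1 a.2) ih

theorem app_wordG (w : List (ℕ × K)) (hw : ∀ a ∈ w, a.1 < D.nroots) (hx : wordG hD w ∈ D.group K) :
    S.app (wordG hD w) hx = wordG hD (S.mapWord w) := by
  induction w with
  | nil =>
    rw [S.app_congr _ 1 (wordG_nil hD) hx (one_mem _), S.app_one]
    rfl
  | cons a w ih =>
    have hw' : ∀ b ∈ w, b.1 < D.nroots := fun b hb => hw b (List.mem_cons_of_mem _ hb)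
    have ha : a.1 < D.nroots := hw a List.mem_cons_self
    have h1 := Cfsg.Agent.Lib.Helper18.xG_mem_group (F := K) hD a.1 a.2
    have h2 := wordG_mem_group (hD := hD) w
    rw [S.app_congr _ _ (wordG_cons hD a w) hx (mul_mem h1 h2), S.app_mul _ _ h1 h2, ih hw' h2,
      S.app_xG a.1 ha a.2 h1]
    unfold mapWord
    rw [List.map_cons, wordG_cons]

theorem mapWord_append (w₁ w₂ : List (ℕ × K)) : S.mapWord (w₁ ++ w₂) = S.mapWord w₁ ++ S.mapWord w₂ := by
  unfold mapWord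
  rw [List.map_append]

theorem mapWord_nWord (r : ℕ) (hr : r < D.nroots) (t : K) :
    S.mapWord (D.nWord r t) = D.nWord (S.ρ r) (t ^ S.ε r) := by
  unfold mapWord ChevalleyDatum.nWord
  simp only [List.map_cons, List.map_nil]
  rw [S.ρ_neg r hr, S.ε_neg r hr, S.neg_pow, inv_pow]

theorem mapWord_hWord (r : ℕ) (hr : r < D.nroots) (t : K) :
    S.mapWord (D.hWord r t) = D.hWord (S.ρ r) (t ^ S.ε r) := by
  unfold ChevalleyDatum.hWord
  rw [S.mapWord_append, S.mapWord_nWord r hr, S.mapWord_nWord r hr, S.neg_pow, one_pow]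

omit S in
theorem nWord_lt (hD' : D ∈ [chevG2, chevB2, chevD4, chevF4, chevE6, chevE7, chevE8]) (r : ℕ) (hr : r < D.nroots)
    (t : K) : ∀ a ∈ D.nWord r t, a.1 < D.nroots := by
  have hnr : D.neg r < D.nroots := neg_lt_nroots D hD' r hr
  intro a ha
  unfold ChevalleyDatum.nWord at ha
  simp only [List.mem_cons, List.not_mem_nil, or_false] at ha
  rcases ha with rfl | rfl | rfl <;> assumption

omit S in
theorem hWord_lt (hD' : D ∈ [chevG2, chevB2, chevD4, chevF4, chevE6, chevE7, chevE8]) (r : ℕ) (hr : r < D.nroots)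
    (t : K) : ∀ a ∈ D.hWord r t, a.1 < D.nroots := by
  intro a ha
  unfold ChevalleyDatum.hWord at ha
  rw [List.mem_append] at ha
  rcases ha with ha | ha
  · exact nWord_lt hD' r hr t a ha
  · exact nWord_lt hD' r hr (-1) a ha

/-- `σ(n_r(t)) = n_{ρ r}(t^(ε r))`. -/
theorem app_nMat (r : ℕ) (hr : r < D.nroots) (t : K) (x : GL D.Idx K) (hx : x ∈ D.group K)
    (hxm : (x : Matrix D.Idx D.Idx K) = D.nMat K r t) :
    ((S.app x hx : GL D.Idx K) : Matrix D.Idx D.Idx K) = D.nMat K (S.ρ r) (t ^ S.ε r) := by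
  have e : x = wordG hD (D.nWord r t) := by
    apply Units.ext
    rw [hxm, coe_wordG]
    rfl
  rw [S.app_congr _ _ e hx (wordG_mem_group _), S.app_wordG _ (nWord_lt hD r hr t), coe_wordG,
    S.mapWord_nWord r hr]
  rfl

/-- `σ(h_r(t)) = h_{ρ r}(t^(ε r))`. -/
theorem app_hMat (r : ℕ) (hr : r < D.nroots) (t : K) (x : GL D.Idx K) (hx : x ∈ D.group K)
    (hxm : (x : Matrix D.Idx D.Idx K) = D.hMat K r t) :
    ((S.app x hx : GL D.Idx K) : Matrix D.Idx D.Idx K) = D.hMat K (S.ρ r) (t ^ S.ε r) := by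
  have e : x = wordG hD (D.hWord r t) := by
    apply Units.ext
    rw [hxm, coe_wordG]
    rfl
  rw [S.app_congr _ _ e hx (wordG_mem_group _), S.app_wordG _ (hWord_lt hD r hr t), coe_wordG,
    S.mapWord_hWord r hr]
  rfl

/-! ### `U`, `V`, `H`, `N` -/

theorem ρ_isPos (r : ℕ) (hr : D.IsPosRoot r) : D.IsPosRoot (S.ρ r) := by
  rw [isPosRoot_iff hD] at hr ⊢
  exact ⟨S.ρ_lt r hr.1, (S.ρ_pos r hr.1).mpr hr.2⟩

theorem ρ_isNeg (r : ℕ) (hr : D.IsNegRoot r) : D.IsNegRoot (S.ρ r) := by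
  have hs1 := hr.1
  have hlt : r < D.nroots / 2 := (negOK_spec (negOK_of_mem D hD) r hr).1
  apply isNegRoot_of_lt D (signOK_of_mem D hD) _ (S.ρ_lt r hs1)
  by_contra hge
  have := (S.ρ_pos r hs1).mp (by omega)
  omega

/-- `σ(U) ≤ U`. -/
theorem app_mem_U (x : GL D.Idx K) (hx : x ∈ D.group K) (hU : x ∈ D.posUnipotent K) :
    S.app x hx ∈ D.posUnipotent K := by
  refine S.app_mem_of_closure _ ?_ _ ?_ x hU hx
  · rintro y ⟨r, t, -, hy⟩
    have : y = xG hD r t := Units.ext hy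
    rw [this]
    exact Cfsg.Agent.Lib.Helper18.xG_mem_group hD r t
  · rintro y ⟨r, t, hr, hy⟩
    have e : y = xG hD r t := Units.ext hy
    rw [S.app_congr _ _ e _ (Cfsg.Agent.Lib.Helper18.xG_mem_group hD r t), S.app_xG r hr.1]
    exact xG_mem_posUnipotent hD _ _ (S.ρ_isPos r hr)

/-- `σ(V) ≤ V`. -/
theorem app_mem_V (x : GL D.Idx K) (hx : x ∈ D.group K) (hV : x ∈ D.negUnipotent K) :
    S.app x hx ∈ D.negUnipotent K := by
  refine S.app_mem_of_closure _ ?_ _ ?_ x hV hx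
  · rintro y ⟨r, t, -, hy⟩
    have : y = xG hD r t := Units.ext hy
    rw [this]
    exact Cfsg.Agent.Lib.Helper18.xG_mem_group hD r t
  · rintro y ⟨r, t, hr, hy⟩
    have e : y = xG hD r t := Units.ext hy
    rw [S.app_congr _ _ e _ (Cfsg.Agent.Lib.Helper18.xG_mem_group hD r t), S.app_xG r hr.1]
    exact Subgroup.subset_closure ⟨_, _, S.ρ_isNeg r hr, rfl⟩

theorem pow_ne_zero' (r : ℕ) (t : K) (ht : t ≠ 0) : t ^ S.ε r ≠ 0 := pow_ne_zero _ ht

/-- `σ(H) ≤ H`. -/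
theorem app_mem_H (x : GL D.Idx K) (hx : x ∈ D.group K) (hH : x ∈ D.diagonalSubgroup K) :
    S.app x hx ∈ D.diagonalSubgroup K := by
  have hHG : D.diagonalSubgroup K ≤ D.group K := Cfsg.Agent.S1043.diagonal_le_group D hD
  refine S.app_mem_of_closure _ ?_ _ ?_ x hH hx
  · intro y hy
    exact hHG (Subgroup.subset_closure hy)
  · rintro y ⟨r, t, hr, ht, hy⟩
    exact Subgroup.subset_closure ⟨S.ρ r, t ^ S.ε r, S.ρ_lt r hr, S.pow_ne_zero' r t ht,
      S.app_hMat r hr t y _ hy⟩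

/-- `σ(N) ≤ N`. -/
theorem app_mem_N (x : GL D.Idx K) (hx : x ∈ D.group K) (hN : x ∈ D.monomialSubgroup K) :
    S.app x hx ∈ D.monomialSubgroup K := by
  have hNG : D.monomialSubgroup K ≤ D.group K := Cfsg.Agent.S1043.monomial_le_group D hD
  have hN' : x ∈ Subgroup.closure
      ({g : GL D.Idx K | ∃ (r : ℕ) (t : K), r < D.nroots ∧ t ≠ 0 ∧ (g : Matrix D.Idx D.Idx K) = D.hMat K r t} ∪
        {g : GL D.Idx K | ∃ r : ℕ, r < D.nroots ∧ (g : Matrix D.Idx D.Idx K) = D.nMat K r 1}) := by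
    rw [Subgroup.closure_union]
    exact hN
  refine S.app_mem_of_closure _ ?_ _ ?_ x hN' hx
  · rintro y (hy | hy)
    · exact hNG (Subgroup.mem_sup_left (Subgroup.subset_closure hy))
    · exact hNG (Subgroup.mem_sup_right (Subgroup.subset_closure hy))
  · rintro y (⟨r, t, hr, ht, hy⟩ | ⟨r, hr, hy⟩)
    · exact Subgroup.mem_sup_left (Subgroup.subset_closure ⟨S.ρ r, t ^ S.ε r, S.ρ_lt r hr,
        S.pow_ne_zero' r t ht, S.app_hMat r hr t y _ hy⟩)
    · apply Subgroup.mem_sup_right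
      apply Subgroup.subset_closure
      refine ⟨S.ρ r, S.ρ_lt r hr, ?_⟩
      rw [S.app_nMat r hr 1 y _ hy, one_pow]

/-- `σ(U_n^-) ≤ U_{σ n}^-`. -/
theorem app_mem_Um (n x : GL D.Idx K) (hn : n ∈ D.group K) (hx : x ∈ D.group K)
    (hxc : x ∈ Subgroup.closure (UnegSet D K n)) :
    S.app x hx ∈ Subgroup.closure (UnegSet D K (S.app n hn)) := by
  refine S.app_mem_of_closure _ ?_ _ ?_ x hxc hx
  · rintro y ⟨r, t, -, -, hy⟩
    have : y = xG hD r t := Units.ext hy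
    rw [this]
    exact Cfsg.Agent.Lib.Helper18.xG_mem_group hD r t
  · rintro y ⟨r, t, hr, hle, hy⟩
    have e : y = xG hD r t := Units.ext hy
    rw [S.app_congr _ _ e _ (Cfsg.Agent.Lib.Helper18.xG_mem_group hD r t), S.app_xG r hr.1]
    apply Subgroup.subset_closure
    refine ⟨S.ρ r, _, S.ρ_isPos r hr, ?_, rfl⟩
    rintro z ⟨z₀, hz₀, rfl⟩
    obtain ⟨t', rfl⟩ := (mem_rootSubgroup_iff hD _ _).mp hz₀
    obtain ⟨s, rfl⟩ := S.pow_surj r hr.1 t'
    have hxs := Cfsg.Agent.Lib.Helper18.xG_mem_group (F := K) hD r s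
    have hninv : n⁻¹ ∈ D.group K := inv_mem hn
    have hc : n * xG hD r s * n⁻¹ ∈ D.group K := mul_mem (mul_mem hn hxs) hninv
    have e2 : S.app n hn * xG hD (S.ρ r) (s ^ S.ε r) * (S.app n hn)⁻¹ = S.app (n * xG hD r s * n⁻¹) hc := by
      rw [S.app_mul _ _ (mul_mem hn hxs) hninv, S.app_mul _ _ hn hxs, S.app_inv n hn, S.app_xG r hr.1]
    show S.app n hn * xG hD (S.ρ r) (s ^ S.ε r) * (S.app n hn)⁻¹ ∈ D.negUnipotent K
    rw [e2]
    apply S.app_mem_V
    apply hle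
    exact Subgroup.mem_map_of_mem _ ((mem_rootSubgroup_iff hD r _).mpr ⟨_, rfl⟩)

/-! ### Fixed points -/

/-- The fixed points of `σ`, as a subgroup of `GL`. -/
noncomputable def fixGL : Subgroup (GL D.Idx K) :=
  (MonoidHom.eqLocus S.σ.toMonoidHom (MonoidHom.id _)).map (D.group K).subtype

theorem mem_fixGL (x : GL D.Idx K) : x ∈ S.fixGL ↔ ∃ hx : x ∈ D.group K, S.app x hx = x := by
  constructor
  · rintro ⟨g, hg, rfl⟩
    refine ⟨g.2, ?_⟩
    have : S.σ g = g := hg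
    unfold app
    exact congrArg Subtype.val this
  · rintro ⟨hx, h⟩
    refine ⟨⟨x, hx⟩, ?_, rfl⟩
    show S.σ ⟨x, hx⟩ = ⟨x, hx⟩
    exact Subtype.ext h

theorem fixGL_le_group : S.fixGL ≤ D.group K := fun x hx => ((S.mem_fixGL x).mp hx).1

/-- The three factors of the strong Bruhat form of a fixed element are fixed. -/
theorem fixed_form (C : ChevData.{u} D) (u₀ n u : GL D.Idx K) (hu₀ : u₀ ∈ D.posUnipotent K)
    (hn : n ∈ D.monomialSubgroup K) (hu : u ∈ Subgroup.closure (UnegSet D K n))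
    (hF : u₀ * n * u ∈ S.fixGL) : u₀ ∈ S.fixGL ∧ n ∈ S.fixGL ∧ u ∈ S.fixGL := by
  have g1 : u₀ ∈ D.group K := Cfsg.Agent.S1043.posUnipotent_le_group D hD hu₀
  have g2 : n ∈ D.group K := Cfsg.Agent.S1043.monomial_le_group D hD hn
  have g3 : u ∈ D.group K := Cfsg.Agent.S1043.posUnipotent_le_group D hD (closure_UnegSet_le D n hu)
  obtain ⟨hx, hfix⟩ := (S.mem_fixGL _).mp hF
  rw [S.app_mul _ _ (mul_mem g1 g2) g3, S.app_mul _ _ g1 g2] at hfix
  obtain ⟨a1, a2, a3⟩ := bruhat_strong_unique hD C _ _ _ _ _ _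
    (S.app_mem_U u₀ g1 hu₀) hu₀ (S.app_mem_N n g2 hn) hn (S.app_mem_Um n u g2 g3 hu) hu hfix
  exact ⟨(S.mem_fixGL _).mpr ⟨g1, a1⟩, (S.mem_fixGL _).mpr ⟨g2, a2⟩, (S.mem_fixGL _).mpr ⟨g3, a3⟩⟩

end SigData

end Cfsg.Agent.Lib.Helper91.SigAbs
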