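/-
helper91: the twisting automorphism `σ` of `F₄(K)` (characteristic 2) preserves `U`, `V`, `H`, `N`, `U_n^-`; images of
`n_r(t)`, `h_r(t)`; the factors of the strong Bruhat form of a `σ`-fixed element are `σ`-fixed.
-/
import Cfsg.Agent.Lib.Helper91.SigAbs
import Cfsg.Agent.Lib.Helper91.F4Fixed

set_option autoImplicit false

namespace Cfsg.Agent.Lib.Helper91.ReeF4

open Cfsg.Lie Cfsg.Agent.Lib.Helper18 Cfsg.Agent.Lib.Helper91.SigAbs

universe u

theorem f4lam_neg (r : ℕ) (hr : r < 48) : f4lam (chevF4.neg r) = f4lam r := by interval_cases r <;> decide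

variable (K : Type u) [Field K] [Fintype K] [CharP K 2] (m : ℕ)

theorem pow_surj2 (j : ℕ) (s : K) : ∃ t : K, t ^ 2 ^ j = s := by
  obtain ⟨t, ht⟩ := (iterateFrobeniusEquiv K 2 j).surjective s
  exact ⟨t, by rw [← ht, iterateFrobeniusEquiv_def]⟩

/-- The data of `σ` for the abstract machine. -/
noncomputable def f4SigData : SigData K chevF4 hD4 where
  σ := f4Sigma K m
  ρ := f4rho
  ε := fun r => f4lam r * 2 ^ m
  σ_xG := fun r hr t => congrArg Subtype.val (f4Sigma_xG K m r hr t)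
  ρ_lt := f4rho_lt
  ρ_pos := fun r hr => f4rho_pos r hr
  ρ_neg := f4rho_neg
  ε_neg := fun r hr => by
    show f4lam (chevF4.neg r) * 2 ^ m = f4lam r * 2 ^ m
    rw [f4lam_neg r hr]
  neg_pow := fun r t => by rw [CharTwo.neg_eq, CharTwo.neg_eq]
  pow_surj := fun r _ s => by
    show ∃ t : K, t ^ (f4lam r * 2 ^ m) = s
    rcases f4lam_cases r with h | h
    · rw [h, one_mul]; exact pow_surj2 K m s
    · rw [h, ← pow_succ']; exact pow_surj2 K (m + 1) s

/-- The fixed points of `σ` as a subgroup of `GL`. -/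
theorem f4FixGL_eq : (f4SigData K m).fixGL = (f4Fix K m).map (chevF4.group K).subtype := rfl

theorem f4Sigma_mem_U (g : ↥(chevF4.group K)) (hg : (g : GL chevF4.Idx K) ∈ chevF4.posUnipotent K) :
    ((f4Sigma K m g : ↥(chevF4.group K)) : GL chevF4.Idx K) ∈ chevF4.posUnipotent K :=
  (f4SigData K m).app_mem_U g.1 g.2 hg

theorem f4Sigma_mem_V (g : ↥(chevF4.group K)) (hg : (g : GL chevF4.Idx K) ∈ chevF4.negUnipotent K) :
    ((f4Sigma K m g : ↥(chevF4.group K)) : GL chevF4.Idx K) ∈ chevF4.negUnipotent K :=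
  (f4SigData K m).app_mem_V g.1 g.2 hg

theorem f4Sigma_mem_H (g : ↥(chevF4.group K)) (hg : (g : GL chevF4.Idx K) ∈ chevF4.diagonalSubgroup K) :
    ((f4Sigma K m g : ↥(chevF4.group K)) : GL chevF4.Idx K) ∈ chevF4.diagonalSubgroup K :=
  (f4SigData K m).app_mem_H g.1 g.2 hg

theorem f4Sigma_mem_N (g : ↥(chevF4.group K)) (hg : (g : GL chevF4.Idx K) ∈ chevF4.monomialSubgroup K) :
    ((f4Sigma K m g : ↥(chevF4.group K)) : GL chevF4.Idx K) ∈ chevF4.monomialSubgroup K :=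
  (f4SigData K m).app_mem_N g.1 g.2 hg

theorem f4Sigma_mem_Um (n g : ↥(chevF4.group K))
    (hg : (g : GL chevF4.Idx K) ∈ Subgroup.closure (UnegSet chevF4 K (n : GL chevF4.Idx K))) :
    ((f4Sigma K m g : ↥(chevF4.group K)) : GL chevF4.Idx K)
      ∈ Subgroup.closure (UnegSet chevF4 K ((f4Sigma K m n : ↥(chevF4.group K)) : GL chevF4.Idx K)) :=
  (f4SigData K m).app_mem_Um n.1 g.1 n.2 g.2 hg

/-- `σ(n_r(t)) = n_{ρ r}(t^(λ(r) 2^m))`. -/
theorem f4Sigma_nMat (r : ℕ) (hr : r < 48) (t : K) (g : ↥(chevF4.group K))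
    (hg : ((g : GL chevF4.Idx K) : Matrix chevF4.Idx chevF4.Idx K) = chevF4.nMat K r t) :
    (((f4Sigma K m g : ↥(chevF4.group K)) : GL chevF4.Idx K) : Matrix chevF4.Idx chevF4.Idx K)
      = chevF4.nMat K (f4rho r) (t ^ (f4lam r * 2 ^ m)) :=
  (f4SigData K m).app_nMat r hr t g.1 g.2 hg

/-- `σ(h_r(t)) = h_{ρ r}(t^(λ(r) 2^m))`. -/
theorem f4Sigma_hMat (r : ℕ) (hr : r < 48) (t : K) (g : ↥(chevF4.group K))
    (hg : ((g : GL chevF4.Idx K) : Matrix chevF4.Idx chevF4.Idx K) = chevF4.hMat K r t) :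
    (((f4Sigma K m g : ↥(chevF4.group K)) : GL chevF4.Idx K) : Matrix chevF4.Idx chevF4.Idx K)
      = chevF4.hMat K (f4rho r) (t ^ (f4lam r * 2 ^ m)) :=
  (f4SigData K m).app_hMat r hr t g.1 g.2 hg

/-- The three factors of the strong Bruhat form of a `σ`-fixed element are `σ`-fixed. -/
theorem f4F_form (u₀ n u : GL chevF4.Idx K) (hu₀ : u₀ ∈ chevF4.posUnipotent K)
    (hn : n ∈ chevF4.monomialSubgroup K) (hu : u ∈ Subgroup.closure (UnegSet chevF4 K n))
    (hF : u₀ * n * u ∈ (f4Fix K m).map (chevF4.group K).subtype) :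
    u₀ ∈ (f4Fix K m).map (chevF4.group K).subtype ∧ n ∈ (f4Fix K m).map (chevF4.group K).subtype ∧
      u ∈ (f4Fix K m).map (chevF4.group K).subtype :=
  (f4SigData K m).fixed_form chevData_F4.{u} u₀ n u hu₀ hn hu hF

/-- Membership in the fixed-point subgroup, unfolded. -/
theorem mem_f4FixGL (x : GL chevF4.Idx K) :
    x ∈ (f4Fix K m).map (chevF4.group K).subtype
      ↔ ∃ hx : x ∈ chevF4.group K, ((f4Sigma K m ⟨x, hx⟩ : ↥(chevF4.group K)) : GL chevF4.Idx K) = x :=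
  (f4SigData K m).mem_fixGL x

end Cfsg.Agent.Lib.Helper91.ReeF4
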