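/-
helper91: the generators of `²G₂` (the words `reeWordU`, `reeWordV`) are fixed by the twisting automorphism `σ`
of `G₂(K)`; hence `twistedG2 K (3^m) ≤ Fix(σ)`.  The two collection identities in `U` and `V` are checked modulo 3
on helper18's symbolic engine.
-/
import Cfsg.Agent.Lib.Helper91.ReeSigma

set_option autoImplicit false

namespace Cfsg.Agent.Lib.Helper91.Ree

open Cfsg.Lie Cfsg.Agent.Lib.Helper18 Cfsg.Agent.Lib.Helper91.ChevGen Cfsg.Agent.Lib.Helper91.ExcAut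
open Cfsg.Agent.S1099 (g2Blocks hD2)

universe u

/-! ### The two collection identities -/

/-- The variable `X_k`. -/
def sv (k : ℕ) : Poly := varPoly k

def posL : List (ℕ × Poly) := [(6, sv 2), (7, sv 3), (10, sv 4), (11, sv 5), (8, sv 6), (9, sv 7)]

def posR : List (ℕ × Poly) := [(7, sv 3), (6, sv 2), (8, sv 6 ++ mulPoly (sv 2) (sv 3)),
  (9, sv 7 ++ mulPoly (sv 2) (powPoly (sv 3) 2)), (10, sv 4 ++ negPoly (mulPoly (sv 2) (powPoly (sv 3) 3))),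
  (11, sv 5 ++ negPoly (mulPoly (powPoly (sv 2) 2) (powPoly (sv 3) 3)))]

def negL : List (ℕ × Poly) := [(5, sv 2), (4, sv 3), (1, sv 4), (0, sv 5), (3, sv 6), (2, sv 7)]

def negR : List (ℕ × Poly) := [(4, sv 3), (5, sv 2), (3, sv 6 ++ negPoly (mulPoly (sv 2) (sv 3))),
  (2, sv 7 ++ mulPoly (sv 2) (powPoly (sv 3) 2)), (1, sv 4 ++ mulPoly (sv 2) (powPoly (sv 3) 3)),
  (0, sv 5 ++ negPoly (mulPoly (powPoly (sv 2) 2) (powPoly (sv 3) 3)))]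

set_option maxRecDepth 100000 in
theorem pos_chk : wordEqChk chevG2 3 posL posR = true := by decide +kernel

set_option maxRecDepth 100000 in
theorem neg_chk : wordEqChk chevG2 3 negL negR = true := by decide +kernel

section Ident

variable {K : Type u} [Field K] [CharP K 3]
set_option linter.unusedSectionVars false

/-- The valuation of the six variables. -/
def val6 (s₁ s₂ s₃ s₄ s₅ s₆ : K) : ℕ → K := fun k =>
  if k = 2 then s₁ else if k = 3 then s₂ else if k = 4 then s₃ else if k = 5 then s₄ else if k = 6 then s₅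
  else if k = 7 then s₆ else 1

/-- Collection in `U` (characteristic 3): `x_b x_a x_{3a+b} x_{3a+2b} x_{a+b} x_{2a+b}` in canonical order. -/
theorem pos_identity (s₁ s₂ s₃ s₄ s₅ s₆ : K) :
    chevG2.wordMat K [(6, s₁), (7, s₂), (10, s₃), (11, s₄), (8, s₅), (9, s₆)]
      = chevG2.wordMat K [(7, s₂), (6, s₁), (8, s₅ + s₁ * s₂), (9, s₆ + s₁ * s₂ ^ 2),
          (10, s₃ + -(s₁ * s₂ ^ 3)), (11, s₄ + -(s₁ ^ 2 * s₂ ^ 3))] := by
  have h := wordMat_eq_of_wordEqChk chevG2 (val6 s₁ s₂ s₃ s₄ s₅ s₆) (by simp [val6]) 3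
    (CharP.cast_eq_zero K 3) posL posR pos_chk
  have eL : evWord (val6 s₁ s₂ s₃ s₄ s₅ s₆) posL = [(6, s₁), (7, s₂), (10, s₃), (11, s₄), (8, s₅), (9, s₆)] := by
    simp [evWord, posL, sv, val6]
  have eR : evWord (val6 s₁ s₂ s₃ s₄ s₅ s₆) posR = [(7, s₂), (6, s₁), (8, s₅ + s₁ * s₂), (9, s₆ + s₁ * s₂ ^ 2),
      (10, s₃ + -(s₁ * s₂ ^ 3)), (11, s₄ + -(s₁ ^ 2 * s₂ ^ 3))] := by
    simp [evWord, posR, sv, val6, evPoly_append, evPoly_mulPoly, evPoly_powPoly, evPoly_negPoly]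
  rw [eL, eR] at h
  exact h

/-- Collection in `V` (characteristic 3). -/
theorem neg_identity (s₁ s₂ s₃ s₄ s₅ s₆ : K) :
    chevG2.wordMat K [(5, s₁), (4, s₂), (1, s₃), (0, s₄), (3, s₅), (2, s₆)]
      = chevG2.wordMat K [(4, s₂), (5, s₁), (3, s₅ + -(s₁ * s₂)), (2, s₆ + s₁ * s₂ ^ 2),
          (1, s₃ + s₁ * s₂ ^ 3), (0, s₄ + -(s₁ ^ 2 * s₂ ^ 3))] := by
  have h := wordMat_eq_of_wordEqChk chevG2 (val6 s₁ s₂ s₃ s₄ s₅ s₆) (by simp [val6]) 3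
    (CharP.cast_eq_zero K 3) negL negR neg_chk
  have eL : evWord (val6 s₁ s₂ s₃ s₄ s₅ s₆) negL = [(5, s₁), (4, s₂), (1, s₃), (0, s₄), (3, s₅), (2, s₆)] := by
    simp [evWord, negL, sv, val6]
  have eR : evWord (val6 s₁ s₂ s₃ s₄ s₅ s₆) negR = [(4, s₂), (5, s₁), (3, s₅ + -(s₁ * s₂)), (2, s₆ + s₁ * s₂ ^ 2),
      (1, s₃ + s₁ * s₂ ^ 3), (0, s₄ + -(s₁ ^ 2 * s₂ ^ 3))] := by
    simp [evWord, negR, sv, val6, evPoly_append, evPoly_mulPoly, evPoly_powPoly, evPoly_negPoly]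
  rw [eL, eR] at h
  exact h

end Ident

/-! ### The generators are fixed -/

section Fixed

variable {K : Type u} [Field K] [CharP K 3]
set_option linter.unusedSectionVars false

theorem frob_add (m : ℕ) (x y : K) : (x + y) ^ (3 * 3 ^ m) = x ^ (3 * 3 ^ m) + y ^ (3 * 3 ^ m) := by
  have : 3 * 3 ^ m = 3 ^ (m + 1) := by rw [pow_succ, mul_comm]
  rw [this]
  have : Fact (Nat.Prime 3) := ⟨by norm_num⟩
  exact add_pow_char_pow x y 3 (m + 1)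

theorem odd_three_pow (m : ℕ) : Odd (3 ^ m) := Odd.pow (by decide)

theorem odd_three_mul (m : ℕ) : Odd (3 * 3 ^ m) := Odd.mul (by decide) (odd_three_pow m)

theorem list6_ext {r₁ r₂ r₃ r₄ r₅ r₆ : ℕ} {a₁ a₂ a₃ a₄ a₅ a₆ b₁ b₂ b₃ b₄ b₅ b₆ : K}
    (h₁ : a₁ = b₁) (h₂ : a₂ = b₂) (h₃ : a₃ = b₃) (h₄ : a₄ = b₄) (h₅ : a₅ = b₅) (h₆ : a₆ = b₆) :
    [(r₁, a₁), (r₂, a₂), (r₃, a₃), (r₄, a₄), (r₅, a₅), (r₆, a₆)]
      = [(r₁, b₁), (r₂, b₂), (r₃, b₃), (r₄, b₄), (r₅, b₅), (r₆, b₆)] := by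
  subst h₁ h₂ h₃ h₄ h₅ h₆; rfl

theorem pow_theta_succ (m : ℕ) (t : K) : t ^ (3 ^ m + 1) = t ^ 3 ^ m * t := pow_succ _ _

theorem pow_two_theta_succ (m : ℕ) (t : K) : t ^ (2 * 3 ^ m + 1) = (t ^ 3 ^ m) ^ 2 * t := by
  rw [pow_succ, mul_comm 2 (3 ^ m), pow_mul]

theorem pow_theta_cube (m : ℕ) (t : K) : (t ^ 3 ^ m) ^ 3 = t ^ (3 * 3 ^ m) := by
  rw [← pow_mul, mul_comm]

section

variable (m : ℕ) (hq : ∀ t : K, t ^ (3 * 3 ^ m * 3 ^ m) = t)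
include hq

theorem theta_q (x : K) : (x ^ 3 ^ m) ^ (3 * 3 ^ m) = x := by
  rw [← pow_mul]
  have : 3 ^ m * (3 * 3 ^ m) = 3 * 3 ^ m * 3 ^ m := by ring
  rw [this, hq]

theorem coef_c1 (t u : K) : (t ^ (3 ^ m + 1) + u ^ 3 ^ m) ^ (3 * 3 ^ m) = t * t ^ (3 * 3 ^ m) + u := by
  rw [frob_add, pow_theta_succ, mul_pow, theta_q m hq, theta_q m hq]

theorem coef_c2 (t v : K) : (t ^ (2 * 3 ^ m + 1) + v ^ 3 ^ m) ^ (3 * 3 ^ m) = t ^ 2 * t ^ (3 * 3 ^ m) + v := by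
  have h : ((t ^ 3 ^ m) ^ 2) ^ (3 * 3 ^ m) = t ^ 2 := by
    rw [← pow_mul, mul_comm, pow_mul, theta_q m hq]
  rw [frob_add, pow_two_theta_succ, mul_pow, h, theta_q m hq]

theorem mapWord_reeWordU (t u v : K) :
    chevG2.wordMat K (mapWord (3 ^ m) (reeWordU (3 ^ m) t u v)) = chevG2.wordMat K (reeWordU (3 ^ m) t u v) := by
  have e0 : mapWord (3 ^ m) (reeWordU (3 ^ m) t u v)
      = [(6, (t ^ 3 ^ m) ^ (3 * 3 ^ m)), (7, t ^ (1 * 3 ^ m)),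
         (10, (t ^ (3 ^ m + 1) + u ^ 3 ^ m) ^ (3 * 3 ^ m)),
         (11, (t ^ (2 * 3 ^ m + 1) + v ^ 3 ^ m) ^ (3 * 3 ^ m)), (8, u ^ (1 * 3 ^ m)), (9, v ^ (1 * 3 ^ m))] := rfl
  rw [e0, pos_identity]
  refine congrArg (chevG2.wordMat K) (list6_ext ?_ ?_ ?_ ?_ ?_ ?_)
  · rw [one_mul]
  · exact theta_q m hq t
  · rw [one_mul, theta_q m hq, pow_theta_succ]; ring
  · rw [one_mul, theta_q m hq, pow_two_theta_succ]; ring
  · rw [coef_c1 m hq, theta_q m hq, one_mul, pow_theta_cube]; ring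
  · rw [coef_c2 m hq, theta_q m hq, one_mul, pow_theta_cube]; ring

theorem mapWord_reeWordV (t u v : K) :
    chevG2.wordMat K (mapWord (3 ^ m) (reeWordV (3 ^ m) t u v)) = chevG2.wordMat K (reeWordV (3 ^ m) t u v) := by
  have N1 : ∀ x : K, (-x) ^ (3 * 3 ^ m) = -(x ^ (3 * 3 ^ m)) := fun x => (odd_three_mul m).neg_pow x
  have N2 : ∀ x : K, (-x) ^ (1 * 3 ^ m) = -(x ^ 3 ^ m) := fun x => by
    rw [one_mul]; exact (odd_three_pow m).neg_pow x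
  have N3 : ∀ x : K, (-x) ^ 3 = -(x ^ 3) := fun x => Odd.neg_pow (by decide) x
  have eV : reeWordV (3 ^ m) t u v = [(4, -(t ^ 3 ^ m)), (5, -t), (3, -(t ^ (3 ^ m + 1) + u ^ 3 ^ m)),
      (2, -(t ^ (2 * 3 ^ m + 1) + v ^ 3 ^ m)), (1, -u), (0, -v)] := rfl
  have e0 : mapWord (3 ^ m) (reeWordV (3 ^ m) t u v)
      = [(5, (-(t ^ 3 ^ m)) ^ (3 * 3 ^ m)), (4, (-t) ^ (1 * 3 ^ m)),
         (1, (-(t ^ (3 ^ m + 1) + u ^ 3 ^ m)) ^ (3 * 3 ^ m)),
         (0, (-(t ^ (2 * 3 ^ m + 1) + v ^ 3 ^ m)) ^ (3 * 3 ^ m)), (3, (-u) ^ (1 * 3 ^ m)),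
         (2, (-v) ^ (1 * 3 ^ m))] := rfl
  rw [e0, neg_identity, eV]
  refine congrArg (chevG2.wordMat K) (list6_ext ?_ ?_ ?_ ?_ ?_ ?_)
  · exact N2 t
  · rw [N1, theta_q m hq]
  · rw [N2, N2, N1, theta_q m hq, pow_theta_succ]; ring
  · rw [N2, N2, N1, theta_q m hq, pow_two_theta_succ]; ring
  · rw [N1, coef_c1 m hq, N1, theta_q m hq, N2, N3, pow_theta_cube]; ring
  · rw [N1, coef_c2 m hq, N1, theta_q m hq, N2, N3, pow_theta_cube]; ring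

end

end Fixed

/-! ### `²G₂ ≤ Fix(σ)` -/

section Final

theorem reeWordU_lt {K : Type u} [Field K] (e : ℕ) (t u v : K) : ∀ a ∈ reeWordU e t u v, a.1 < 12 := by
  intro a ha
  simp only [reeWordU, List.mem_cons, List.not_mem_nil, or_false] at ha
  rcases ha with rfl | rfl | rfl | rfl | rfl | rfl <;> simp only [g2a, g2b, g2ab, g2aab, g2aaab, g2aaabb] <;> norm_num

theorem reeWordV_lt {K : Type u} [Field K] (e : ℕ) (t u v : K) : ∀ a ∈ reeWordV e t u v, a.1 < 12 := by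
  intro a ha
  have eV : reeWordV e t u v = [(4, -(t ^ e)), (5, -t), (3, -(t ^ (e + 1) + u ^ e)),
      (2, -(t ^ (2 * e + 1) + v ^ e)), (1, -u), (0, -v)] := rfl
  rw [eV] at ha
  simp only [List.mem_cons, List.not_mem_nil, or_false] at ha
  rcases ha with rfl | rfl | rfl | rfl | rfl | rfl <;> norm_num

theorem g2Words_lt {K : Type u} [Field K] (e : ℕ) (w : List (ℕ × K)) (hw : w ∈ g2Words K e) :
    ∀ a ∈ w, a.1 < 12 := by
  obtain ⟨t, u, v, rfl | rfl⟩ := hw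
  · exact reeWordU_lt e t u v
  · exact reeWordV_lt e t u v

/-- A generator of `²G₂` is the `wordG` of its word. -/
theorem gen_eq_wordG {K : Type u} [Field K] (g : GL chevG2.Idx K) (w : List (ℕ × K))
    (hgw : (g : Matrix chevG2.Idx chevG2.Idx K) = chevG2.wordMat K w) : g = wordG hD2 w :=
  Units.ext (by rw [hgw, coe_wordG])

/-- `²G₂(K, e)` lies in the Chevalley group `G₂(K)` (any field, any exponent). -/
theorem twistedG2_le_group (K : Type u) [Field K] (e : ℕ) : twistedG2 K e ≤ chevG2.group K := by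
  unfold twistedG2 ChevalleyDatum.genSubgroup
  rw [Subgroup.closure_le]
  rintro g ⟨w, hw, hgw⟩
  rw [gen_eq_wordG g w hgw]
  exact wordG_mem w (g2Words_lt e w hw)

variable (K : Type u) [Field K] [Fintype K] [CharP K 3]

/-- The fixed points of `σ`, as a subgroup of `G₂(K)`. -/
noncomputable def reeFix (m : ℕ) : Subgroup ↥(chevG2.group K) :=
  MonoidHom.eqLocus (reeSigma K m).toMonoidHom (MonoidHom.id _)

theorem mem_reeFix (m : ℕ) (g : ↥(chevG2.group K)) : g ∈ reeFix K m ↔ reeSigma K m g = g := Iff.rfl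

/-- The generators of `²G₂` are fixed by `σ`. -/
theorem reeSigma_gen (m : ℕ) (hq : ∀ t : K, t ^ (3 * 3 ^ m * 3 ^ m) = t) (w : List (ℕ × K))
    (hw : w ∈ g2Words K (3 ^ m)) :
    reeSigma K m ⟨wordG hD2 w, wordG_mem w (g2Words_lt _ w hw)⟩
      = ⟨wordG hD2 w, wordG_mem w (g2Words_lt _ w hw)⟩ := by
  rw [reeSigma_wordG K m w (g2Words_lt _ w hw)]
  apply Subtype.ext
  apply Units.ext
  show ((wordG hD2 (mapWord (3 ^ m) w) : GL chevG2.Idx K) : Matrix chevG2.Idx chevG2.Idx K)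
    = ((wordG hD2 w : GL chevG2.Idx K) : Matrix chevG2.Idx chevG2.Idx K)
  rw [coe_wordG, coe_wordG]
  obtain ⟨t, u, v, rfl | rfl⟩ := hw
  · exact mapWord_reeWordU m hq t u v
  · exact mapWord_reeWordV m hq t u v

/-- `²G₂(K, 3^m) ≤ Fix(σ)` (as subgroups of `GL`). -/
theorem twistedG2_le_reeFix (m : ℕ) (hq : ∀ t : K, t ^ (3 * 3 ^ m * 3 ^ m) = t) :
    twistedG2 K (3 ^ m) ≤ (reeFix K m).map (chevG2.group K).subtype := by
  unfold twistedG2 ChevalleyDatum.genSubgroup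
  rw [Subgroup.closure_le]
  rintro g ⟨w, hw, hgw⟩
  exact ⟨⟨wordG hD2 w, wordG_mem w (g2Words_lt _ w hw)⟩, reeSigma_gen K m hq w hw, (gen_eq_wordG g w hgw).symm⟩

/-- Every element of `²G₂(K, 3^m)` is fixed by `σ`. -/
theorem reeSigma_fixed (m : ℕ) (hq : ∀ t : K, t ^ (3 * 3 ^ m * 3 ^ m) = t) (g : GL chevG2.Idx K)
    (hg : g ∈ twistedG2 K (3 ^ m)) :
    reeSigma K m ⟨g, twistedG2_le_group K _ hg⟩ = ⟨g, twistedG2_le_group K _ hg⟩ := by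
  obtain ⟨x, hx, hxg⟩ := twistedG2_le_reeFix K m hq hg
  have e : x = ⟨g, twistedG2_le_group K _ hg⟩ := Subtype.ext hxg
  rw [← e]
  exact hx

end Final

end Cfsg.Agent.Lib.Helper91.Ree
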