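/-
helper91: table facts about a positive root `ρ` of a tabulated Chevalley datum which is orthogonal to all fundamental
roots but one (`p_{i₀}`, with `A_{p_{i₀}, ρ} = 1`) -- the highest root of types G₂, F₄, E₆, E₇, E₈ and the highest short
root of F₄: the positive roots and the negatives of the fundamental roots orthogonal to `ρ` have a commutator formula
with `ρ` all of whose constants are divisible by `p` (`p = 0`: the formula is empty); the remaining fundamental
reflection moves `ρ`; the Cartan integers `A_{p_i, ρ}`.
-/
import Cfsg.Prelude.Def_ChevStructure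
import Cfsg.Prelude.Def_LieChev

set_option autoImplicit false

namespace Cfsg.Agent.Lib.Helper91.HighRoot

open Cfsg.Lie

/-- The table facts used for the centraliser of the root element `x_ρ(1)`: `i₀` is the (index of the) fundamental
root not orthogonal to `ρ`, `negJ` lists the negatives of the other fundamental roots, and `p` divides all constants
of the commutator formulas of `ρ` with the positive roots and with the roots in `negJ`. -/
structure RootCentData (D : ChevalleyDatum) (ρ i₀ : ℕ) (negJ : List ℕ) (p : ℕ) : Prop where
  hi₀ : i₀ < D.rank
  hρ : ρ < D.nroots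
  hρpos : D.nroots / 2 ≤ ρ
  hJ : ∀ i < D.rank, i ≠ i₀ → D.neg (D.simple i) ∈ negJ
  hJlt : ∀ s ∈ negJ, s < D.nroots ∧ s ≠ ρ ∧ s + ρ + 1 ≠ D.nroots
  hcommU : ∀ s < D.nroots, D.nroots / 2 ≤ s → s ≠ ρ → ∀ c ∈ D.commTerms ρ s, c.2.1 % (p : ℤ) = 0
  hcommJ : ∀ s ∈ negJ, ∀ c ∈ D.commTerms ρ s, c.2.1 % (p : ℤ) = 0
  hrefl : D.reflectRoot i₀ ρ ≠ ρ
  hcart : ∀ i < D.rank, D.cartan i ρ = if i = i₀ then 1 else 0

set_option maxRecDepth 100000 in
theorem dataG2 : RootCentData chevG2 11 1 [4] 0 where
  hi₀ := by decide +kernel
  hρ := by decide +kernel
  hρpos := by decide +kernel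
  hJ := by decide +kernel
  hJlt := by decide +kernel
  hcommU := by decide +kernel
  hcommJ := by decide +kernel
  hrefl := by decide +kernel
  hcart := by decide +kernel

set_option maxRecDepth 100000 in
theorem dataF4long : RootCentData chevF4 47 3 [14, 20, 22] 0 where
  hi₀ := by decide +kernel
  hρ := by decide +kernel
  hρpos := by decide +kernel
  hJ := by decide +kernel
  hJlt := by decide +kernel
  hcommU := by decide +kernel
  hcommJ := by decide +kernel
  hrefl := by decide +kernel
  hcart := by decide +kernel

set_option maxRecDepth 100000 in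
theorem dataF4short : RootCentData chevF4 44 0 [20, 22, 23] 2 where
  hi₀ := by decide +kernel
  hρ := by decide +kernel
  hρpos := by decide +kernel
  hJ := by decide +kernel
  hJlt := by decide +kernel
  hcommU := by decide +kernel
  hcommJ := by decide +kernel
  hrefl := by decide +kernel
  hcart := by decide +kernel

set_option maxRecDepth 100000 in
theorem dataE6 : RootCentData chevE6 (chevE6.nroots - 1) 1 [15, 29, 32, 34, 35] 0 where
  hi₀ := by decide +kernel
  hρ := by decide +kernel
  hρpos := by decide +kernel
  hJ := by decide +kernel
  hJlt := by decide +kernel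
  hcommU := by decide +kernel
  hcommJ := by decide +kernel
  hrefl := by decide +kernel
  hcart := by decide +kernel

set_option maxRecDepth 100000 in
theorem dataE7 : RootCentData chevE7 (chevE7.nroots - 1) 0 [47, 52, 56, 59, 61, 62] 0 where
  hi₀ := by decide +kernel
  hρ := by decide +kernel
  hρpos := by decide +kernel
  hJ := by decide +kernel
  hJlt := by decide +kernel
  hcommU := by decide +kernel
  hcommJ := by decide +kernel
  hrefl := by decide +kernel
  hcart := by decide +kernel

set_option maxRecDepth 100000 in
theorem dataE8 : RootCentData chevE8 (chevE8.nroots - 1) 7 [77, 98, 104, 109, 113, 116, 118] 0 where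
  hi₀ := by decide +kernel
  hρ := by decide +kernel
  hρpos := by decide +kernel
  hJ := by decide +kernel
  hJlt := by decide +kernel
  hcommU := by decide +kernel
  hcommJ := by decide +kernel
  hrefl := by decide +kernel
  hcart := by decide +kernel

end Cfsg.Agent.Lib.Helper91.HighRoot
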