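/-
helper91: the centraliser in a Chevalley group (one of the seven tabulated types) of a root element `x_ρ(1)`, `ρ` a
positive root centralised by `U` (over the given field) such that exactly one fundamental root `p_{i₀}` is not
orthogonal to `ρ` and `A_{p_{i₀}, ρ} = 1` (the highest root; the highest short root of F₄ in characteristic two):
it is generated by `U` and the root subgroups `X_{-p}` for the fundamental roots `p ≠ p_{i₀}`.
Built on helper18's Chevalley library (Bruhat form, BN-pair) and helper6's parabolic subgroups of a BN-pair.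
-/
import Cfsg.Agent.Lib.Helper18.Order1
import Cfsg.Agent.Lib.Helper91.HighRootTab

set_option autoImplicit false

namespace Cfsg.Agent.Lib.Helper91.HighRoot

open Cfsg.Lie Cfsg.Agent.Lib.Helper18 Cfsg.Agent.Lib.Helper6

universe u

variable {F : Type u} [Field F] {D : ChevalleyDatum}

/-- The root elements of the roots in the list `negJ`. -/
def negSet (D : ChevalleyDatum) (F : Type u) [Field F] (negJ : List ℕ) : Set (GL D.Idx F) :=
  {g | ∃ s ∈ negJ, ∃ c : F, (g : Matrix D.Idx D.Idx F) = D.x F s c}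

/-- The subgroup generated by `U` and the root subgroups of the roots in `negJ`. -/
def Rgrp (D : ChevalleyDatum) (F : Type u) [Field F] (negJ : List ℕ) : Subgroup (GL D.Idx F) :=
  D.posUnipotent F ⊔ Subgroup.closure (negSet D F negJ)

theorem mem_normalizer_of_conj {G : Type*} [Group G] (K : Subgroup G) (g : G)
    (h1 : ∀ x ∈ K, g * x * g⁻¹ ∈ K) (h2 : ∀ x ∈ K, g⁻¹ * x * g ∈ K) :
    g ∈ Subgroup.normalizer (K : Set G) := by
  rw [Subgroup.mem_normalizer_iff]
  intro x
  constructor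
  · exact h1 x
  · intro hx
    have h3 := h2 _ hx
    have e : g⁻¹ * (g * x * g⁻¹) * g = x := by group
    rwa [e] at h3

theorem xG_mem_group' (hD : D ∈ [chevG2, chevB2, chevD4, chevF4, chevE6, chevE7, chevE8]) (r : ℕ)
    (hr : r < D.nroots) (t : F) : xG hD r t ∈ D.group F := by
  apply Subgroup.subset_closure
  refine ⟨⟨r, hr⟩, t, ?_⟩
  rw [coe_xG]
  unfold ChevalleyDatum.x
  rw [dif_pos hr]

/-- The parameter of a root element is determined by the element. -/
theorem xG_inj_param (hD : D ∈ [chevG2, chevB2, chevD4, chevF4, chevE6, chevE7, chevE8]) (r : ℕ)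
    (hr : r < D.nroots) (a b : F) (h : xG hD r a = xG hD r b) : a = b := by
  have h1 : xG hD r (a + -b) = 1 := by
    rw [← xG_mul, ← xG_inv, h, mul_inv_cancel]
  have h2 : D.x F r (a + -b) = 1 := by
    have := congrArg Units.val h1
    simpa using this
  have h3 := (Cfsg.Agent.S1024.result D hD r hr (a + -b)).mp h2
  have : a = a + -b + b := by ring
  rw [this, h3, zero_add]

theorem wordG_mem (hD : D ∈ [chevG2, chevB2, chevD4, chevF4, chevE6, chevE7, chevE8])
    (K : Subgroup (GL D.Idx F)) (w : List (ℕ × F)) (hw : ∀ a ∈ w, xG hD a.1 a.2 ∈ K) : wordG hD w ∈ K := by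
  induction w with
  | nil => rw [wordG_nil]; exact one_mem _
  | cons a w ih =>
    rw [wordG_cons]
    exact mul_mem (hw a List.mem_cons_self) (ih fun b hb => hw b (List.mem_cons_of_mem _ hb))

theorem wordG_flatMap_mem (hD : D ∈ [chevG2, chevB2, chevD4, chevF4, chevE6, chevE7, chevE8])
    (K : Subgroup (GL D.Idx F)) (l : List ℕ) (f : ℕ → List (ℕ × F)) (h : ∀ i ∈ l, wordG hD (f i) ∈ K) :
    wordG hD (l.flatMap f) ∈ K := by
  induction l with
  | nil => rw [List.flatMap_nil, wordG_nil]; exact one_mem _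
  | cons a l ih =>
    rw [List.flatMap_cons, wordG_append]
    exact mul_mem (h a List.mem_cons_self) (ih fun i hi => h i (List.mem_cons_of_mem _ hi))

theorem prod_range_ite (n i₀ : ℕ) (c : ℕ → F) :
    ((List.range n).map fun i => c i ^ (if i = i₀ then (1 : ℤ) else 0)).prod = if i₀ < n then c i₀ else 1 := by
  induction n with
  | zero => simp
  | succ n ih =>
    rw [List.range_succ, List.map_append, List.prod_append, ih]
    by_cases h1 : i₀ < n
    · have h2 : n ≠ i₀ := by omega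
      have h3 : i₀ < n + 1 := by omega
      simp [h1, h2, h3]
    · by_cases h2 : n = i₀
      · subst h2
        simp
      · have h3 : ¬ i₀ < n + 1 := by omega
        simp [h1, h2, h3]

section Main

variable {ρ i₀ : ℕ} {negJ : List ℕ} {p : ℕ}

theorem cast_eq_zero_of_emod (p : ℕ) (hp : (p : F) = 0) (z : ℤ) (hz : z % (p : ℤ) = 0) : (z : F) = 0 := by
  obtain ⟨k, rfl⟩ := Int.dvd_of_emod_eq_zero hz
  push_cast
  rw [hp, zero_mul]

/-- A word all of whose parameters vanish is trivial. -/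
theorem wordMat_commWord_eq_one (hD : D ∈ [chevG2, chevB2, chevD4, chevF4, chevE6, chevE7, chevE8])
    (l : List (ℕ × ℤ × ℕ × ℕ)) (hl : ∀ c ∈ l, ((c.2.1 : ℤ) : F) = 0) (a b : F) :
    D.wordMat F (l.map fun c => (c.1, (c.2.1 : F) * (-a) ^ c.2.2.1 * b ^ c.2.2.2)) = 1 := by
  induction l with
  | nil => rw [List.map_nil, wordMat_nil']
  | cons c l ih =>
    rw [List.map_cons, wordMat_cons', ih fun c' hc' => hl c' (List.mem_cons_of_mem _ hc')]
    simp only
    rw [hl c List.mem_cons_self, zero_mul, zero_mul, x_zero hD, mul_one]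

/-- A root element whose commutator formula with `ρ` has all constants zero in `F` commutes with the root elements
of `ρ`. -/
theorem xG_comm_rho (hD : D ∈ [chevG2, chevB2, chevD4, chevF4, chevE6, chevE7, chevE8]) (C : ChevData.{u} D)
    (hp : (p : F) = 0) (hρ : ρ < D.nroots) (s : ℕ) (hs : s < D.nroots) (hsρ : s ≠ ρ)
    (hsn : s + ρ + 1 ≠ D.nroots) (hc : ∀ c ∈ D.commTerms ρ s, c.2.1 % (p : ℤ) = 0) (a b : F) :
    xG hD s b * xG hD ρ a = xG hD ρ a * xG hD s b := by
  have hne : s ≠ C.T.neg ρ := by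
    unfold FastDatum.neg
    rw [C.nroots_eq]
    omega
  have h1 := C.comm F ρ s hρ hs hsρ hne a b
  apply Units.ext
  rw [Units.val_mul, Units.val_mul, coe_xG, coe_xG, h1]
  unfold ChevalleyDatum.commWord
  rw [wordMat_commWord_eq_one hD _ (fun c hc' => cast_eq_zero_of_emod p hp _ (hc c hc')), mul_one]

/-- `R` centralises every root element of `ρ`. -/
theorem R_le_centralizer (hD : D ∈ [chevG2, chevB2, chevD4, chevF4, chevE6, chevE7, chevE8])
    (C : ChevData.{u} D) (X : RootCentData D ρ i₀ negJ p) (hp : (p : F) = 0) (a : F) :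
    Rgrp D F negJ ≤ Subgroup.centralizer {xG hD ρ a} := by
  have hev := nroots_even hD
  have hρ := X.hρ
  have hρpos := X.hρpos
  unfold Rgrp
  refine sup_le ?_ ?_
  · unfold ChevalleyDatum.posUnipotent
    rw [Subgroup.closure_le]
    rintro g ⟨s, c, hs, hg⟩
    rw [eq_xG hD g s c hg, SetLike.mem_coe, Subgroup.mem_centralizer_iff]
    intro y hy
    rw [Set.mem_singleton_iff] at hy
    rw [hy]
    by_cases hsr : s = ρ
    · rw [hsr, xG_mul, xG_mul, add_comm]
    · have hs' := (isPosRoot_iff hD s).mp hs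
      exact (xG_comm_rho hD C hp hρ s hs'.1 hsr (by omega) (X.hcommU s hs'.1 hs'.2 hsr) a c).symm
  · rw [Subgroup.closure_le]
    rintro g ⟨s, hs, c, hg⟩
    rw [eq_xG hD g s c hg, SetLike.mem_coe, Subgroup.mem_centralizer_iff]
    intro y hy
    rw [Set.mem_singleton_iff] at hy
    rw [hy]
    have hs' := X.hJlt s hs
    exact (xG_comm_rho hD C hp hρ s hs'.1 hs'.2.1 hs'.2.2 (X.hcommJ s hs) a c).symm

theorem posUnipotent_le_R : D.posUnipotent F ≤ Rgrp D F negJ := le_sup_left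

theorem xG_neg_mem_R (hD : D ∈ [chevG2, chevB2, chevD4, chevF4, chevE6, chevE7, chevE8]) (s : ℕ)
    (hs : s ∈ negJ) (c : F) : xG hD s c ∈ Rgrp D F negJ :=
  Subgroup.mem_sup_right (Subgroup.subset_closure ⟨s, hs, c, rfl⟩)

theorem xG_pos_mem_R (hD : D ∈ [chevG2, chevB2, chevD4, chevF4, chevE6, chevE7, chevE8]) (s : ℕ)
    (hs : D.IsPosRoot s) (c : F) : xG hD s c ∈ Rgrp D F negJ :=
  posUnipotent_le_R (xG_mem_posUnipotent hD s c hs)

theorem R_le_group (hD : D ∈ [chevG2, chevB2, chevD4, chevF4, chevE6, chevE7, chevE8])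
    (X : RootCentData D ρ i₀ negJ p) : Rgrp D F negJ ≤ D.group F := by
  obtain ⟨hBG, -, -⟩ := Cfsg.Agent.S1043.result (F := F) D hD
  unfold Rgrp
  refine sup_le ?_ ?_
  · intro g hg
    exact hBG (borel_of_posUnipotent g hg)
  · rw [Subgroup.closure_le]
    rintro g ⟨s, hs, c, hg⟩
    rw [eq_xG hD g s c hg]
    exact xG_mem_group' hD s (X.hJlt s hs).1 c

/-- `H` normalises `R`. -/
theorem conj_mem_R (hD : D ∈ [chevG2, chevB2, chevD4, chevF4, chevE6, chevE7, chevE8])
    (X : RootCentData D ρ i₀ negJ p) (h : GL D.Idx F) (hh : h ∈ D.diagonalSubgroup F) (r : GL D.Idx F)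
    (hr : r ∈ Rgrp D F negJ) : h * r * h⁻¹ ∈ Rgrp D F negJ := by
  have hle : Rgrp D F negJ ≤ (Rgrp D F negJ).comap (MulAut.conj h).toMonoidHom := by
    refine sup_le ?_ ?_
    · intro u hu
      rw [Subgroup.mem_comap]
      show h * u * h⁻¹ ∈ _
      exact posUnipotent_le_R (((Cfsg.Agent.S1036.result D hD).1 hh u).mp hu)
    · rw [Subgroup.closure_le]
      rintro g ⟨s, hs, c, hg⟩
      rw [SetLike.mem_coe, Subgroup.mem_comap]
      show h * g * h⁻¹ ∈ _
      obtain ⟨c', hc'⟩ := Cfsg.Agent.S1036.conj_root_elem D hD h hh g s (X.hJlt s hs).1 c hg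
      rw [eq_xG hD _ s c' hc']
      exact xG_neg_mem_R hD s hs c'
  exact hle hr

theorem diagonal_le_normalizer_R (hD : D ∈ [chevG2, chevB2, chevD4, chevF4, chevE6, chevE7, chevE8])
    (X : RootCentData D ρ i₀ negJ p) :
    D.diagonalSubgroup F ≤ Subgroup.normalizer (Rgrp D F negJ : Set (GL D.Idx F)) := by
  intro h hh
  refine mem_normalizer_of_conj _ h (fun x hx => conj_mem_R hD X h hh x hx) (fun x hx => ?_)
  have := conj_mem_R hD X h⁻¹ (inv_mem hh) x hx
  rwa [inv_inv] at this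

theorem exists_mul_of_mem_sup (hD : D ∈ [chevG2, chevB2, chevD4, chevF4, chevE6, chevE7, chevE8])
    (X : RootCentData D ρ i₀ negJ p) (g : GL D.Idx F) (hg : g ∈ D.diagonalSubgroup F ⊔ Rgrp D F negJ) :
    ∃ h ∈ D.diagonalSubgroup F, ∃ r ∈ Rgrp D F negJ, g = h * r := by
  have h1 := Subgroup.coe_mul_of_left_le_normalizer_right _ _ (diagonal_le_normalizer_R (F := F) hD X)
  rw [← SetLike.mem_coe, h1, Set.mem_mul] at hg
  obtain ⟨h, hh, r, hr, e⟩ := hg
  exact ⟨h, hh, r, hr, e.symm⟩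

/-- The value of the torus character at `ρ`. -/
theorem torusFun_rho (X : RootCentData D ρ i₀ negJ p) (c : ℕ → F) :
    torusFun D c (Sum.inr ⟨ρ, X.hρ⟩) = c i₀ := by
  have h1 : torusFun D c (Sum.inr ⟨ρ, X.hρ⟩)
      = ((List.range D.rank).map fun i => c i ^ D.cartan i ρ).prod := rfl
  have h2 : ((List.range D.rank).map fun i => c i ^ D.cartan i ρ)
      = ((List.range D.rank).map fun i => c i ^ (if i = i₀ then (1 : ℤ) else 0)) := by
    apply List.map_congr_left
    intro i hi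
    rw [X.hcart i (List.mem_range.mp hi)]
  rw [h1, h2, prod_range_ite, if_pos X.hi₀]

/-- `h_{p_i}(c) ∈ R` for `i ≠ i₀`. -/
theorem hWord_mem_R (hD : D ∈ [chevG2, chevB2, chevD4, chevF4, chevE6, chevE7, chevE8])
    (C : ChevData.{u} D) (X : RootCentData D ρ i₀ negJ p) (i : ℕ) (hi : i < D.rank) (hne : i ≠ i₀) (c : F) :
    wordG hD (D.hWord (D.simple i) c) ∈ Rgrp D F negJ := by
  have hpos : D.IsPosRoot (D.simple i) := (isPosRoot_iff hD _).mpr ⟨C.simple_lt i hi, C.half_le_simple i hi⟩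
  have hneg := X.hJ i hi hne
  apply wordG_mem
  intro a ha
  unfold ChevalleyDatum.hWord ChevalleyDatum.nWord at ha
  simp only [List.cons_append, List.nil_append, List.mem_cons, List.not_mem_nil, or_false] at ha
  rcases ha with rfl | rfl | rfl | rfl | rfl | rfl
  · exact xG_pos_mem_R hD _ hpos _
  · exact xG_neg_mem_R hD _ hneg _
  · exact xG_pos_mem_R hD _ hpos _
  · exact xG_pos_mem_R hD _ hpos _
  · exact xG_neg_mem_R hD _ hneg _
  · exact xG_pos_mem_R hD _ hpos _

/-- `h_p(1) = 1` for a fundamental root `p`. -/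
theorem wordG_hWord_one (hD : D ∈ [chevG2, chevB2, chevD4, chevF4, chevE6, chevE7, chevE8])
    (i : ℕ) (hi : i < D.rank) : wordG (F := F) hD (D.hWord (D.simple i) 1) = 1 := by
  apply Units.ext
  rw [coe_wordG, Units.val_one]
  have h1 := Cfsg.Agent.S1033.result (F := F) D hD i hi 1 one_ne_zero
  unfold ChevalleyDatum.hMat at h1
  rw [h1, ← Matrix.diagonal_one]
  congr 1
  funext j
  rcases j with k | s
  · rfl
  · simp

/-- An element of `H` centralising the root element `x_ρ(1)` lies in `R`. -/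
theorem diag_mem_R (hD : D ∈ [chevG2, chevB2, chevD4, chevF4, chevE6, chevE7, chevE8])
    (C : ChevData.{u} D) (X : RootCentData D ρ i₀ negJ p) (h : GL D.Idx F) (hh : h ∈ D.diagonalSubgroup F)
    (hc : h * xG hD ρ 1 = xG hD ρ 1 * h) : h ∈ Rgrp D F negJ := by
  obtain ⟨c, hc0, hhc⟩ := Cfsg.Agent.S1034.mem_diagonalSubgroup_torus D hD h hh
  have e1 : h * xG hD ρ 1 = xG hD ρ (torusFun D c (Sum.inr ⟨ρ, X.hρ⟩) * 1) * h := by
    apply Units.ext
    rw [Units.val_mul, Units.val_mul, coe_xG, coe_xG, hhc]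
    exact torus_mul_x D hD c hc0 ρ X.hρ 1
  rw [hc] at e1
  have e2 := xG_inj_param hD ρ X.hρ _ _ (mul_right_cancel e1)
  rw [mul_one, torusFun_rho X c] at e2
  -- `c i₀ = 1`
  have e3 : h = wordG hD (torusWord D c) := by
    apply Units.ext
    rw [coe_wordG, hhc]
    exact (wordMat_torusWord D (fun i hi c hc => Cfsg.Agent.S1033.result D hD i hi c hc) c hc0).symm
  rw [e3]
  unfold torusWord
  apply wordG_flatMap_mem
  intro i hi
  have hi' : i < D.rank := List.mem_range.mp hi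
  by_cases hne : i = i₀
  · rw [hne, ← e2, wordG_hWord_one hD i₀ X.hi₀]
    exact one_mem _
  · exact hWord_mem_R hD C X i hi' hne (c i)

/-- `n_{p_i}(1) ∈ R` for `i ≠ i₀`. -/
theorem sG_mem_R (hD : D ∈ [chevG2, chevB2, chevD4, chevF4, chevE6, chevE7, chevE8])
    (C : ChevData.{u} D) (X : RootCentData D ρ i₀ negJ p) (i : ℕ) (hi : i < D.rank) (hne : i ≠ i₀) :
    sG (F := F) hD C i ∈ Rgrp D F negJ := by
  have hpos : D.IsPosRoot (D.simple i) := (isPosRoot_iff hD _).mpr ⟨C.simple_lt i hi, C.half_le_simple i hi⟩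
  rw [sG_of_lt hD C i hi, nG_eq_xG hD]
  exact mul_mem (mul_mem (xG_pos_mem_R hD _ hpos 1) (xG_neg_mem_R hD _ (X.hJ i hi hne) (-1)))
    (xG_pos_mem_R hD _ hpos 1)

/-- An element of `N` centralising `x_ρ(1)` conjugates the root subgroup of `ρ` into itself. -/
theorem conj_rho_of_comm (hD : D ∈ [chevG2, chevB2, chevD4, chevF4, chevE6, chevE7, chevE8])
    (C : ChevData.{u} D) (hr : ρ < D.nroots) (n : GL D.Idx F) (hn : n ∈ D.monomialSubgroup F)
    (hc : n * xG hD ρ 1 = xG hD ρ 1 * n) (a : F) :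
    ∃ a' : F, n * xG hD ρ a * n⁻¹ = xG hD ρ a' := by
  obtain ⟨ws, h₀, hws, hh₀, rfl⟩ := isWordH_of_mem_monomial hD C n hn
  obtain ⟨t₁, ht₁, e₁⟩ := word_conj_xG hD C ws hws h₀ hh₀ ρ hr (1 : F)
  rw [hc, mul_inv_cancel_right] at e₁
  have hroot : wordRootF C.tabs ws ρ = ρ :=
    xG_inj_root hD _ _ hr (wordRootF_lt C ws hws _ hr) 1 t₁ one_ne_zero e₁
  obtain ⟨t₂, -, e₂⟩ := word_conj_xG hD C ws hws h₀ hh₀ ρ hr a
  rw [hroot] at e₂
  exact ⟨t₂, e₂⟩

theorem mem_normalizer_rho (hD : D ∈ [chevG2, chevB2, chevD4, chevF4, chevE6, chevE7, chevE8])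
    (C : ChevData.{u} D) (hr : ρ < D.nroots) (n : GL D.Idx F) (hn : n ∈ D.monomialSubgroup F)
    (hc : n * xG hD ρ 1 = xG hD ρ 1 * n) :
    n ∈ Subgroup.normalizer (D.rootSubgroup F ρ : Set (GL D.Idx F)) := by
  have hc' : n⁻¹ * xG hD ρ 1 = xG hD ρ 1 * n⁻¹ := by
    rw [eq_mul_inv_iff_mul_eq, mul_assoc, ← hc, ← mul_assoc, inv_mul_cancel, one_mul]
  refine mem_normalizer_of_conj _ n (fun x hx => ?_) (fun x hx => ?_)
  · obtain ⟨a, rfl⟩ := (mem_rootSubgroup_iff hD _ x).mp hx
    obtain ⟨a', e⟩ := conj_rho_of_comm hD C hr n hn hc a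
    rw [e]
    exact (mem_rootSubgroup_iff hD _ _).mpr ⟨a', rfl⟩
  · obtain ⟨a, rfl⟩ := (mem_rootSubgroup_iff hD _ x).mp hx
    obtain ⟨a', e⟩ := conj_rho_of_comm hD C hr n⁻¹ (inv_mem hn) hc' a
    rw [inv_inv] at e
    rw [e]
    exact (mem_rootSubgroup_iff hD _ _).mpr ⟨a', rfl⟩

/-- `B` normalises the root subgroup of `ρ`. -/
theorem borel_le_normalizer_rho (hD : D ∈ [chevG2, chevB2, chevD4, chevF4, chevE6, chevE7, chevE8])
    (C : ChevData.{u} D) (X : RootCentData D ρ i₀ negJ p) (hp : (p : F) = 0) :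
    D.borelSubgroup F ≤ Subgroup.normalizer (D.rootSubgroup F ρ : Set (GL D.Idx F)) := by
  have hr := X.hρ
  unfold ChevalleyDatum.borelSubgroup
  refine sup_le ?_ ?_
  · intro u hu
    have hcomm : ∀ (v : GL D.Idx F), v ∈ D.posUnipotent F → ∀ a : F,
        v * xG hD ρ a * v⁻¹ = xG hD ρ a := by
      intro v hv a
      have h1 := Subgroup.mem_centralizer_iff.mp (R_le_centralizer hD C X hp a (posUnipotent_le_R hv))
        (xG hD ρ a) rfl
      rw [← h1, mul_inv_cancel_right]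
    refine mem_normalizer_of_conj _ u (fun x hx => ?_) (fun x hx => ?_)
    · obtain ⟨a, rfl⟩ := (mem_rootSubgroup_iff hD _ x).mp hx
      rw [hcomm u hu a]
      exact (mem_rootSubgroup_iff hD _ _).mpr ⟨a, rfl⟩
    · obtain ⟨a, rfl⟩ := (mem_rootSubgroup_iff hD _ x).mp hx
      have := hcomm u⁻¹ (inv_mem hu) a
      rw [inv_inv] at this
      rw [this]
      exact (mem_rootSubgroup_iff hD _ _).mpr ⟨a, rfl⟩
  · intro h hh
    refine mem_normalizer_of_conj _ h (fun x hx => ?_) (fun x hx => ?_)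
    · obtain ⟨a, rfl⟩ := (mem_rootSubgroup_iff hD _ x).mp hx
      obtain ⟨a', ha'⟩ := Cfsg.Agent.S1036.conj_root_elem D hD h hh (xG hD ρ a) ρ hr a (coe_xG hD ρ a)
      exact (mem_rootSubgroup_iff hD _ _).mpr ⟨a', Units.ext ha'⟩
    · obtain ⟨a, rfl⟩ := (mem_rootSubgroup_iff hD _ x).mp hx
      obtain ⟨a', ha'⟩ := Cfsg.Agent.S1036.conj_root_elem D hD h⁻¹ (inv_mem hh) (xG hD ρ a) ρ hr a (coe_xG hD ρ a)
      rw [inv_inv] at ha'
      exact (mem_rootSubgroup_iff hD _ _).mpr ⟨a', Units.ext ha'⟩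

/-- The normaliser in `G` of the root subgroup of `ρ` lies in `H R`. -/
theorem normalizer_le (hD : D ∈ [chevG2, chevB2, chevD4, chevF4, chevE6, chevE7, chevE8])
    (C : ChevData.{u} D) (X : RootCentData D ρ i₀ negJ p) (hp : (p : F) = 0) (g : GL D.Idx F)
    (hgG : g ∈ D.group F)
    (hgN : g ∈ Subgroup.normalizer (D.rootSubgroup F ρ : Set (GL D.Idx F))) :
    g ∈ D.diagonalSubgroup F ⊔ Rgrp D F negJ := by
  have hr := X.hρ
  obtain ⟨P, hPB, hPN, hPS⟩ := Cfsg.Agent.S1042.exists_bnPair (F := F) D hD C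
  set M : Subgroup ↥(D.group F) :=
    (Subgroup.normalizer (D.rootSubgroup F ρ : Set (GL D.Idx F))).subgroupOf (D.group F) with hMdef
  have hBM : P.B ≤ M := by
    intro b hb
    rw [hPB, Subgroup.mem_subgroupOf] at hb
    rw [hMdef, Subgroup.mem_subgroupOf]
    exact borel_le_normalizer_rho hD C X hp hb
  have hM := eq_parabolic_of_B_le P hBM
  have hle : M ≤ (D.diagonalSubgroup F ⊔ Rgrp D F negJ).subgroupOf (D.group F) := by
    rw [hM]
    unfold Cfsg.BNPair.parabolic
    refine sup_le ?_ ?_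
    · intro b hb
      rw [hPB, Subgroup.mem_subgroupOf] at hb
      rw [Subgroup.mem_subgroupOf]
      have hBle : D.borelSubgroup F ≤ D.diagonalSubgroup F ⊔ Rgrp D F negJ := by
        unfold ChevalleyDatum.borelSubgroup
        exact sup_le (le_trans posUnipotent_le_R le_sup_right) le_sup_left
      exact hBle hb
    · rw [Subgroup.closure_le]
      rintro s ⟨hsS, hsM⟩
      rw [hPS] at hsS
      obtain ⟨i, hi, hs⟩ := hsS
      have hsi : (s : GL D.Idx F) = sG hD C i := Units.ext (by rw [hs, coe_sG hD C i hi])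
      show s ∈ (D.diagonalSubgroup F ⊔ Rgrp D F negJ).subgroupOf (D.group F)
      rw [Subgroup.mem_subgroupOf, hsi]
      by_cases hne : i = i₀
      · exfalso
        rw [hMdef, Subgroup.mem_subgroupOf, hsi, Subgroup.mem_normalizer_iff] at hsM
        have h1 := (hsM (xG hD ρ (1 : F))).mp ((mem_rootSubgroup_iff hD _ _).mpr ⟨1, rfl⟩)
        rw [sG_of_lt hD C i hi, nG_conj_xG hD C i _ hi hr] at h1
        obtain ⟨a', ha'⟩ := (mem_rootSubgroup_iff hD _ _).mp h1
        have h2 := xG_inj_root hD _ _ (C.w_lt i _ hi hr) hr _ a'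
          (mul_ne_zero (C.eta_ne_zero i _) one_ne_zero) ha'
        have h3 := C.w_eq_reflectRoot i ρ hi hr
        rw [hne] at h3 h2
        exact X.hrefl (by rw [h3]; exact h2.symm)
      · exact Subgroup.mem_sup_right (sG_mem_R hD C X i hi hne)
  have hgM : (⟨g, hgG⟩ : ↥(D.group F)) ∈ M := by
    rw [hMdef, Subgroup.mem_subgroupOf]
    exact hgN
  have := hle hgM
  rwa [Subgroup.mem_subgroupOf] at this

/-- The centraliser of the root element `x_ρ(1)` in the Chevalley group. -/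
theorem inf_centralizer_eq (hD : D ∈ [chevG2, chevB2, chevD4, chevF4, chevE6, chevE7, chevE8])
    (X : RootCentData D ρ i₀ negJ p) (hp : (p : F) = 0) (t : GL D.Idx F)
    (ht : (t : Matrix D.Idx D.Idx F) = D.x F ρ 1) :
    D.group F ⊓ Subgroup.centralizer {t}
      = D.posUnipotent F ⊔ Subgroup.closure {g : GL D.Idx F | ∃ s ∈ negJ, ∃ c : F,
          (g : Matrix D.Idx D.Idx F) = D.x F s c} := by
  obtain ⟨C⟩ := nonempty_chevData.{u} D hD
  obtain ⟨L⟩ := nonempty_levelData D hD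
  obtain ⟨hBG, hNG, -⟩ := Cfsg.Agent.S1043.result (F := F) D hD
  have hr := X.hρ
  have htx : t = xG hD ρ 1 := eq_xG hD t _ _ ht
  subst htx
  show _ = Rgrp D F negJ
  apply le_antisymm
  · intro g hg
    rw [Subgroup.mem_inf] at hg
    obtain ⟨hgG, hgC⟩ := hg
    obtain ⟨b, hb, n, hn, u, hu, e⟩ := exists_bruhat_form hD C L g hgG
    have huU : u ∈ D.posUnipotent F := closure_UnegSet_le D n hu
    obtain ⟨u', hu', h, hh, rfl⟩ := (mem_borel_iff D hD b).mp hb
    have hRC := R_le_centralizer (F := F) hD C X hp 1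
    have hmC : h * n ∈ Subgroup.centralizer {xG hD ρ (1 : F)} := by
      have e' : h * n = u'⁻¹ * g * u⁻¹ := by rw [e]; group
      rw [e']
      exact mul_mem (mul_mem (inv_mem (hRC (posUnipotent_le_R hu'))) hgC) (inv_mem (hRC (posUnipotent_le_R huU)))
    have hmN : h * n ∈ D.monomialSubgroup F :=
      mul_mem ((le_sup_left : D.diagonalSubgroup F ≤ D.monomialSubgroup F) hh) hn
    have hmc : h * n * xG hD ρ 1 = xG hD ρ 1 * (h * n) :=
      (Subgroup.mem_centralizer_iff.mp hmC _ rfl).symm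
    have hmNorm := mem_normalizer_rho hD C hr (h * n) hmN hmc
    have hmHR := normalizer_le hD C X hp (h * n) (hNG hmN) hmNorm
    obtain ⟨h₁, hh₁, r₁, hr₁, e₁⟩ := exists_mul_of_mem_sup hD X _ hmHR
    have hh₁C : h₁ ∈ Subgroup.centralizer {xG hD ρ (1 : F)} := by
      have e' : h₁ = h * n * r₁⁻¹ := by rw [e₁]; group
      rw [e']
      exact mul_mem hmC (inv_mem (hRC hr₁))
    have hh₁R := diag_mem_R hD C X h₁ hh₁ (Subgroup.mem_centralizer_iff.mp hh₁C _ rfl).symm
    have e'' : g = u' * (h₁ * r₁) * u := by rw [← e₁, e]; group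
    rw [e'']
    exact mul_mem (mul_mem (posUnipotent_le_R hu') (mul_mem hh₁R hr₁)) (posUnipotent_le_R huU)
  · exact le_inf (R_le_group hD X) (R_le_centralizer hD C X hp 1)

end Main

end Cfsg.Agent.Lib.Helper91.HighRoot
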