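/-
helper91: the twisting automorphism `σ` of `G₂(K)` (characteristic 3) preserves `U`, `V`, `H`, `N`, `U_n^-`; images of
`n_r(t)`, `h_r(t)`; the factors of the strong Bruhat form of a `σ`-fixed element are `σ`-fixed  (module REE-[SIG]).
-/
import Cfsg.Agent.Lib.Helper91.SigAbs
import Cfsg.Agent.Lib.Helper91.ReeFixed

set_option autoImplicit false

namespace Cfsg.Agent.Lib.Helper91.Ree

open Cfsg.Lie Cfsg.Agent.Lib.Helper18 Cfsg.Agent.Lib.Helper91.SigAbs
open Cfsg.Agent.S1099 (hD2)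

universe u

theorem g2lam_neg (r : ℕ) (hr : r < 12) : g2lam (chevG2.neg r) = g2lam r := by interval_cases r <;> decide

variable (K : Type u) [Field K] [Fintype K] [CharP K 3] (m : ℕ)

theorem pow_surj3 (j : ℕ) (s : K) : ∃ t : K, t ^ 3 ^ j = s := by
  obtain ⟨t, ht⟩ := (iterateFrobeniusEquiv K 3 j).surjective s
  exact ⟨t, by rw [← ht, iterateFrobeniusEquiv_def]⟩

/-- The data of `σ` for the abstract machine. -/
noncomputable def reeSigData : SigData K chevG2 hD2 where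
  σ := reeSigma K m
  ρ := g2rho
  ε := fun r => g2lam r * 3 ^ m
  σ_xG := fun r hr t => congrArg Subtype.val (reeSigma_xG K m r hr t)
  ρ_lt := g2rho_lt
  ρ_pos := fun r hr => g2rho_pos r hr
  ρ_neg := g2rho_neg
  ε_neg := fun r hr => by
    show g2lam (chevG2.neg r) * 3 ^ m = g2lam r * 3 ^ m
    rw [g2lam_neg r hr]
  neg_pow := fun r t => Odd.neg_pow (Odd.mul (g2lam_odd r) (odd_three_pow m)) t
  pow_surj := fun r _ s => by
    show ∃ t : K, t ^ (g2lam r * 3 ^ m) = s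
    rcases g2lam_cases r with h | h
    · rw [h, one_mul]; exact pow_surj3 K m s
    · rw [h, ← pow_succ']; exact pow_surj3 K (m + 1) s

/-- The fixed points of `σ` as a subgroup of `GL`. -/
theorem reeFixGL_eq : (reeSigData K m).fixGL = (reeFix K m).map (chevG2.group K).subtype := rfl

theorem reeSigma_mem_U (g : ↥(chevG2.group K)) (hg : (g : GL chevG2.Idx K) ∈ chevG2.posUnipotent K) :
    ((reeSigma K m g : ↥(chevG2.group K)) : GL chevG2.Idx K) ∈ chevG2.posUnipotent K :=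
  (reeSigData K m).app_mem_U g.1 g.2 hg

theorem reeSigma_mem_V (g : ↥(chevG2.group K)) (hg : (g : GL chevG2.Idx K) ∈ chevG2.negUnipotent K) :
    ((reeSigma K m g : ↥(chevG2.group K)) : GL chevG2.Idx K) ∈ chevG2.negUnipotent K :=
  (reeSigData K m).app_mem_V g.1 g.2 hg

theorem reeSigma_mem_H (g : ↥(chevG2.group K)) (hg : (g : GL chevG2.Idx K) ∈ chevG2.diagonalSubgroup K) :
    ((reeSigma K m g : ↥(chevG2.group K)) : GL chevG2.Idx K) ∈ chevG2.diagonalSubgroup K :=
  (reeSigData K m).app_mem_H g.1 g.2 hg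

theorem reeSigma_mem_N (g : ↥(chevG2.group K)) (hg : (g : GL chevG2.Idx K) ∈ chevG2.monomialSubgroup K) :
    ((reeSigma K m g : ↥(chevG2.group K)) : GL chevG2.Idx K) ∈ chevG2.monomialSubgroup K :=
  (reeSigData K m).app_mem_N g.1 g.2 hg

theorem reeSigma_mem_Um (n g : ↥(chevG2.group K))
    (hg : (g : GL chevG2.Idx K) ∈ Subgroup.closure (UnegSet chevG2 K (n : GL chevG2.Idx K))) :
    ((reeSigma K m g : ↥(chevG2.group K)) : GL chevG2.Idx K)
      ∈ Subgroup.closure (UnegSet chevG2 K ((reeSigma K m n : ↥(chevG2.group K)) : GL chevG2.Idx K)) :=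
  (reeSigData K m).app_mem_Um n.1 g.1 n.2 g.2 hg

/-- `σ(n_r(t)) = n_{ρ r}(t^(λ(r) 3^m))`. -/
theorem reeSigma_nMat (r : ℕ) (hr : r < 12) (t : K) (g : ↥(chevG2.group K))
    (hg : ((g : GL chevG2.Idx K) : Matrix chevG2.Idx chevG2.Idx K) = chevG2.nMat K r t) :
    (((reeSigma K m g : ↥(chevG2.group K)) : GL chevG2.Idx K) : Matrix chevG2.Idx chevG2.Idx K)
      = chevG2.nMat K (g2rho r) (t ^ (g2lam r * 3 ^ m)) :=
  (reeSigData K m).app_nMat r hr t g.1 g.2 hg

/-- `σ(h_r(t)) = h_{ρ r}(t^(λ(r) 3^m))`. -/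
theorem reeSigma_hMat (r : ℕ) (hr : r < 12) (t : K) (g : ↥(chevG2.group K))
    (hg : ((g : GL chevG2.Idx K) : Matrix chevG2.Idx chevG2.Idx K) = chevG2.hMat K r t) :
    (((reeSigma K m g : ↥(chevG2.group K)) : GL chevG2.Idx K) : Matrix chevG2.Idx chevG2.Idx K)
      = chevG2.hMat K (g2rho r) (t ^ (g2lam r * 3 ^ m)) :=
  (reeSigData K m).app_hMat r hr t g.1 g.2 hg

/-- The three factors of the strong Bruhat form of a `σ`-fixed element are `σ`-fixed. -/
theorem reeF_form (u₀ n u : GL chevG2.Idx K) (hu₀ : u₀ ∈ chevG2.posUnipotent K)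
    (hn : n ∈ chevG2.monomialSubgroup K) (hu : u ∈ Subgroup.closure (UnegSet chevG2 K n))
    (hF : u₀ * n * u ∈ (reeFix K m).map (chevG2.group K).subtype) :
    u₀ ∈ (reeFix K m).map (chevG2.group K).subtype ∧ n ∈ (reeFix K m).map (chevG2.group K).subtype ∧
      u ∈ (reeFix K m).map (chevG2.group K).subtype :=
  (reeSigData K m).fixed_form chevData_G2.{u} u₀ n u hu₀ hn hu hF

/-- Membership in the fixed-point subgroup, unfolded. -/
theorem mem_reeFixGL (x : GL chevG2.Idx K) :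
    x ∈ (reeFix K m).map (chevG2.group K).subtype
      ↔ ∃ hx : x ∈ chevG2.group K, ((reeSigma K m ⟨x, hx⟩ : ↥(chevG2.group K)) : GL chevG2.Idx K) = x :=
  (reeSigData K m).mem_fixGL x

end Cfsg.Agent.Lib.Helper91.Ree
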