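/-
helper91: an element of a Chevalley group normalising both `U` and `V` lies in `H` (module OUT-[INN-H]); the
elements of `H` act on every root subgroup by a non-zero scalar.
-/
import Cfsg.Agent.S1049
import Cfsg.Agent.S1053
import Cfsg.Agent.S1037
import Cfsg.Agent.S1034
import Cfsg.Agent.S1043
import Cfsg.Agent.Lib.Helper18.Tw15
import Cfsg.Agent.Lib.Helper61.ChevJ.Depth

set_option autoImplicit false

namespace Cfsg.Agent.Lib.Helper91.OutInn

open Cfsg Cfsg.Lie Cfsg.Agent.Lib.Helper18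

universe u

variable {F : Type u} [Field F] {D : ChevalleyDatum}

theorem unipotentRadical_empty (hD : D ∈ [chevG2, chevB2, chevD4, chevF4, chevE6, chevE7, chevE8]) :
    D.unipotentRadical F ∅ = D.posUnipotent F := by
  unfold ChevalleyDatum.unipotentRadical ChevalleyDatum.posUnipotent
  congr 1
  ext g
  constructor
  · rintro ⟨r, t, hr, -, hg⟩
    exact ⟨r, t, hr, hg⟩
  · rintro ⟨r, t, hr, hg⟩
    exact ⟨r, t, hr, Cfsg.Agent.Lib.Helper61.ChevJ.not_inRootSub_empty hD r hr, hg⟩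

theorem parabolic_empty : D.parabolicSubgroup F ∅ = D.borelSubgroup F := by
  unfold ChevalleyDatum.parabolicSubgroup
  have : {g : GL D.Idx F | ∃ j ∈ (∅ : Set ℕ), j < D.rank ∧ (g : Matrix D.Idx D.Idx F) = D.nMat F (D.simple j) 1}
      = ∅ := by
    ext g
    simp
  rw [this, Subgroup.closure_empty, sup_bot_eq]

/-- `N_G(U) = B`. -/
theorem normalizer_posUnipotent (hD : D ∈ [chevG2, chevB2, chevD4, chevF4, chevE6, chevE7, chevE8]) :
    Subgroup.normalizer (D.posUnipotent F : Set (GL D.Idx F)) ⊓ D.group F = D.borelSubgroup F := by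
  have h := Cfsg.Agent.S1049.result (F := F) D hD ∅ (fun j hj => absurd hj (Set.notMem_empty j))
  rw [unipotentRadical_empty hD, parabolic_empty] at h
  exact h

/-- An element of the group normalising `U` and `V` lies in `H`. -/
theorem mem_diagonal_of_normalizes (hD : D ∈ [chevG2, chevB2, chevD4, chevF4, chevE6, chevE7, chevE8])
    (x : GL D.Idx F) (hx : x ∈ D.group F)
    (hU : ∀ u : GL D.Idx F, u ∈ D.posUnipotent F ↔ x * u * x⁻¹ ∈ D.posUnipotent F)
    (hV : ∀ v : GL D.Idx F, v ∈ D.negUnipotent F ↔ x * v * x⁻¹ ∈ D.negUnipotent F) :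
    x ∈ D.diagonalSubgroup F := by
  obtain ⟨C⟩ := nonempty_chevData.{u} D hD
  obtain ⟨n, hn, hnUV⟩ := Cfsg.Agent.S1053.result (F := F) D hD
  have hnG : n ∈ D.group F := Cfsg.Agent.S1043.monomial_le_group D hD hn
  have hB : x ∈ D.borelSubgroup F := by
    rw [← normalizer_posUnipotent hD]
    exact Subgroup.mem_inf.mpr ⟨Subgroup.mem_normalizer_iff.mpr hU, hx⟩
  -- `n u n⁻¹ ∈ V ↔ u ∈ U`
  have hconj : ∀ u : GL D.Idx F, u ∈ D.posUnipotent F ↔ n * u * n⁻¹ ∈ D.negUnipotent F := by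
    intro u
    rw [← hnUV]
    constructor
    · intro hu
      exact ⟨u, hu, rfl⟩
    · rintro ⟨u', hu', h⟩
      have : u' = u := by
        have h' : n * u' * n⁻¹ = n * u * n⁻¹ := h
        exact mul_left_cancel (mul_right_cancel h')
      rw [← this]; exact hu'
  set y := n⁻¹ * x * n with hy
  have hyG : y ∈ D.group F := mul_mem (mul_mem (inv_mem hnG) hx) hnG
  have hyB : y ∈ D.borelSubgroup F := by
    rw [← normalizer_posUnipotent hD]
    refine Subgroup.mem_inf.mpr ⟨Subgroup.mem_normalizer_iff.mpr ?_, hyG⟩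
    intro u
    rw [hconj u, hV (n * u * n⁻¹), hconj (y * u * y⁻¹)]
    have : n * (y * u * y⁻¹) * n⁻¹ = x * (n * u * n⁻¹) * x⁻¹ := by
      rw [hy]; group
    rw [this]
  obtain ⟨u₁, hu₁, h₁, hh₁, e⟩ := (mem_borel_iff D hD y).mp hyB
  have hxe : x = (n * u₁ * n⁻¹) * (n * h₁ * n⁻¹) := by
    have : x = n * y * n⁻¹ := by rw [hy]; group
    rw [this, ← e]; group
  have hxVH : x ∈ D.negUnipotent F ⊔ D.diagonalSubgroup F := by
    rw [hxe]
    exact mul_mem (Subgroup.mem_sup_left ((hconj u₁).mp hu₁))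
      (Subgroup.mem_sup_right (monomial_conj_diagonal hD C n h₁ hn hh₁))
  have := (Cfsg.Agent.S1037.result (F := F) D hD).2
  rw [← this]
  exact Subgroup.mem_inf.mpr ⟨hB, hxVH⟩

/-- The elements of `H` act on every root subgroup by a non-zero scalar. -/
theorem exists_scalars_of_mem_diagonal (hD : D ∈ [chevG2, chevB2, chevD4, chevF4, chevE6, chevE7, chevE8])
    (h : GL D.Idx F) (hh : h ∈ D.diagonalSubgroup F) :
    ∃ χ : ℕ → F, (∀ r, χ r ≠ 0) ∧ ∀ r, r < D.nroots → ∀ t : F, h * xG hD r t * h⁻¹ = xG hD r (χ r * t) := by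
  obtain ⟨c, hc, hhc⟩ := Cfsg.Agent.S1034.mem_diagonalSubgroup_torus D hD h hh
  refine ⟨fun r => chiFun (D := D) c r, ?_, fun r hr t => torus_conj_xG hD h c hc hhc r hr t⟩
  intro r
  unfold chiFun
  beta_reduce
  by_cases hr : r < D.nroots
  · rw [dif_pos hr]
    exact torusFun_ne_zero D c hc _
  · rw [dif_neg hr]
    exact one_ne_zero

end Cfsg.Agent.Lib.Helper91.OutInn
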