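import Mathlib
import Cfsg.Prelude.Def_OddOrderLocal
import Cfsg.Agent.S0058
import Cfsg.Agent.Lib.Helper54.Coprime
import Cfsg.Agent.Lib.Helper54.BGTransitivity
import Cfsg.Agent.Lib.Helper63.PGroupBasic
import Cfsg.Agent.Lib.Helper91.BG36Norm

/-!
Bender–Glauberman §11, step (A) of helper55's plan (board #1817/#1861): in an "exceptional" maximal
subgroup `M`, the maximal elementary abelian `A` of order `p²` is central in the `p`-subgroup `P`
(helper91).
-/

set_option autoImplicit false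
set_option linter.style.haveILetI false

open Cfsg
open scoped Pointwise IsMulCommutative

namespace Cfsg.Agent.Lib.Helper91.BGEleven

open Cfsg.Agent.Lib.Helper54 Cfsg.Agent.Lib.Helper91

variable {G : Type*} [Group G]

/-- The join of two elementwise commuting elementary abelian subgroups is elementary abelian. -/
theorem isElementaryAbelian_sup {p : ℕ} {X Y : Subgroup G} (hX : IsElementaryAbelian p X)
    (hY : IsElementaryAbelian p Y) (hXY : ∀ x ∈ X, ∀ y ∈ Y, x * y = y * x) :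
    IsElementaryAbelian p (X ⊔ Y) := by
  have hXc : ∀ a ∈ X, ∀ b ∈ X, a * b = b * a := by
    intro a ha b hb
    haveI := hX.1
    have := mul_comm' (⟨a, ha⟩ : X) ⟨b, hb⟩
    exact congrArg Subtype.val this
  have hYc : ∀ a ∈ Y, ∀ b ∈ Y, a * b = b * a := by
    intro a ha b hb
    haveI := hY.1
    have := mul_comm' (⟨a, ha⟩ : Y) ⟨b, hb⟩
    exact congrArg Subtype.val this
  have hS : ∀ a ∈ ((X : Set G) ∪ Y), ∀ b ∈ ((X : Set G) ∪ Y), a * b = b * a := by
    rintro a (ha | ha) b (hb | hb)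
    · exact hXc a ha b hb
    · exact hXY a ha b hb
    · exact (hXY b hb a ha).symm
    · exact hYc a ha b hb
  have hcl : X ⊔ Y = Subgroup.closure ((X : Set G) ∪ Y) := by
    rw [Subgroup.closure_union, Subgroup.closure_eq, Subgroup.closure_eq]
  have hcomm : IsMulCommutative ↥(Subgroup.closure ((X : Set G) ∪ Y)) :=
    Subgroup.isMulCommutative_closure hS
  have hcomm' : ∀ a ∈ Subgroup.closure ((X : Set G) ∪ Y), ∀ b ∈ Subgroup.closure ((X : Set G) ∪ Y),
      a * b = b * a := by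
    intro a ha b hb
    have := mul_comm' (⟨a, ha⟩ : Subgroup.closure ((X : Set G) ∪ Y)) ⟨b, hb⟩
    exact congrArg Subtype.val this
  rw [hcl]
  refine ⟨hcomm, ?_⟩
  intro a ha
  induction ha using Subgroup.closure_induction with
  | mem x hx =>
    rcases hx with hx | hx
    · exact hX.2 x hx
    · exact hY.2 x hx
  | one => exact one_pow _
  | mul x y hx hy ihx ihy =>
    have hc : Commute x y := hcomm' x hx y hy
    rw [hc.mul_pow, ihx, ihy, one_mul]
  | inv x hx ih => rw [inv_pow, ih, inv_one]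

/-- `Ω₁(Z(P))` as a subgroup of `G`. -/
def omegaCenter (p : ℕ) (P : Subgroup G) : Subgroup G where
  carrier := {x | x ∈ P ∧ (∀ y ∈ P, x * y = y * x) ∧ x ^ p = 1}
  one_mem' := ⟨P.one_mem, fun y _ => by rw [one_mul, mul_one], one_pow _⟩
  mul_mem' := by
    rintro a b ⟨ha, hac, hap⟩ ⟨hb, hbc, hbp⟩
    refine ⟨P.mul_mem ha hb, fun y hy => ?_, ?_⟩
    · rw [mul_assoc, hbc y hy, ← mul_assoc, hac y hy, mul_assoc]
    · have hc : Commute a b := hac b hb
      rw [hc.mul_pow, hap, hbp, one_mul]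
  inv_mem' := by
    rintro a ⟨ha, hac, hap⟩
    refine ⟨P.inv_mem ha, fun y hy => ?_, by rw [inv_pow, hap, inv_one]⟩
    have := hac y hy
    calc a⁻¹ * y = a⁻¹ * (y * a) * a⁻¹ := by group
      _ = a⁻¹ * (a * y) * a⁻¹ := by rw [this]
      _ = y * a⁻¹ := by group

theorem mem_omegaCenter {p : ℕ} {P : Subgroup G} {x : G} :
    x ∈ omegaCenter p P ↔ x ∈ P ∧ (∀ y ∈ P, x * y = y * x) ∧ x ^ p = 1 := Iff.rfl

theorem omegaCenter_le (p : ℕ) (P : Subgroup G) : omegaCenter p P ≤ P := fun _ hx => hx.1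

theorem isElementaryAbelian_omegaCenter (p : ℕ) (P : Subgroup G) :
    IsElementaryAbelian p (omegaCenter p P) :=
  ⟨⟨⟨fun a b => Subtype.ext (a.2.2.1 b b.2.1)⟩⟩, fun _ ha => ha.2.2⟩

theorem mem_normalizer_omegaCenter [Finite G] {p : ℕ} {P : Subgroup G} {g : G}
    (hg : g ∈ Subgroup.normalizer (P : Set G)) :
    g ∈ Subgroup.normalizer ((omegaCenter p P : Subgroup G) : Set G) := by
  apply Subgroup.mem_normalizer_fintype (S := ((omegaCenter p P : Subgroup G) : Set G))
  rintro x ⟨hx, hxc, hxp⟩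
  refine ⟨(Subgroup.mem_normalizer_iff.mp hg x).mp hx, fun y hy => ?_, by rw [conj_pow, hxp]; group⟩
  have hy' : g⁻¹ * y * g ∈ P := (Subgroup.mem_normalizer_iff''.mp hg y).mp hy
  have := hxc _ hy'
  calc g * x * g⁻¹ * y = g * (x * (g⁻¹ * y * g)) * g⁻¹ := by group
    _ = g * ((g⁻¹ * y * g) * x) * g⁻¹ := by rw [this]
    _ = y * (g * x * g⁻¹) := by group

theorem omegaCenter_ne_bot [Finite G] {p : ℕ} [hp : Fact p.Prime] {P : Subgroup G}
    (hP : IsPGroup p P) (hP1 : P ≠ ⊥) : omegaCenter p P ≠ ⊥ := by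
  haveI : Nontrivial P := (Subgroup.nontrivial_iff_ne_bot P).mpr hP1
  have h1 : ⊥ < Subgroup.center P := hP.bot_lt_center
  have hcp : IsPGroup p (Subgroup.center P) := hP.to_subgroup _
  have hne : Subgroup.center P ≠ ⊥ := h1.ne'
  obtain ⟨n, hn⟩ := IsPGroup.iff_card.mp hcp
  have hn0 : n ≠ 0 := by
    intro h0
    rw [h0, pow_zero] at hn
    exact hne (Subgroup.card_eq_one.mp hn)
  have hdvd : p ∣ Nat.card (Subgroup.center P) := by rw [hn]; exact dvd_pow_self p hn0
  obtain ⟨z, hz⟩ := exists_prime_orderOf_dvd_card' p hdvd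
  intro hbot
  have hzmem : ((z : P) : G) ∈ omegaCenter p P := by
    refine ⟨(z : P).2, fun y hy => ?_, ?_⟩
    · have := Subgroup.mem_center_iff.mp z.2 ⟨y, hy⟩
      exact (congrArg Subtype.val this).symm
    · have : z ^ p = 1 := by rw [← hz]; exact pow_orderOf_eq_one z
      have h2 := congrArg (fun w : Subgroup.center P => ((w : P) : G)) this
      simpa using h2
  rw [hbot, Subgroup.mem_bot] at hzmem
  have hz1 : z = 1 := by
    apply Subtype.ext
    apply Subtype.ext
    exact hzmem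
  rw [hz1, orderOf_one] at hz
  exact hp.out.one_lt.ne hz

/-- Commutativity of an elementary abelian subgroup, elementwise. -/
theorem elemAb_comm {p : ℕ} {A : Subgroup G} (hA : IsElementaryAbelian p A) :
    ∀ a ∈ A, ∀ b ∈ A, a * b = b * a := by
  intro a ha b hb
  haveI := hA.1
  have := mul_comm' (⟨a, ha⟩ : A) ⟨b, hb⟩
  exact congrArg Subtype.val this

theorem isElementaryAbelian_conj {p : ℕ} {A : Subgroup G} (hA : IsElementaryAbelian p A) (y : G) :
    IsElementaryAbelian p (MulAut.conj y • A) := by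
  refine ⟨⟨⟨fun a b => Subtype.ext ?_⟩⟩, fun a ha => ?_⟩
  · have ha := mem_conj_smul_iff.mp a.2
    have hb := mem_conj_smul_iff.mp b.2
    have h1 := elemAb_comm hA _ ha _ hb
    calc (a : G) * b = y * ((y⁻¹ * a * y) * (y⁻¹ * b * y)) * y⁻¹ := by group
      _ = y * ((y⁻¹ * b * y) * (y⁻¹ * a * y)) * y⁻¹ := by rw [h1]
      _ = b * a := by group
  · have ha' := mem_conj_smul_iff.mp ha
    have h1 := hA.2 _ ha'
    have h2 : (y⁻¹ * a * y) ^ p = y⁻¹ * a ^ p * y := by
      have := conj_pow (a := y⁻¹) (b := a) (i := p)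
      simpa using this
    rw [h2] at h1
    calc a ^ p = y * (y⁻¹ * a ^ p * y) * y⁻¹ := by group
      _ = 1 := by rw [h1]; group

/-- If the maximal elementary abelian `A ≤ P` is not central in the `p`-group `P`, some element of
`N_P(A)` does not centralize `A`. -/
theorem exists_normalizing_not_centralizing [Finite G] {p : ℕ} [Fact p.Prime] {A P : Subgroup G}
    (hAP : A ≤ P) (hPp : IsPGroup p P) (hAel : IsElementaryAbelian p A)
    (hAmax : ∀ B : Subgroup G, B ≤ P → IsElementaryAbelian p B → A ≤ B → B = A)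
    (hnc : ¬ ∀ a ∈ A, ∀ y ∈ P, a * y = y * a) :
    ∃ y ∈ P, y ∈ Subgroup.normalizer (A : Set G) ∧ ∃ a ∈ A, y * a ≠ a * y := by
  -- `C = C_P(A)`
  set C : Subgroup G := P ⊓ Subgroup.centralizer (A : Set G) with hC
  have hCP : C ≤ P := inf_le_left
  have hAC : A ≤ C := le_inf hAP (fun a ha => Subgroup.mem_centralizer_iff.mpr
    (fun b hb => elemAb_comm hAel b hb a ha))
  have hlt : C.subgroupOf P < ⊤ := by
    rw [lt_top_iff_ne_top]
    intro htop
    apply hnc
    intro a ha y hy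
    have : (⟨y, hy⟩ : P) ∈ C.subgroupOf P := by rw [htop]; trivial
    rw [Subgroup.mem_subgroupOf] at this
    exact Subgroup.mem_centralizer_iff.mp this.2 a ha
  haveI : Group.IsNilpotent P := hPp.isNilpotent
  have hnorm := Group.normalizerCondition_of_isNilpotent (G := P) (C.subgroupOf P) hlt
  obtain ⟨y', hy'N, hy'C⟩ := SetLike.exists_of_lt hnorm
  have hyP : (y' : G) ∈ P := y'.2
  have hyC : (y' : G) ∉ C := fun h => hy'C (Subgroup.mem_subgroupOf.mpr h)
  -- `y` normalizes `C`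
  have hconj : ∀ c ∈ C, (y' : G) * c * (y' : G)⁻¹ ∈ C := by
    intro c hc
    have h1 := (Subgroup.mem_normalizer_iff.mp hy'N ⟨c, hCP hc⟩).mp
      (Subgroup.mem_subgroupOf.mpr hc)
    rw [Subgroup.mem_subgroupOf] at h1
    simpa using h1
  -- `A * A^y` is elementary abelian
  have hyA : MulAut.conj (y' : G) • A ≤ C := by
    intro b hb
    have hb' := mem_conj_smul_iff.mp hb
    have := hconj _ (hAC hb')
    have h2 : (y' : G) * ((y' : G)⁻¹ * b * y') * (y' : G)⁻¹ = b := by group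
    rwa [h2] at this
  have hcomm : ∀ a ∈ A, ∀ b ∈ MulAut.conj (y' : G) • A, a * b = b * a := by
    intro a ha b hb
    have h1 := hyA hb
    rw [hC] at h1
    exact Subgroup.mem_centralizer_iff.mp (Subgroup.mem_inf.mp h1).2 a ha
  have hB : IsElementaryAbelian p (A ⊔ MulAut.conj (y' : G) • A) :=
    isElementaryAbelian_sup hAel (isElementaryAbelian_conj hAel _) hcomm
  have hBA := hAmax _ (sup_le hAP (hyA.trans hCP)) hB le_sup_left
  have hyAA : MulAut.conj (y' : G) • A ≤ A := le_sup_right.trans (le_of_eq hBA)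
  have hyN : (y' : G) ∈ Subgroup.normalizer (A : Set G) := by
    rw [mem_normalizer_iff_conj_smul]
    exact Subgroup.eq_of_le_of_card_ge hyAA (le_of_eq (card_conj_smul _ _).symm)
  refine ⟨y', hyP, hyN, ?_⟩
  by_contra hcon
  push Not at hcon
  apply hyC
  refine Subgroup.mem_inf.mpr ⟨hyP, ?_⟩
  rw [Subgroup.mem_centralizer_iff]
  intro a ha
  exact (hcon a ha).symm

/-- A `p`-group normalizing a group of order `p` centralizes it. -/
theorem commute_of_card_prime' [Finite G] {p : ℕ} (hp : p.Prime) {P X : Subgroup G}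
    (hP : IsPGroup p P) (hX : Nat.card X = p) (hPX : P ≤ Subgroup.normalizer (X : Set G)) :
    ∀ g ∈ P, ∀ u ∈ X, g * u = u * g := by
  haveI : Fact p.Prime := ⟨hp⟩
  have hXp : IsPGroup p X := IsPGroup.of_card (n := 1) (by rw [hX, pow_one])
  have hS : IsPGroup p ↥(P ⊔ X) := IsPGroup.to_sup_of_normal_right' hP hXp hPX
  haveI : (X.subgroupOf (P ⊔ X)).Normal :=
    (Subgroup.normal_subgroupOf_iff_le_normalizer le_sup_right).mpr
      (sup_le hPX Subgroup.le_normalizer)
  have hcard : Nat.card (X.subgroupOf (P ⊔ X)) = p := by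
    rw [Nat.card_congr (Subgroup.subgroupOfEquivOfLe (le_sup_right : X ≤ P ⊔ X)).toEquiv, hX]
  have hcen := Cfsg.Agent.Lib.Helper63.normal_card_prime_le_center hS (X.subgroupOf (P ⊔ X)) hcard
  intro g hg u hu
  have hu' : (⟨u, (le_sup_right : X ≤ P ⊔ X) hu⟩ : ↥(P ⊔ X)) ∈ X.subgroupOf (P ⊔ X) := by
    rw [Subgroup.mem_subgroupOf]; exact hu
  have h1 := Subgroup.mem_center_iff.mp (hcen hu') ⟨g, (le_sup_left : P ≤ P ⊔ X) hg⟩
  exact congrArg Subtype.val h1

/-- A subgroup of prime order is generated by each of its nonidentity elements. -/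
theorem zpowers_eq_of_card_prime [Finite G] {p : ℕ} (hp : p.Prime) {Z : Subgroup G}
    (hZ : Nat.card Z = p) {w : G} (hw : w ∈ Z) (hw1 : w ≠ 1) : Subgroup.zpowers w = Z := by
  have hle : Subgroup.zpowers w ≤ Z := Subgroup.zpowers_le.mpr hw
  apply Subgroup.eq_of_le_of_card_ge hle
  have h1 : Nat.card (Subgroup.zpowers w) ∣ p := hZ ▸ Subgroup.card_dvd_of_le hle
  rcases (Nat.dvd_prime hp).mp h1 with h | h
  · exfalso
    apply hw1
    have := Subgroup.card_eq_one.mp h
    rwa [Subgroup.zpowers_eq_bot] at this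
  · rw [hZ, h]

/-- The unipotent action of `y` on `A ≅ p²` fixing exactly `Z`: the `y`-conjugates of `u ∉ Z` fill
the coset `u Z`. -/
theorem exists_pow_conj_eq_mul [Finite G] {p : ℕ} [hp : Fact p.Prime] {A Z P : Subgroup G} {y : G}
    (hAel : IsElementaryAbelian p A) (hA2 : Nat.card A = p ^ 2) (hZA : Z ≤ A)
    (hZ : Nat.card Z = p) (hyP : y ∈ P) (hPp : IsPGroup p P)
    (hyA : y ∈ Subgroup.normalizer (A : Set G)) (hyZ : ∀ z ∈ Z, y * z = z * y)
    (hync : ∃ a ∈ A, y * a ≠ a * y) :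
    ∀ u ∈ A, u ∉ Z → ∀ z ∈ Z, ∃ i : ℕ, y ^ i * u * (y ^ i)⁻¹ = u * z := by
  haveI : IsMulCommutative A := hAel.1
  -- `F = C_A(y) = Z`
  have hZF : Z ≤ A ⊓ Subgroup.centralizer ({y} : Set G) := by
    intro z hz
    refine Subgroup.mem_inf.mpr ⟨hZA hz, ?_⟩
    rw [Subgroup.mem_centralizer_singleton_iff]
    exact (hyZ z hz).symm
  have hFA : A ⊓ Subgroup.centralizer ({y} : Set G) ≠ A := by
    intro h
    obtain ⟨a, ha, hne⟩ := hync
    have : a ∈ A ⊓ Subgroup.centralizer ({y} : Set G) := by rw [h]; exact ha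
    exact hne (Subgroup.mem_centralizer_singleton_iff.mp this.2).symm
  have hFcard : Nat.card ↥(A ⊓ Subgroup.centralizer ({y} : Set G)) = p := by
    have h1 : Nat.card ↥(A ⊓ Subgroup.centralizer ({y} : Set G)) ∣ p ^ 2 :=
      hA2 ▸ Subgroup.card_dvd_of_le inf_le_left
    have h2 : p ∣ Nat.card ↥(A ⊓ Subgroup.centralizer ({y} : Set G)) :=
      hZ ▸ Subgroup.card_dvd_of_le hZF
    obtain ⟨j, hj, hjc⟩ := (Nat.dvd_prime_pow hp.out).mp h1
    have hj0 : j ≠ 0 := by
      intro h0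
      rw [hjc, h0, pow_zero] at h2
      exact hp.out.one_lt.ne' (Nat.dvd_one.mp h2)
    have hj2 : j ≠ 2 := by
      intro h2'
      apply hFA
      apply Subgroup.eq_of_le_of_card_ge inf_le_left
      rw [hjc, h2', hA2]
    have hj1 : j = 1 := by omega
    rw [hjc, hj1, pow_one]
  have hFZ : A ⊓ Subgroup.centralizer ({y} : Set G) = Z :=
    (Subgroup.eq_of_le_of_card_ge hZF (by rw [hFcard, hZ])).symm
  -- the commutator homomorphism
  let c : A →* A := (MonoidHom.id A)⁻¹ * cj A y hyA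
  have hc : ∀ u : A, ((c u : A) : G) = (u : G)⁻¹ * (y * u * y⁻¹) := by
    intro u
    simp [c]
  have hker : c.ker = (A ⊓ Subgroup.centralizer ({y} : Set G)).subgroupOf A := by
    ext u
    rw [MonoidHom.mem_ker, Subgroup.mem_subgroupOf, Subgroup.mem_inf,
      Subgroup.mem_centralizer_singleton_iff]
    constructor
    · intro h
      have h1 := congrArg Subtype.val h
      rw [hc] at h1
      refine ⟨u.2, ?_⟩
      have h2 : y * (u : G) * y⁻¹ = u := by
        calc y * (u : G) * y⁻¹ = u * ((u : G)⁻¹ * (y * u * y⁻¹)) := by group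
          _ = u := by rw [h1]; simp
      calc (u : G) * y = (y * (u : G) * y⁻¹) * y := by rw [h2]
        _ = y * u := by group
    · rintro ⟨_, h⟩
      apply Subtype.ext
      rw [hc]
      calc (u : G)⁻¹ * (y * u * y⁻¹) = (u : G)⁻¹ * ((u : G) * y) * y⁻¹ := by rw [h]; group
        _ = 1 := by group
  have hkercard : Nat.card c.ker = p := by
    rw [hker, Nat.card_congr (Subgroup.subgroupOfEquivOfLe
      (inf_le_left : A ⊓ Subgroup.centralizer ({y} : Set G) ≤ A)).toEquiv, hFcard]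
  have hrangecard : Nat.card c.range = p := by
    have h1 := c.ker.card_mul_index
    rw [Subgroup.index_ker, hkercard, hA2, pow_two] at h1
    exact Nat.eq_of_mul_eq_mul_left hp.out.pos h1
  -- `R = c(A)`
  set R : Subgroup G := c.range.map A.subtype with hR
  have hRcard : Nat.card R = p := by rw [hR, Subgroup.card_subtype, hrangecard]
  have hRA : R ≤ A := Subgroup.map_subtype_le _
  have hmemR : ∀ u : A, (u : G)⁻¹ * (y * u * y⁻¹) ∈ R := by
    intro u
    rw [← hc]
    exact ⟨c u, ⟨u, rfl⟩, rfl⟩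
  have hyR : y ∈ Subgroup.normalizer (R : Set G) := by
    apply Subgroup.mem_normalizer_fintype (S := (R : Set G))
    rintro _ ⟨_, ⟨u, rfl⟩, rfl⟩
    have h1 := hmemR (cj A y hyA u)
    rw [cj_coe] at h1
    have h2 : y * (A.subtype (c u)) * y⁻¹ =
        (y * (u : G) * y⁻¹)⁻¹ * (y * (y * (u : G) * y⁻¹) * y⁻¹) := by
      rw [Subgroup.coe_subtype, hc]; group
    rw [h2]
    exact h1
  have hzp : IsPGroup p (Subgroup.zpowers y) := hPp.to_le (Subgroup.zpowers_le.mpr hyP)
  have hcomm := commute_of_card_prime' hp.out hzp hRcard (Subgroup.zpowers_le.mpr hyR) y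
    (Subgroup.mem_zpowers y)
  have hRZ : R = Z := by
    have hRF : R ≤ A ⊓ Subgroup.centralizer ({y} : Set G) := by
      intro r hr
      refine Subgroup.mem_inf.mpr ⟨hRA hr, ?_⟩
      rw [Subgroup.mem_centralizer_singleton_iff]
      exact (hcomm r hr).symm
    rw [hFZ] at hRF
    exact Subgroup.eq_of_le_of_card_ge hRF (by rw [hRcard, hZ])
  intro u hu huZ z hz
  set w : G := u⁻¹ * (y * u * y⁻¹) with hw
  have hwZ : w ∈ Z := by
    rw [← hRZ]; exact hmemR ⟨u, hu⟩
  have hyw : y * w = w * y := hyZ w hwZ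
  have hw1 : w ≠ 1 := by
    intro h1
    apply huZ
    rw [← hFZ]
    refine Subgroup.mem_inf.mpr ⟨hu, ?_⟩
    rw [Subgroup.mem_centralizer_singleton_iff]
    have h2 : y * u * y⁻¹ = u := by
      calc y * u * y⁻¹ = u * w := by rw [hw]; group
        _ = u := by rw [h1, mul_one]
    calc u * y = (y * u * y⁻¹) * y := by rw [h2]
      _ = y * u := by group
  have hpow : ∀ i : ℕ, y ^ i * u * (y ^ i)⁻¹ = u * w ^ i := by
    intro i
    induction i with
    | zero => simp
    | succ i ih =>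
      have hywi : y * w ^ i = w ^ i * y := (Commute.pow_right (show Commute y w from hyw) i).eq
      calc y ^ (i + 1) * u * (y ^ (i + 1))⁻¹ = y * (y ^ i * u * (y ^ i)⁻¹) * y⁻¹ := by
            rw [pow_succ']; group
        _ = y * (u * w ^ i) * y⁻¹ := by rw [ih]
        _ = (y * u * y⁻¹) * (y * w ^ i) * y⁻¹ := by group
        _ = (y * u * y⁻¹) * (w ^ i * y) * y⁻¹ := by rw [hywi]
        _ = u * (u⁻¹ * (y * u * y⁻¹)) * w ^ i := by group
        _ = u * w ^ (i + 1) := by rw [← hw, pow_succ', mul_assoc]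
  have hzw : z ∈ Subgroup.zpowers w := by
    rw [zpowers_eq_of_card_prime hp.out hZ hwZ hw1]; exact hz
  rw [← mem_powers_iff_mem_zpowers] at hzw
  obtain ⟨i, hi⟩ := (Submonoid.mem_powers_iff z w).mp hzw
  exact ⟨i, by rw [hpow i, hi]⟩

/-- A group of order `p²` and exponent `p` is not cyclic. -/
theorem not_isCyclic_of_elemAb {p : ℕ} (hp : p.Prime) {A : Subgroup G}
    (hAel : IsElementaryAbelian p A) (hA2 : Nat.card A = p ^ 2) : ¬ IsCyclic A := by
  intro hcyc
  obtain ⟨a₀, ha₀⟩ := IsCyclic.exists_generator (α := A)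
  have h1 : orderOf a₀ = Nat.card A := orderOf_eq_card_of_forall_mem_zpowers ha₀
  have h2 : a₀ ^ p = 1 := by
    apply Subtype.ext
    have := hAel.2 a₀ a₀.2
    simpa using this
  have h3 : orderOf a₀ ∣ p := orderOf_dvd_of_pow_eq_one h2
  rw [h1, hA2] at h3
  have h4 := Nat.le_of_dvd hp.pos h3
  have h5 : p < p ^ 2 := by
    have := hp.one_lt
    nlinarith
  omega

/-- Two subgroups of order `p` of `A ≅ p²` which are different span `A`: decomposition of
elements. -/
theorem exists_mul_of_card_prime [Finite G] {p : ℕ} (hp : p.Prime) {A A₀ Z : Subgroup G}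
    (hA2 : Nat.card A = p ^ 2) (hA₀A : A₀ ≤ A) (hZA : Z ≤ A)
    (hA₀ : Nat.card A₀ = p) (hZ : Nat.card Z = p) (hne : A₀ ≠ Z) :
    ∀ a ∈ A, ∃ u ∈ A₀, ∃ z ∈ Z, a = u * z := by
  have hinf : A₀ ⊓ Z = ⊥ := by
    have h1 : Nat.card ↥(A₀ ⊓ Z) ∣ p := hA₀ ▸ Subgroup.card_dvd_of_le inf_le_left
    rcases (Nat.dvd_prime hp).mp h1 with h | h
    · exact Subgroup.card_eq_one.mp h
    · exfalso
      apply hne
      have e1 : A₀ ⊓ Z = A₀ := Subgroup.eq_of_le_of_card_ge inf_le_left (by rw [h, hA₀])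
      have e2 : A₀ ⊓ Z = Z := Subgroup.eq_of_le_of_card_ge inf_le_right (by rw [h, hZ])
      rw [← e1, e2]
  let f : A₀ × Z → A := fun x => ⟨(x.1 : G) * (x.2 : G), A.mul_mem (hA₀A x.1.2) (hZA x.2.2)⟩
  have hf : Function.Injective f := by
    rintro ⟨u, z⟩ ⟨u', z'⟩ h
    have h1 : (u : G) * z = u' * z' := congrArg Subtype.val h
    have h2 : (u' : G)⁻¹ * u = z' * (z : G)⁻¹ := by
      calc (u' : G)⁻¹ * u = (u' : G)⁻¹ * ((u : G) * z) * (z : G)⁻¹ := by group
        _ = (u' : G)⁻¹ * ((u' : G) * z') * (z : G)⁻¹ := by rw [h1]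
        _ = z' * (z : G)⁻¹ := by group
    have h3 : (u' : G)⁻¹ * u ∈ A₀ ⊓ Z :=
      Subgroup.mem_inf.mpr ⟨A₀.mul_mem (A₀.inv_mem u'.2) u.2,
        h2 ▸ Z.mul_mem z'.2 (Z.inv_mem z.2)⟩
    rw [hinf, Subgroup.mem_bot] at h3
    have h4 : (u : G) = u' := by
      calc (u : G) = u' * ((u' : G)⁻¹ * u) := by group
        _ = u' := by rw [h3, mul_one]
    have h5 : (z : G) = z' := by
      have : (z' : G) * (z : G)⁻¹ = 1 := by rw [← h2, h3]
      calc (z : G) = ((z' : G) * (z : G)⁻¹)⁻¹ * z' := by group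
        _ = z' := by rw [this]; simp
    exact Prod.ext (Subtype.ext h4) (Subtype.ext h5)
  have hbij : Function.Bijective f := hf.bijective_of_nat_card_le (by
    rw [Nat.card_prod, hA₀, hZ, hA2, pow_two])
  intro a ha
  obtain ⟨⟨u, z⟩, huz⟩ := hbij.2 ⟨a, ha⟩
  exact ⟨u, u.2, z, z.2, (congrArg Subtype.val huz).symm⟩

/-- (A) of board #1817: `A` is central in `P`. -/
theorem exc_central [Finite G] (hs : IsSimpleGroup G) (hnc : ¬ IsMulCommutative G) (p : ℕ)
    [Fact p.Prime]
    (M K A A₀ P : Subgroup G) (hMtop : M ≠ ⊤)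
    (hKM : K ≤ M) (hMK : M ≤ Subgroup.normalizer (K : Set G)) (hK1 : K ≠ ⊥)
    (hKp : (Nat.card K).Coprime p) (hKhall : (Nat.card K).Coprime K.index)
    (hAP : A ≤ P) (hPM : P ≤ M) (hPp : IsPGroup p P)
    (hAel : IsElementaryAbelian p A) (hA2 : Nat.card A = p ^ 2)
    (hAmax : ∀ B : Subgroup G, B ≤ P → IsElementaryAbelian p B → A ≤ B → B = A)
    (hA₀A : A₀ ≤ A) (hA₀ : Nat.card A₀ = p) (hNA₀ : Subgroup.normalizer (A₀ : Set G) ≤ M)
    (hTH : TransitivityHypothesis A)
    (hTI : ∀ g : G, g ∉ M → A ≤ MulAut.conj g • M → K ⊓ MulAut.conj g • M = ⊥)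
    (g : G) (hgP : g ∈ Subgroup.normalizer (P : Set G)) (hgM : g ∉ M) :
    ∀ a ∈ A, ∀ y ∈ P, a * y = y * a := by
  by_contra hcon
  have hp : p.Prime := Fact.out
  have hp2 : 1 < p ^ 2 := by
    have := hp.one_lt
    nlinarith
  -- `Z = Ω₁(Z(P))`
  have hP1 : P ≠ ⊥ := by
    intro h
    rw [h] at hAP
    have hAbot : A = ⊥ := le_bot_iff.mp hAP
    rw [hAbot, Subgroup.card_bot] at hA2
    omega
  have hZ1 : omegaCenter p P ≠ ⊥ := omegaCenter_ne_bot hPp hP1
  have hZA : omegaCenter p P ≤ A := by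
    have hB : IsElementaryAbelian p (A ⊔ omegaCenter p P) :=
      isElementaryAbelian_sup hAel (isElementaryAbelian_omegaCenter p P)
        (fun a ha z hz => (hz.2.1 a (hAP ha)).symm)
    have := hAmax _ (sup_le hAP (omegaCenter_le p P)) hB le_sup_left
    exact le_sup_right.trans (le_of_eq this)
  have hZneA : omegaCenter p P ≠ A := by
    intro h
    apply hcon
    intro a ha y hy
    have : a ∈ omegaCenter p P := by rw [h]; exact ha
    exact this.2.1 y hy
  have hZcard : Nat.card (omegaCenter p P) = p := by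
    have h1 : Nat.card (omegaCenter p P) ∣ p ^ 2 := hA2 ▸ Subgroup.card_dvd_of_le hZA
    obtain ⟨j, hj, hjc⟩ := (Nat.dvd_prime_pow hp).mp h1
    have hj0 : j ≠ 0 := by
      intro h0
      rw [h0, pow_zero] at hjc
      exact hZ1 (Subgroup.card_eq_one.mp hjc)
    have hj2 : j ≠ 2 := by
      intro h2
      apply hZneA
      apply Subgroup.eq_of_le_of_card_ge hZA
      rw [hjc, h2, hA2]
    have hj1 : j = 1 := by omega
    rw [hjc, hj1, pow_one]
  have hgZ : g ∈ Subgroup.normalizer ((omegaCenter p P : Subgroup G) : Set G) :=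
    mem_normalizer_omegaCenter hgP
  set Z : Subgroup G := omegaCenter p P with hZdef
  -- the element `y`
  obtain ⟨y, hyP, hyA, hync⟩ := exists_normalizing_not_centralizing hAP hPp hAel hAmax hcon
  have hyZ : ∀ z ∈ Z, y * z = z * y := fun z hz => (hz.2.1 y hyP).symm
  have hconjA := exists_pow_conj_eq_mul hAel hA2 hZA hZcard hyP hPp hyA hyZ hync
  have hA₀Z : A₀ ≠ Z := by
    intro h
    apply hgM
    apply hNA₀
    rw [h]
    exact hgZ
  -- centralizers of elements of `A - Z` lie in `M`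
  have hCa : ∀ a ∈ A, a ∉ Z → Subgroup.centralizer ({a} : Set G) ≤ M := by
    intro a ha haZ
    obtain ⟨u, hu, z, hz, rfl⟩ := exists_mul_of_card_prime hp hA2 hA₀A hZA hA₀ hZcard hA₀Z a ha
    have huZ : u ∉ Z := by
      intro h
      exact haZ (Z.mul_mem h hz)
    obtain ⟨i, hi⟩ := hconjA u (hA₀A hu) huZ z hz
    intro x hx
    rw [Subgroup.mem_centralizer_singleton_iff, ← hi] at hx
    have hx' : ((y ^ i)⁻¹ * x * y ^ i) * u = u * ((y ^ i)⁻¹ * x * y ^ i) := by
      calc ((y ^ i)⁻¹ * x * y ^ i) * u = (y ^ i)⁻¹ * (x * (y ^ i * u * (y ^ i)⁻¹)) * y ^ i := by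
            group
        _ = (y ^ i)⁻¹ * ((y ^ i * u * (y ^ i)⁻¹) * x) * y ^ i := by rw [hx]
        _ = u * ((y ^ i)⁻¹ * x * y ^ i) := by group
    have hu1 : u ≠ 1 := by
      intro h
      exact huZ (h ▸ Z.one_mem)
    have hA₀u : Subgroup.zpowers u = A₀ := zpowers_eq_of_card_prime hp hA₀ hu hu1
    have hx'N : (y ^ i)⁻¹ * x * y ^ i ∈ Subgroup.normalizer (A₀ : Set G) := by
      apply Subgroup.centralizer_le_normalizer
      rw [← hA₀u, Subgroup.mem_centralizer_iff]
      intro t ht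
      obtain ⟨k, rfl⟩ := Subgroup.mem_zpowers_iff.mp ht
      exact ((Commute.zpow_right (show Commute ((y ^ i)⁻¹ * x * y ^ i) u from hx') k)).eq.symm
    have hx'M := hNA₀ hx'N
    have hyiM : y ^ i ∈ M := M.pow_mem (hPM hyP) i
    have hxeq : x = y ^ i * ((y ^ i)⁻¹ * x * y ^ i) * (y ^ i)⁻¹ := by group
    rw [hxeq]
    exact M.mul_mem (M.mul_mem hyiM hx'M) (M.inv_mem hyiM)
  -- the conjugate `K' = g K g⁻¹`
  have hPg : MulAut.conj g • P = P := mem_normalizer_iff_conj_smul.mp hgP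
  have hAgM : A ≤ MulAut.conj g • M := by
    have h1 : MulAut.conj g • P ≤ MulAut.conj g • M := conj_smul_le_conj_smul hPM
    rw [hPg] at h1
    exact hAP.trans h1
  have hginvM : g⁻¹ ∉ M := fun h => hgM (by simpa using M.inv_mem h)
  have hAginvM : A ≤ MulAut.conj g⁻¹ • M := by
    intro a ha
    rw [mem_conj_smul_iff, inv_inv]
    exact hPM ((Subgroup.mem_normalizer_iff.mp hgP a).mp (hAP ha))
  have h2 := hTI g⁻¹ hginvM hAginvM
  have hK'M : MulAut.conj g • K ⊓ M = ⊥ := by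
    rw [eq_bot_iff]
    intro x hx
    rw [Subgroup.mem_bot]
    have hxK : g⁻¹ * x * g ∈ K := mem_conj_smul_iff.mp hx.1
    have hxM : g⁻¹ * x * g ∈ MulAut.conj g⁻¹ • M := by
      rw [mem_conj_smul_iff, inv_inv]
      have : g * (g⁻¹ * x * g) * g⁻¹ = x := by group
      rw [this]
      exact hx.2
    have h3 : g⁻¹ * x * g ∈ K ⊓ MulAut.conj g⁻¹ • M := Subgroup.mem_inf.mpr ⟨hxK, hxM⟩
    rw [h2, Subgroup.mem_bot] at h3
    calc x = g * (g⁻¹ * x * g) * g⁻¹ := by group
      _ = 1 := by rw [h3]; group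
  have hAK' : A ≤ Subgroup.normalizer ((MulAut.conj g • K : Subgroup G) : Set G) :=
    hAgM.trans (conj_smul_le_normalizer hMK)
  have hcopAK : (Nat.card A).Coprime (Nat.card K) := by
    rw [hA2]
    exact (Nat.Coprime.pow_right 2 hKp).symm
  have hcopAK' : (Nat.card A).Coprime (Nat.card (MulAut.conj g • K : Subgroup G)) := by
    rw [card_conj_smul]; exact hcopAK
  haveI : IsMulCommutative A := hAel.1
  have hgen := Cfsg.Agent.S0058.result A (MulAut.conj g • K) (not_isCyclic_of_elemAb hp hAel hA2)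
    hAK' hcopAK'
  -- `Z` centralizes `K'` and `K`
  have hK'Z : MulAut.conj g • K ≤ Subgroup.centralizer (Z : Set G) := by
    rw [← hgen]
    apply iSup₂_le
    rintro a ⟨haA, ha1⟩
    by_cases haZ : a ∈ Z
    · intro x hx
      have hxa := Subgroup.mem_centralizer_singleton_iff.mp hx.2
      rw [Subgroup.mem_centralizer_iff]
      intro z hz
      rw [← zpowers_eq_of_card_prime hp hZcard haZ ha1] at hz
      obtain ⟨k, rfl⟩ := Subgroup.mem_zpowers_iff.mp hz
      exact ((Commute.zpow_right (show Commute x a from hxa) k)).eq.symm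
    · have h3 : MulAut.conj g • K ⊓ Subgroup.centralizer ({a} : Set G) ≤
          MulAut.conj g • K ⊓ M := inf_le_inf_left _ (hCa a haA haZ)
      rw [hK'M] at h3
      exact h3.trans bot_le
  have hKZ : K ≤ Subgroup.centralizer (Z : Set G) := by
    intro k hk
    rw [Subgroup.mem_centralizer_iff]
    intro z hz
    have h3 : g * k * g⁻¹ ∈ MulAut.conj g • K := conj_mem_conj_smul hk
    have h4 : g * z * g⁻¹ ∈ Z := (Subgroup.mem_normalizer_iff.mp hgZ z).mp hz
    have h5 := Subgroup.mem_centralizer_iff.mp (hK'Z h3) _ h4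
    calc z * k = g⁻¹ * ((g * z * g⁻¹) * (g * k * g⁻¹)) * g := by group
      _ = g⁻¹ * ((g * k * g⁻¹) * (g * z * g⁻¹)) * g := by rw [h5]
      _ = k * z := by group
  -- `H = C_G(Z)`
  obtain ⟨z₀, hz₀, hz₀1⟩ : ∃ z₀ ∈ Z, z₀ ≠ 1 := by
    by_contra hno
    push Not at hno
    apply hZ1
    rw [eq_bot_iff]
    intro z hz
    rw [Subgroup.mem_bot]
    exact hno z hz
  have hHtop : Subgroup.centralizer (Z : Set G) ≠ ⊤ := by
    intro h
    apply centralizer_singleton_ne_top hs hnc hz₀1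
    rw [eq_top_iff, ← h]
    exact Subgroup.centralizer_le (by simpa using hz₀)
  have hAH : A ≤ Subgroup.centralizer (Z : Set G) := by
    intro a ha
    rw [Subgroup.mem_centralizer_iff]
    intro z hz
    exact elemAb_comm hAel z (hZA hz) a ha
  -- a prime `q` dividing `|K|`
  have hKcard1 : Nat.card K ≠ 1 := fun h => hK1 (Subgroup.card_eq_one.mp h)
  obtain ⟨q, hq, hqK⟩ := Nat.exists_prime_and_dvd hKcard1
  haveI : Fact q.Prime := ⟨hq⟩
  have hAK : A ≤ Subgroup.normalizer (K : Set G) := (hAP.trans hPM).trans hMK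
  have hsolvA : Group.IsSolvable A :=
    Group.isSolvable_of_comm (fun a b => Subtype.ext (elemAb_comm hAel a a.2 b b.2))
  obtain ⟨S1, hS1⟩ := exists_invariant_sylow A K hAK hcopAK (Or.inl hsolvA) q
  obtain ⟨S2, hS2⟩ := exists_invariant_sylow A (MulAut.conj g • K) hAK' hcopAK' (Or.inl hsolvA) q
  set Q1 : Subgroup G := (S1 : Subgroup K).map K.subtype with hQ1
  set Q2 : Subgroup G := (S2 : Subgroup ↥(MulAut.conj g • K)).map
    (MulAut.conj g • K : Subgroup G).subtype with hQ2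
  have hQ1K : Q1 ≤ K := Subgroup.map_subtype_le _
  have hQ2K' : Q2 ≤ MulAut.conj g • K := Subgroup.map_subtype_le _
  have hQ1card : Nat.card Q1 = q ^ (Nat.card K).factorization q := card_map_sylow K S1
  have hQ2card : Nat.card Q2 = q ^ (Nat.card K).factorization q := by
    rw [hQ2, card_map_sylow, card_conj_smul]
  have hk0 : (Nat.card K).factorization q ≠ 0 := by
    have := (hq.factorization_pos_of_dvd Nat.card_pos.ne' hqK)
    omega
  -- the `q`-part of `|G|`
  have hGfac : (Nat.card G).factorization q = (Nat.card K).factorization q := by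
    have h3 : Nat.card G = Nat.card K * K.index := K.card_mul_index.symm
    have hidx : K.index ≠ 0 := Subgroup.index_ne_zero_of_finite
    have hqi : ¬ q ∣ K.index := by
      intro hd
      have := Nat.eq_one_of_dvd_coprimes hKhall hqK hd
      exact hq.ne_one this
    rw [h3, Nat.factorization_mul Nat.card_pos.ne' hidx, Finsupp.add_apply,
      Nat.factorization_eq_zero_of_not_dvd hqi, add_zero]
  -- `W = O_{p'}(H)`
  set W : Subgroup G := piCoreOf (primesNotDvd (Nat.card A))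
    (Subgroup.centralizer (Z : Set G)) with hW
  have hcopQ1 : (Nat.card Q1).Coprime (Nat.card A) :=
    Nat.Coprime.coprime_dvd_left (Subgroup.card_dvd_of_le hQ1K) hcopAK.symm
  have hcopQ2 : (Nat.card Q2).Coprime (Nat.card A) :=
    Nat.Coprime.coprime_dvd_left (Subgroup.card_dvd_of_le hQ2K') hcopAK'.symm
  have hQ1W : Q1 ≤ W := le_piCoreOf_of_transitivityHypothesis A hTH hHtop hAH
    (hQ1K.trans hKZ) hcopQ1 hS1
  have hQ2W : Q2 ≤ W := le_piCoreOf_of_transitivityHypothesis A hTH hHtop hAH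
    (hQ2K'.trans hK'Z) hcopQ2 hS2
  have hWfac : (Nat.card W).factorization q = (Nat.card K).factorization q := by
    apply le_antisymm
    · rw [← hGfac]
      exact (Nat.factorization_le_iff_dvd Nat.card_pos.ne' Nat.card_pos.ne').mpr
        (Subgroup.card_subgroup_dvd_card W) q
    · apply (hq.pow_dvd_iff_le_factorization Nat.card_pos.ne').mp
      rw [← hQ1card]
      exact Subgroup.card_dvd_of_le hQ1W
  obtain ⟨P₁, hP₁⟩ := exists_sylow_of_card W Q1 hQ1W (by rw [hQ1card, hWfac])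
  obtain ⟨P₂, hP₂⟩ := exists_sylow_of_card W Q2 hQ2W (by rw [hQ2card, hWfac])
  have hAW : A ≤ Subgroup.normalizer (W : Set G) := hAH.trans (le_normalizer_piCoreOf _ _)
  have hcopAW : (Nat.card A).Coprime (Nat.card W) :=
    (coprime_of_primesNotDvd (piCoreOf_isPi _ _)).symm
  obtain ⟨c, hcA, hc⟩ := exists_centralizer_conj_sylow A W hAW hcopAW (Or.inl hsolvA) q P₁ P₂
    (by rw [hP₁]; exact hS1) (by rw [hP₂]; exact hS2)
  have hcQ : MulAut.conj (c : G) • Q1 = Q2 := by
    have h3 := map_sylow_conj_smul W c P₁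
    rw [hc, hP₁, hP₂] at h3
    exact h3.symm
  -- `c ∈ M`
  have hcM : (c : G) ∈ M := by
    apply hNA₀
    apply Subgroup.centralizer_le_normalizer
    exact Subgroup.centralizer_le (by exact_mod_cast hA₀A) hcA
  have hQ2M : Q2 ≤ M := by
    rw [← hcQ]
    exact conj_smul_le_of_mem hcM (hQ1K.trans hKM)
  have hQ2bot : Q2 = ⊥ := by
    rw [eq_bot_iff, ← hK'M]
    exact le_inf hQ2K' hQ2M
  rw [hQ2bot, Subgroup.card_bot] at hQ2card
  have h4 : 1 < q ^ (Nat.card K).factorization q := Nat.one_lt_pow hk0 hq.one_lt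
  omega

end Cfsg.Agent.Lib.Helper91.BGEleven
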