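/-
helper91: project D4ISO (helper95, S1082), module [R-BASIS]: the Chevalley basis `bT` of the tensor model and its
coordinates `coordT`: `coordT (bT j) = δ`, `bT j ∈ L`, linearity of `coordT`, `coordT` kills symmetric tensors, and
every element of `L` is the combination of the basis given by its coordinates, modulo a symmetric tensor.
-/
import Mathlib
import Cfsg.Agent.Lib.Helper95.D4Iso.Defs

set_option autoImplicit false

namespace Cfsg.Agent.Lib.Helper91.D4Iso

open Matrix Cfsg.Lie Cfsg.Agent.Lib.Helper95.D4Iso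

/-! ### integer tables -/

set_option maxRecDepth 100000 in
theorem coordT_bT_int : ∀ i j : chevD4.Idx,
    coordT (bT j : Matrix I8 I8 ℤ × ℤ) i = if i = j then 1 else 0 := by
  decide +kernel

theorem root_pair_exists : ∀ a b : I8, a ≠ b → a ≠ opp b →
    ∃ r : Fin 24, (rootA r = a ∧ rootB r = b) ∨ (rootA r = b ∧ rootB r = a) := by
  decide

theorem root_pair_unique : ∀ r r' : Fin 24, r ≠ r' →
    ¬ (rootA r = rootA r' ∧ rootB r = rootB r') ∧ ¬ (rootA r = rootB r' ∧ rootB r = rootA r') := by
  decide

theorem root_pair_valid : ∀ r : Fin 24, rootA r ≠ rootB r ∧ rootA r ≠ opp (rootB r) := by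
  decide

theorem rootSg_mul_self : ∀ r : Fin 24, rootSg r * rootSg r = 1 := by
  decide

section ring
variable {R : Type*} [CommRing R]

/-! ### base change from the integers -/

theorem coordT_mapZ (p : Matrix I8 I8 ℤ × ℤ) (i : chevD4.Idx) :
    coordT (mapP (Int.castRingHom R) p) i = ((coordT p i : ℤ) : R) := by
  rcases i with k | r
  · simp only [coordT, mapP, Matrix.map_apply, Int.coe_castRingHom]
    split_ifs <;> push_cast <;> ring
  · simp only [coordT, mapP, Matrix.map_apply, Int.coe_castRingHom]
    push_cast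
    ring

theorem bT_mapZ (j : chevD4.Idx) :
    mapP (Int.castRingHom R) (bT j : Matrix I8 I8 ℤ × ℤ) = (bT j : Matrix I8 I8 R × R) := by
  rcases j with k | r
  · simp only [bT, mapP]
    split_ifs <;>
    · refine Prod.ext ?_ ?_
      · ext a b
        simp [etaT, Matrix.single_apply]
      · simp
  · simp only [bT, mapP]
    refine Prod.ext ?_ ?_
    · ext a b
      simp only [Matrix.map_apply, Matrix.smul_apply, Matrix.single_apply, Int.coe_castRingHom, smul_eq_mul]
      split_ifs <;> simp
    · simp

theorem coordT_bT (i j : chevD4.Idx) : coordT (bT j : Matrix I8 I8 R × R) i = if i = j then 1 else 0 := by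
  rw [← bT_mapZ, coordT_mapZ, coordT_bT_int]
  split_ifs <;> simp

/-! ### the constraint -/

theorem betaT_eq (t : Matrix I8 I8 R) :
    betaT t = ∑ i : Fin 4, (t (Sum.inl i) (Sum.inr i) - t (Sum.inr i) (Sum.inl i)) := by
  unfold betaT
  simp only [Matrix.trace, Matrix.diag_apply, Matrix.mul_apply, Matrix.transpose_apply, Matrix.sub_apply,
    Fintype.sum_sum_type, NM, Matrix.of_apply]
  simp [Fin.sum_univ_four]
  ring

set_option maxRecDepth 100000 in
theorem InL_bT_int : ∀ j : chevD4.Idx,
    (∑ i : Fin 4, ((bT j : Matrix I8 I8 ℤ × ℤ).1 (Sum.inl i) (Sum.inr i)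
      - (bT j : Matrix I8 I8 ℤ × ℤ).1 (Sum.inr i) (Sum.inl i))) = 2 * (bT j : Matrix I8 I8 ℤ × ℤ).2 := by
  decide +kernel

theorem InL_bT (j : chevD4.Idx) : InL (bT j : Matrix I8 I8 R × R) := by
  unfold InL
  rw [betaT_eq, ← bT_mapZ]
  have h := congrArg (Int.cast (R := R)) (InL_bT_int j)
  push_cast at h
  unfold mapP
  simp only [Matrix.map_apply, Int.coe_castRingHom]
  exact h

/-! ### linearity -/

theorem coordT_add (p q : Matrix I8 I8 R × R) : coordT (p + q) = coordT p + coordT q := by
  funext i
  rcases i with k | r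
  · simp only [coordT, Pi.add_apply, Prod.fst_add, Prod.snd_add, Matrix.add_apply]
    split_ifs <;> ring
  · simp only [coordT, Pi.add_apply, Prod.fst_add, Matrix.add_apply]
    ring

theorem coordT_smul (c : R) (p : Matrix I8 I8 R × R) : coordT (c • p) = c • coordT p := by
  funext i
  rcases i with k | r
  · simp only [coordT, Pi.smul_apply, Prod.smul_fst, Prod.smul_snd, Matrix.smul_apply, smul_eq_mul]
    split_ifs <;> ring
  · simp only [coordT, Pi.smul_apply, Prod.smul_fst, Matrix.smul_apply, smul_eq_mul]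
    ring

theorem coordT_sym (S : Matrix I8 I8 R) (hS : Sᵀ = S) : coordT (S, (0 : R)) = 0 := by
  have hs : ∀ a b, S a b = S b a := fun a b => by
    conv_lhs => rw [← hS]
    rfl
  funext i
  rcases i with k | r
  · simp only [coordT, Pi.zero_apply]
    rw [hs (Sum.inl 0) (Sum.inr 0), hs (Sum.inl 1) (Sum.inr 1), hs (Sum.inl 3) (Sum.inr 3)]
    split_ifs <;> ring
  · simp only [coordT, Pi.zero_apply]
    rw [hs (rootA r) (rootB r)]
    ring

/-! ### expansion in the basis -/

theorem h4sum (f : Fin chevD4.rank → R) :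
    ∑ k, f k = f ⟨0, by decide⟩ + f ⟨1, by decide⟩ + f ⟨2, by decide⟩ + f ⟨3, by decide⟩ :=
  Fin.sum_univ_four f

/-- entries of the combination of the basis -/
theorem sum_entry (c : chevD4.Idx → R) (a b : I8) :
    (∑ i, c i • (bT i : Matrix I8 I8 R × R)).1 a b
      = (∑ k : Fin chevD4.rank, c (Sum.inl k) * (bT (Sum.inl k) : Matrix I8 I8 R × R).1 a b)
        + ∑ r : Fin 24, c (Sum.inr r) * (((rootSg r : ℤ) : R) * if rootA r = a ∧ rootB r = b then 1 else 0) := by
  rw [Prod.fst_sum, Matrix.sum_apply, Fintype.sum_sum_type]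
  congr 1

theorem bT_inl_apply_of_ne (k : Fin chevD4.rank) (a b : I8) (h : ∀ i : Fin 4, ¬ (Sum.inl i = a ∧ Sum.inr i = b)) :
    (bT (Sum.inl k) : Matrix I8 I8 R × R).1 a b = 0 := by
  simp only [bT]
  split_ifs <;> simp [etaT, h]

theorem root_sum_zero (c : Fin 24 → R) (a b : I8) (h : a = opp b) :
    ∑ r : Fin 24, c r * (((rootSg r : ℤ) : R) * if rootA r = a ∧ rootB r = b then 1 else 0) = 0 := by
  apply Finset.sum_eq_zero
  intro r _
  rw [if_neg, mul_zero, mul_zero]
  rintro ⟨h1, h2⟩
  apply (root_pair_valid r).2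
  rw [h1, h2, h]

theorem root_sum_diff (t : Matrix I8 I8 R) (a b : I8) (hab : a ≠ b) (hopp : a ≠ opp b) :
    (∑ r : Fin 24, (((rootSg r : ℤ) : R) * (t (rootA r) (rootB r) - t (rootB r) (rootA r)))
        * (((rootSg r : ℤ) : R) * if rootA r = a ∧ rootB r = b then 1 else 0))
      - (∑ r : Fin 24, (((rootSg r : ℤ) : R) * (t (rootA r) (rootB r) - t (rootB r) (rootA r)))
        * (((rootSg r : ℤ) : R) * if rootA r = b ∧ rootB r = a then 1 else 0))
      = t a b - t b a := by
  obtain ⟨r₀, h0⟩ := root_pair_exists a b hab hopp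
  have hsq : ((rootSg r₀ : ℤ) : R) * ((rootSg r₀ : ℤ) : R) = 1 := by
    rw [← Int.cast_mul, rootSg_mul_self, Int.cast_one]
  rcases h0 with ⟨hA, hB⟩ | ⟨hA, hB⟩
  · rw [Finset.sum_eq_single r₀, Finset.sum_eq_single r₀]
    · rw [if_pos ⟨hA, hB⟩, if_neg, hA, hB]
      · linear_combination (t a b - t b a) * hsq
      · rintro ⟨h1, -⟩
        exact hab (hA.symm.trans h1)
    · intro r _ hr
      rw [if_neg, mul_zero, mul_zero]
      rintro ⟨h1, h2⟩
      exact (root_pair_unique r r₀ hr).2 ⟨h1.trans hB.symm, h2.trans hA.symm⟩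
    · intro h; exact absurd (Finset.mem_univ _) h
    · intro r _ hr
      rw [if_neg, mul_zero, mul_zero]
      rintro ⟨h1, h2⟩
      exact (root_pair_unique r r₀ hr).1 ⟨h1.trans hA.symm, h2.trans hB.symm⟩
    · intro h; exact absurd (Finset.mem_univ _) h
  · rw [Finset.sum_eq_single r₀, Finset.sum_eq_single r₀]
    · rw [if_pos (show rootA r₀ = b ∧ rootB r₀ = a from ⟨hA, hB⟩), if_neg, hA, hB]
      · linear_combination (t a b - t b a) * hsq
      · rintro ⟨h1, -⟩
        exact hab (h1.symm.trans hA)
    · intro r _ hr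
      rw [if_neg, mul_zero, mul_zero]
      rintro ⟨h1, h2⟩
      exact (root_pair_unique r r₀ hr).1 ⟨h1.trans hA.symm, h2.trans hB.symm⟩
    · intro h; exact absurd (Finset.mem_univ _) h
    · intro r _ hr
      rw [if_neg, mul_zero, mul_zero]
      rintro ⟨h1, h2⟩
      exact (root_pair_unique r r₀ hr).2 ⟨h1.trans hB.symm, h2.trans hA.symm⟩
    · intro h; exact absurd (Finset.mem_univ _) h

/-- the Cartan part at the opposite entries -/
theorem cartan_entry (p : Matrix I8 I8 R × R) (hp : InL p) (i : Fin 4) :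
    (∑ k : Fin chevD4.rank, coordT p (Sum.inl k) * (bT (Sum.inl k) : Matrix I8 I8 R × R).1 (Sum.inl i) (Sum.inr i))
      = p.1 (Sum.inl i) (Sum.inr i) - p.1 (Sum.inr i) (Sum.inl i) := by
  unfold InL at hp
  rw [betaT_eq, Fin.sum_univ_four] at hp
  rw [h4sum]
  simp only [coordT, bT]
  fin_cases i <;>
    simp [etaT] <;>
    first | ring1 | linear_combination (-1 : R) * hp

/-- every element of `L` is, modulo symmetric tensors, the combination of the basis given by its
coordinates -/
theorem expand (p : Matrix I8 I8 R × R) (hp : InL p) :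
    ∃ S : Matrix I8 I8 R, Sᵀ = S ∧ p = (∑ i, coordT p i • (bT i : Matrix I8 I8 R × R)) + (S, 0) := by
  refine ⟨p.1 - (∑ i, coordT p i • (bT i : Matrix I8 I8 R × R)).1, ?_, ?_⟩
  · ext a b
    rw [Matrix.transpose_apply, Matrix.sub_apply, Matrix.sub_apply, sum_entry, sum_entry]
    by_cases hab : a = b
    · subst hab; rfl
    by_cases hopp : a = opp b
    · -- opposite entries
      have hopp' : b = opp a := by rw [hopp, opp_opp]
      rw [root_sum_zero _ a b hopp, root_sum_zero _ b a hopp']
      rcases b with i | i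
      · -- `b = e_i`, `a = f_i`
        have ha : a = Sum.inr i := hopp
        subst ha
        rw [cartan_entry p hp i]
        have : (∑ k : Fin chevD4.rank, coordT p (Sum.inl k) *
            (bT (Sum.inl k) : Matrix I8 I8 R × R).1 (Sum.inr i) (Sum.inl i)) = 0 := by
          apply Finset.sum_eq_zero
          intro k _
          rw [bT_inl_apply_of_ne, mul_zero]
          rintro j ⟨h1, -⟩
          exact Sum.inl_ne_inr h1
        rw [this]
        ring
      · have ha : a = Sum.inl i := hopp
        subst ha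
        rw [cartan_entry p hp i]
        have : (∑ k : Fin chevD4.rank, coordT p (Sum.inl k) *
            (bT (Sum.inl k) : Matrix I8 I8 R × R).1 (Sum.inr i) (Sum.inl i)) = 0 := by
          apply Finset.sum_eq_zero
          intro k _
          rw [bT_inl_apply_of_ne, mul_zero]
          rintro j ⟨h1, -⟩
          exact Sum.inl_ne_inr h1
        rw [this]
        ring
    · -- root entries
      have hz : ∀ a b : I8, a ≠ opp b → (∑ k : Fin chevD4.rank, coordT p (Sum.inl k) *
          (bT (Sum.inl k) : Matrix I8 I8 R × R).1 a b) = 0 := by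
        intro a b hne
        apply Finset.sum_eq_zero
        intro k _
        rw [bT_inl_apply_of_ne, mul_zero]
        rintro j ⟨h1, h2⟩
        apply hne
        rw [← h1, ← h2]
        rfl
      have hopp' : b ≠ opp a := by
        intro h
        apply hopp
        rw [h, opp_opp]
      rw [hz a b hopp, hz b a hopp']
      have key := root_sum_diff p.1 a b hab hopp
      simp only [coordT] at key ⊢
      linear_combination key
  · refine Prod.ext ?_ ?_
    · simp
    · rw [Prod.snd_add, Prod.snd_sum, Fintype.sum_sum_type, h4sum]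
      simp [coordT, bT]

end ring

end Cfsg.Agent.Lib.Helper91.D4Iso
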