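/-
helper91: project OUT (helper69), common part of the modules OUT-[PI-G2] and OUT-[PI-F4]:
the torus relation for an automorphism acting on the fundamental root elements by `t ↦ t ^ e`,
and the arithmetic `t ^ p = t ^ k` on the non-zero elements of a finite field forces `p = k`.
-/
import Cfsg.Agent.Lib.Helper69.Aut.OutDefs
import Cfsg.Agent.Lib.Helper87.AutComb2
import Cfsg.Agent.S1032

set_option autoImplicit false

namespace Cfsg.Agent.Lib.Helper91.Aut

open Cfsg Cfsg.Lie Cfsg.Agent.Lib.Helper18 Cfsg.Agent.Lib.Helper91.ChevGen Cfsg.Agent.Lib.Helper69.Aut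

universe u

variable {F : Type u} [Field F] {D : ChevalleyDatum}

/-- The element `h_r(t)` of the group, as a product of six root elements. -/
noncomputable def hS (hD : D ∈ [chevG2, chevB2, chevD4, chevF4, chevE6, chevE7, chevE8]) (r : ℕ) (t : F) :
    ↥(D.group F) :=
  xS hD r t * (xS hD (D.neg r) (-t⁻¹) * (xS hD r t *
    (xS hD r (-1) * (xS hD (D.neg r) (-(-1 : F)⁻¹) * xS hD r (-1)))))

theorem coe_hS (hD : D ∈ [chevG2, chevB2, chevD4, chevF4, chevE6, chevE7, chevE8]) (r : ℕ) (t : F) :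
    (((hS hD r t : ↥(D.group F)) : GL D.Idx F) : Matrix D.Idx D.Idx F) = D.hMat F r t := by
  unfold hS ChevalleyDatum.hMat ChevalleyDatum.hWord ChevalleyDatum.nWord ChevalleyDatum.wordMat
  simp only [Subgroup.coe_mul, coe_xS, Units.val_mul, coe_xG, List.cons_append, List.nil_append, List.map_cons,
    List.map_nil, List.prod_cons, List.prod_nil, mul_one]

/-- An automorphism acting by `t ↦ t ^ e` on `X_r` and `X_{-r}` maps `h_r(t)` to `h_{r'}(t ^ e)`. -/
theorem map_hS (hD : D ∈ [chevG2, chevB2, chevD4, chevF4, chevE6, chevE7, chevE8])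
    (φ : ↥(D.group F) ≃* ↥(D.group F)) (r r' : ℕ) (e : ℕ) (he : ∀ t : F, (-t) ^ e = -(t ^ e))
    (hf : ∀ t, φ (xS hD r t) = xS hD r' (t ^ e))
    (hg : ∀ t, φ (xS hD (D.neg r) t) = xS hD (D.neg r') (t ^ e)) (t : F) :
    φ (hS hD r t) = hS hD r' (t ^ e) := by
  unfold hS
  have h1 : (-t⁻¹) ^ e = -(t ^ e)⁻¹ := by rw [he, inv_pow]
  have h2 : (-1 : F) ^ e = -1 := by rw [he, one_pow]
  have h3 : (-(-1 : F)⁻¹) ^ e = -(-1 : F)⁻¹ := by
    rw [inv_neg_one, neg_neg, one_pow]
  simp only [map_mul, hf, hg, h1, h2, h3]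

/-- The torus relation for an automorphism acting by powers on the fundamental root elements. -/
theorem graph_torus (hD : D ∈ [chevG2, chevB2, chevD4, chevF4, chevE6, chevE7, chevE8])
    (φ : ↥(D.group F) ≃* ↥(D.group F)) (i j i' j' : ℕ) (hi : i < D.rank) (hj : j < D.rank)
    (hi' : i' < D.rank) (hj' : j' < D.rank) (e ej : ℕ) (he : ∀ t : F, (-t) ^ e = -(t ^ e))
    (hfi : ∀ t, φ (xS hD (D.simple i) t) = xS hD (D.simple i') (t ^ e))
    (hgi : ∀ t, φ (xS hD (D.neg (D.simple i)) t) = xS hD (D.neg (D.simple i')) (t ^ e))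
    (hfj : ∀ t, φ (xS hD (D.simple j) t) = xS hD (D.simple j') (t ^ ej)) :
    ∀ t : F, t ≠ 0 → (t ^ (D.cartan i (D.simple j))) ^ ej = (t ^ e) ^ (D.cartan i' (D.simple j')) := by
  intro t ht
  obtain ⟨C⟩ := nonempty_chevData.{u} D hD
  have hsj : D.simple j < D.nroots := C.simple_lt j hj
  have hsj' : D.simple j' < D.nroots := C.simple_lt j' hj'
  -- the relation for `(i, j)` in the group
  have r1 : hS hD (D.simple i) t * xS hD (D.simple j) 1
      = xS hD (D.simple j) (t ^ (D.cartan i (D.simple j)) * 1) * hS hD (D.simple i) t := by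
    apply Subtype.ext
    apply Units.ext
    simp only [Subgroup.coe_mul, Units.val_mul, coe_hS, coe_xS, coe_xG]
    exact Cfsg.Agent.S1032.result D hD i (D.simple j) hi hsj t ht 1
  have hte : t ^ e ≠ 0 := pow_ne_zero _ ht
  have r2 : hS hD (D.simple i') (t ^ e) * xS hD (D.simple j') ((1 : F) ^ ej)
      = xS hD (D.simple j') ((t ^ e) ^ (D.cartan i' (D.simple j')) * (1 : F) ^ ej)
        * hS hD (D.simple i') (t ^ e) := by
    apply Subtype.ext
    apply Units.ext
    simp only [Subgroup.coe_mul, Units.val_mul, coe_hS, coe_xS, coe_xG]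
    exact Cfsg.Agent.S1032.result D hD i' (D.simple j') hi' hsj' (t ^ e) hte _
  have r3 := congrArg φ r1
  rw [map_mul, map_mul, map_hS hD φ _ _ e he hfi hgi, hfj, hfj, r2] at r3
  have r4 := mul_right_cancel r3
  have r5 := xS_injective hD _ hsj' r4
  rw [one_pow, mul_one, mul_one] at r5
  exact r5.symm

/-- On a finite field of characteristic `p`, `t ^ p = t ^ k` for all `t ≠ 0` (`k = 2`, or `k = 3` and at least
three elements) forces `p = k`. -/
theorem char_eq_of_pow_eq [Fintype F] (p : ℕ) [Fact p.Prime] [CharP F p] (k : ℕ) (hk : k = 2 ∨ k = 3)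
    (hq : k ≤ Fintype.card F) (h : ∀ t : F, t ≠ 0 → t ^ p = t ^ k) : p = k := by
  classical
  by_contra hne
  obtain ⟨g, hg⟩ := IsCyclic.exists_generator (α := Fˣ)
  have hord : orderOf g = Fintype.card F - 1 := by
    rw [orderOf_eq_card_of_forall_mem_zpowers hg, Nat.card_eq_fintype_card, Fintype.card_units]
  have hgp : g ^ p = g ^ k := by
    apply Units.ext
    rw [Units.val_pow_eq_pow_val, Units.val_pow_eq_pow_val]
    exact h _ g.ne_zero
  have hmod := pow_eq_pow_iff_modEq.mp hgp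
  rw [hord] at hmod
  obtain ⟨n, hp, hn⟩ := FiniteField.card F p
  have hpq : p ≤ Fintype.card F := by
    rw [hn]
    exact Nat.le_self_pow n.ne_zero p
  have hp2 := hp.two_le
  rcases lt_or_gt_of_ne hne with hlt | hgt
  · -- `p < k`
    have hd : (Fintype.card F - 1) ∣ k - p := (Nat.modEq_iff_dvd' hlt.le).mp hmod
    have := Nat.le_of_dvd (by omega) hd
    omega
  · have hd : (Fintype.card F - 1) ∣ p - k := (Nat.modEq_iff_dvd' hgt.le).mp hmod.symm
    have := Nat.le_of_dvd (by omega) hd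
    omega

/-- The identity permutation is realised, by the identity. -/
theorem one_mem_realSym (hD : D ∈ [chevG2, chevB2, chevD4, chevF4, chevE6, chevE7, chevE8]) :
    (1 : Equiv.Perm (Fin D.rank)) ∈ RealSym hD F := by
  refine ⟨MulEquiv.refl _, fun i j _ => rfl, fun i t => ?_⟩
  rw [Equiv.Perm.one_apply, Cfsg.Agent.Lib.Helper87.Aut.graphExp_self, pow_one]
  exact ⟨rfl, rfl⟩

end Cfsg.Agent.Lib.Helper91.Aut
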