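/-
helper91: project OUT (helper69), module OUT-[PI-E6]: the diagram symmetries of `E6` realised by graph automorphisms.
-/
import Cfsg.Agent.Lib.Helper91.OutPiCore
import Cfsg.Agent.S1081

set_option autoImplicit false

namespace Cfsg.Agent.Lib.Helper91.Aut

open Cfsg Cfsg.Lie Cfsg.Agent.Lib.Helper18 Cfsg.Agent.Lib.Helper91.ChevGen Cfsg.Agent.Lib.Helper69.Aut

universe u

variable {F : Type u} [Field F] {D : ChevalleyDatum}

set_option maxRecDepth 100000 in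
set_option synthInstance.maxHeartbeats 2000000 in
set_option synthInstance.maxSize 100000 in
set_option maxHeartbeats 4000000 in
theorem e6_rigid :
    ∀ a0 : Fin 6,
    ∀ a1 : Fin 6, (chevE6.bonds a0.val a1.val = chevE6.bonds 0 1 ∧ a1 ≠ a0) →
    ∀ a2 : Fin 6, (chevE6.bonds a0.val a2.val = chevE6.bonds 0 2 ∧ chevE6.bonds a1.val a2.val = chevE6.bonds 1 2 ∧ a2 ≠ a0 ∧ a2 ≠ a1) →
    ∀ a3 : Fin 6, (chevE6.bonds a0.val a3.val = chevE6.bonds 0 3 ∧ chevE6.bonds a1.val a3.val = chevE6.bonds 1 3 ∧ chevE6.bonds a2.val a3.val = chevE6.bonds 2 3 ∧ a3 ≠ a0 ∧ a3 ≠ a1 ∧ a3 ≠ a2) →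
    ∀ a4 : Fin 6, (chevE6.bonds a0.val a4.val = chevE6.bonds 0 4 ∧ chevE6.bonds a1.val a4.val = chevE6.bonds 1 4 ∧ chevE6.bonds a2.val a4.val = chevE6.bonds 2 4 ∧ chevE6.bonds a3.val a4.val = chevE6.bonds 3 4 ∧ a4 ≠ a0 ∧ a4 ≠ a1 ∧ a4 ≠ a2 ∧ a4 ≠ a3) →
    ∀ a5 : Fin 6, (chevE6.bonds a0.val a5.val = chevE6.bonds 0 5 ∧ chevE6.bonds a1.val a5.val = chevE6.bonds 1 5 ∧ chevE6.bonds a2.val a5.val = chevE6.bonds 2 5 ∧ chevE6.bonds a3.val a5.val = chevE6.bonds 3 5 ∧ chevE6.bonds a4.val a5.val = chevE6.bonds 4 5 ∧ a5 ≠ a0 ∧ a5 ≠ a1 ∧ a5 ≠ a2 ∧ a5 ≠ a3 ∧ a5 ≠ a4) →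
    ((a0 = 0 ∧ a1 = 1 ∧ a2 = 2 ∧ a3 = 3 ∧ a4 = 4 ∧ a5 = 5) ∨ (a0 = 5 ∧ a1 = 1 ∧ a2 = 4 ∧ a3 = 3 ∧ a4 = 2 ∧ a5 = 0)) := by
  decide

theorem e6_hb (π : Equiv.Perm (Fin chevE6.rank)) (h : chevE6.IsDiagramSymmetry π) :
    ∀ i j : Fin chevE6.rank, i ≠ j → chevE6.bonds (π i).val (π j).val = chevE6.bonds i.val j.val ∧ π j ≠ π i :=
  fun i j hij => ⟨h i j hij, fun e => hij (π.injective e).symm⟩

/-- the non-trivial symmetry of the diagram -/
def e6Rho : Equiv.Perm (Fin chevE6.rank) :=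
  Equiv.swap ⟨0, by decide⟩ ⟨5, by decide⟩ * Equiv.swap ⟨2, by decide⟩ ⟨4, by decide⟩

theorem e6Rho_tab : ∀ i : Fin chevE6.rank, ((e6Rho i : Fin chevE6.rank) : ℕ) = [5, 1, 4, 3, 2, 0].getD i.val 0 := by
  decide

theorem e6Rho_ne_one : e6Rho ≠ 1 := by
  decide

theorem e6Rho_symm : chevE6.IsDiagramSymmetry e6Rho := by
  unfold ChevalleyDatum.IsDiagramSymmetry
  decide

theorem e6_symm_cases (π : Equiv.Perm (Fin chevE6.rank)) (h : chevE6.IsDiagramSymmetry π) : π = 1 ∨ π = e6Rho := by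
  have hb := e6_hb π h
  have key := e6_rigid
      (π (⟨0, by decide⟩ : Fin chevE6.rank))
      (π (⟨1, by decide⟩ : Fin chevE6.rank))
      ⟨(hb (⟨0, by decide⟩ : Fin chevE6.rank) (⟨1, by decide⟩ : Fin chevE6.rank) (by decide)).1, (hb (⟨0, by decide⟩ : Fin chevE6.rank) (⟨1, by decide⟩ : Fin chevE6.rank) (by decide)).2⟩
      (π (⟨2, by decide⟩ : Fin chevE6.rank))
      ⟨(hb (⟨0, by decide⟩ : Fin chevE6.rank) (⟨2, by decide⟩ : Fin chevE6.rank) (by decide)).1, (hb (⟨1, by decide⟩ : Fin chevE6.rank) (⟨2, by decide⟩ : Fin chevE6.rank) (by decide)).1, (hb (⟨0, by decide⟩ : Fin chevE6.rank) (⟨2, by decide⟩ : Fin chevE6.rank) (by decide)).2, (hb (⟨1, by decide⟩ : Fin chevE6.rank) (⟨2, by decide⟩ : Fin chevE6.rank) (by decide)).2⟩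
      (π (⟨3, by decide⟩ : Fin chevE6.rank))
      ⟨(hb (⟨0, by decide⟩ : Fin chevE6.rank) (⟨3, by decide⟩ : Fin chevE6.rank) (by decide)).1, (hb (⟨1, by decide⟩ : Fin chevE6.rank) (⟨3, by decide⟩ : Fin chevE6.rank) (by decide)).1, (hb (⟨2, by decide⟩ : Fin chevE6.rank) (⟨3, by decide⟩ : Fin chevE6.rank) (by decide)).1, (hb (⟨0, by decide⟩ : Fin chevE6.rank) (⟨3, by decide⟩ : Fin chevE6.rank) (by decide)).2, (hb (⟨1, by decide⟩ : Fin chevE6.rank) (⟨3, by decide⟩ : Fin chevE6.rank) (by decide)).2, (hb (⟨2, by decide⟩ : Fin chevE6.rank) (⟨3, by decide⟩ : Fin chevE6.rank) (by decide)).2⟩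
      (π (⟨4, by decide⟩ : Fin chevE6.rank))
      ⟨(hb (⟨0, by decide⟩ : Fin chevE6.rank) (⟨4, by decide⟩ : Fin chevE6.rank) (by decide)).1, (hb (⟨1, by decide⟩ : Fin chevE6.rank) (⟨4, by decide⟩ : Fin chevE6.rank) (by decide)).1, (hb (⟨2, by decide⟩ : Fin chevE6.rank) (⟨4, by decide⟩ : Fin chevE6.rank) (by decide)).1, (hb (⟨3, by decide⟩ : Fin chevE6.rank) (⟨4, by decide⟩ : Fin chevE6.rank) (by decide)).1, (hb (⟨0, by decide⟩ : Fin chevE6.rank) (⟨4, by decide⟩ : Fin chevE6.rank) (by decide)).2, (hb (⟨1, by decide⟩ : Fin chevE6.rank) (⟨4, by decide⟩ : Fin chevE6.rank) (by decide)).2, (hb (⟨2, by decide⟩ : Fin chevE6.rank) (⟨4, by decide⟩ : Fin chevE6.rank) (by decide)).2, (hb (⟨3, by decide⟩ : Fin chevE6.rank) (⟨4, by decide⟩ : Fin chevE6.rank) (by decide)).2⟩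
      (π (⟨5, by decide⟩ : Fin chevE6.rank))
      ⟨(hb (⟨0, by decide⟩ : Fin chevE6.rank) (⟨5, by decide⟩ : Fin chevE6.rank) (by decide)).1, (hb (⟨1, by decide⟩ : Fin chevE6.rank) (⟨5, by decide⟩ : Fin chevE6.rank) (by decide)).1, (hb (⟨2, by decide⟩ : Fin chevE6.rank) (⟨5, by decide⟩ : Fin chevE6.rank) (by decide)).1, (hb (⟨3, by decide⟩ : Fin chevE6.rank) (⟨5, by decide⟩ : Fin chevE6.rank) (by decide)).1, (hb (⟨4, by decide⟩ : Fin chevE6.rank) (⟨5, by decide⟩ : Fin chevE6.rank) (by decide)).1, (hb (⟨0, by decide⟩ : Fin chevE6.rank) (⟨5, by decide⟩ : Fin chevE6.rank) (by decide)).2, (hb (⟨1, by decide⟩ : Fin chevE6.rank) (⟨5, by decide⟩ : Fin chevE6.rank) (by decide)).2, (hb (⟨2, by decide⟩ : Fin chevE6.rank) (⟨5, by decide⟩ : Fin chevE6.rank) (by decide)).2, (hb (⟨3, by decide⟩ : Fin chevE6.rank) (⟨5, by decide⟩ : Fin chevE6.rank) (by decide)).2, (hb (⟨4, by decide⟩ : Fin chevE6.rank)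 (⟨5, by decide⟩ : Fin chevE6.rank) (by decide)).2⟩
  rcases key with key | key
  · left
    apply Equiv.ext
    intro i
    rw [Equiv.Perm.one_apply]
    obtain ⟨i, hi⟩ := i
    have hi' : i < 6 := hi
    interval_cases i
    · exact key.1
    · exact key.2.1
    · exact key.2.2.1
    · exact key.2.2.2.1
    · exact key.2.2.2.2.1
    · exact key.2.2.2.2.2
  · right
    apply Equiv.ext
    intro i
    obtain ⟨i, hi⟩ := i
    have hi' : i < 6 := hi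
    interval_cases i
    · exact Fin.ext ((congrArg Fin.val key.1).trans (e6Rho_tab ⟨0, hi⟩).symm)
    · exact Fin.ext ((congrArg Fin.val key.2.1).trans (e6Rho_tab ⟨1, hi⟩).symm)
    · exact Fin.ext ((congrArg Fin.val key.2.2.1).trans (e6Rho_tab ⟨2, hi⟩).symm)
    · exact Fin.ext ((congrArg Fin.val key.2.2.2.1).trans (e6Rho_tab ⟨3, hi⟩).symm)
    · exact Fin.ext ((congrArg Fin.val key.2.2.2.2.1).trans (e6Rho_tab ⟨4, hi⟩).symm)
    · exact Fin.ext ((congrArg Fin.val key.2.2.2.2.2).trans (e6Rho_tab ⟨5, hi⟩).symm)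

theorem e6_not_long : ∀ j : Fin chevE6.rank, chevE6.isLong (chevE6.simple j.val) = false := by
  decide +kernel

/-- the graph automorphism of `E6` realises the symmetry -/
theorem e6Rho_mem_realSym (hD : chevE6 ∈ [chevG2, chevB2, chevD4, chevF4, chevE6, chevE7, chevE8]) :
    e6Rho ∈ RealSym hD F := by
  obtain ⟨α, hα⟩ := Cfsg.Agent.S1081.result (F := F) (chevE6, [5, 1, 4, 3, 2, 0]) (by simp)
  refine ⟨α, e6Rho_symm, fun i t => ?_⟩
  have hg : chevE6.graphExp (ringChar F) i.val (e6Rho i).val = 1 :=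
    Cfsg.Agent.Lib.Helper87.Aut.graphExp_of_not_long _ (e6_not_long (e6Rho i))
  rw [hg, pow_one]
  have h1 := hα (xS hD (chevE6.simple i) t) i.val t i.2
  have h2 := hα (xS hD (chevE6.neg (chevE6.simple i)) t) i.val t i.2
  have e : ([5, 1, 4, 3, 2, 0] : List ℕ).getD i.val 0 = (e6Rho i).val := (e6Rho_tab i).symm
  constructor
  · have := h1.1 (by rw [coe_xS, coe_xG])
    exact eq_xS hD _ _ _ (by rw [this]; show chevE6.x F (chevE6.simple (([5, 1, 4, 3, 2, 0] : List ℕ).getD i.val 0)) t = _; rw [e])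
  · have := h2.2 (by rw [coe_xS, coe_xG])
    exact eq_xS hD _ _ _ (by rw [this]; show chevE6.x F (chevE6.neg (chevE6.simple (([5, 1, 4, 3, 2, 0] : List ℕ).getD i.val 0))) t = _; rw [e])

theorem card_realSym_E6 [Finite F] (hD : chevE6 ∈ [chevG2, chevB2, chevD4, chevF4, chevE6, chevE7, chevE8]) :
    Nat.card ↥(RealSym hD F) = 2 := by
  have hpair : RealSym hD F = {1, e6Rho} := by
    ext π
    rw [Set.mem_insert_iff, Set.mem_singleton_iff]
    constructor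
    · rintro ⟨φ, hφ, -⟩
      exact e6_symm_cases π hφ
    · rintro (rfl | rfl)
      · exact one_mem_realSym hD
      · exact e6Rho_mem_realSym hD
  rw [hpair, Nat.card_coe_set_eq, Set.ncard_pair e6Rho_ne_one.symm]

end Cfsg.Agent.Lib.Helper91.Aut

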