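/-
helper91: project OUT (helper69), module OUT-[PI-E7]: the diagram symmetries of `E7` realised by graph automorphisms.
-/
import Cfsg.Agent.Lib.Helper91.OutPiCore

set_option autoImplicit false

namespace Cfsg.Agent.Lib.Helper91.Aut

open Cfsg Cfsg.Lie Cfsg.Agent.Lib.Helper18 Cfsg.Agent.Lib.Helper91.ChevGen Cfsg.Agent.Lib.Helper69.Aut

universe u

variable {F : Type u} [Field F] {D : ChevalleyDatum}

set_option maxRecDepth 100000 in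
set_option synthInstance.maxHeartbeats 2000000 in
set_option synthInstance.maxSize 100000 in
set_option maxHeartbeats 4000000 in
theorem e7_rigid :
    ∀ a0 : Fin 7,
    ∀ a1 : Fin 7, (chevE7.bonds a0.val a1.val = chevE7.bonds 0 1 ∧ a1 ≠ a0) →
    ∀ a2 : Fin 7, (chevE7.bonds a0.val a2.val = chevE7.bonds 0 2 ∧ chevE7.bonds a1.val a2.val = chevE7.bonds 1 2 ∧ a2 ≠ a0 ∧ a2 ≠ a1) →
    ∀ a3 : Fin 7, (chevE7.bonds a0.val a3.val = chevE7.bonds 0 3 ∧ chevE7.bonds a1.val a3.val = chevE7.bonds 1 3 ∧ chevE7.bonds a2.val a3.val = chevE7.bonds 2 3 ∧ a3 ≠ a0 ∧ a3 ≠ a1 ∧ a3 ≠ a2) →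
    ∀ a4 : Fin 7, (chevE7.bonds a0.val a4.val = chevE7.bonds 0 4 ∧ chevE7.bonds a1.val a4.val = chevE7.bonds 1 4 ∧ chevE7.bonds a2.val a4.val = chevE7.bonds 2 4 ∧ chevE7.bonds a3.val a4.val = chevE7.bonds 3 4 ∧ a4 ≠ a0 ∧ a4 ≠ a1 ∧ a4 ≠ a2 ∧ a4 ≠ a3) →
    ∀ a5 : Fin 7, (chevE7.bonds a0.val a5.val = chevE7.bonds 0 5 ∧ chevE7.bonds a1.val a5.val = chevE7.bonds 1 5 ∧ chevE7.bonds a2.val a5.val = chevE7.bonds 2 5 ∧ chevE7.bonds a3.val a5.val = chevE7.bonds 3 5 ∧ chevE7.bonds a4.val a5.val = chevE7.bonds 4 5 ∧ a5 ≠ a0 ∧ a5 ≠ a1 ∧ a5 ≠ a2 ∧ a5 ≠ a3 ∧ a5 ≠ a4) →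
    ∀ a6 : Fin 7, (chevE7.bonds a0.val a6.val = chevE7.bonds 0 6 ∧ chevE7.bonds a1.val a6.val = chevE7.bonds 1 6 ∧ chevE7.bonds a2.val a6.val = chevE7.bonds 2 6 ∧ chevE7.bonds a3.val a6.val = chevE7.bonds 3 6 ∧ chevE7.bonds a4.val a6.val = chevE7.bonds 4 6 ∧ chevE7.bonds a5.val a6.val = chevE7.bonds 5 6 ∧ a6 ≠ a0 ∧ a6 ≠ a1 ∧ a6 ≠ a2 ∧ a6 ≠ a3 ∧ a6 ≠ a4 ∧ a6 ≠ a5) →
    (a0 = 0 ∧ a1 = 1 ∧ a2 = 2 ∧ a3 = 3 ∧ a4 = 4 ∧ a5 = 5 ∧ a6 = 6) := by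
  decide

theorem e7_hb (π : Equiv.Perm (Fin chevE7.rank)) (h : chevE7.IsDiagramSymmetry π) :
    ∀ i j : Fin chevE7.rank, i ≠ j → chevE7.bonds (π i).val (π j).val = chevE7.bonds i.val j.val ∧ π j ≠ π i :=
  fun i j hij => ⟨h i j hij, fun e => hij (π.injective e).symm⟩

theorem e7_symm_eq_one (π : Equiv.Perm (Fin chevE7.rank)) (h : chevE7.IsDiagramSymmetry π) : π = 1 := by
  have hb := e7_hb π h
  have key := e7_rigid
      (π (⟨0, by decide⟩ : Fin chevE7.rank))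
      (π (⟨1, by decide⟩ : Fin chevE7.rank))
      ⟨(hb (⟨0, by decide⟩ : Fin chevE7.rank) (⟨1, by decide⟩ : Fin chevE7.rank) (by decide)).1, (hb (⟨0, by decide⟩ : Fin chevE7.rank) (⟨1, by decide⟩ : Fin chevE7.rank) (by decide)).2⟩
      (π (⟨2, by decide⟩ : Fin chevE7.rank))
      ⟨(hb (⟨0, by decide⟩ : Fin chevE7.rank) (⟨2, by decide⟩ : Fin chevE7.rank) (by decide)).1, (hb (⟨1, by decide⟩ : Fin chevE7.rank) (⟨2, by decide⟩ : Fin chevE7.rank) (by decide)).1, (hb (⟨0, by decide⟩ : Fin chevE7.rank) (⟨2, by decide⟩ : Fin chevE7.rank) (by decide)).2, (hb (⟨1, by decide⟩ : Fin chevE7.rank) (⟨2, by decide⟩ : Fin chevE7.rank) (by decide)).2⟩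
      (π (⟨3, by decide⟩ : Fin chevE7.rank))
      ⟨(hb (⟨0, by decide⟩ : Fin chevE7.rank) (⟨3, by decide⟩ : Fin chevE7.rank) (by decide)).1, (hb (⟨1, by decide⟩ : Fin chevE7.rank) (⟨3, by decide⟩ : Fin chevE7.rank) (by decide)).1, (hb (⟨2, by decide⟩ : Fin chevE7.rank) (⟨3, by decide⟩ : Fin chevE7.rank) (by decide)).1, (hb (⟨0, by decide⟩ : Fin chevE7.rank) (⟨3, by decide⟩ : Fin chevE7.rank) (by decide)).2, (hb (⟨1, by decide⟩ : Fin chevE7.rank) (⟨3, by decide⟩ : Fin chevE7.rank) (by decide)).2, (hb (⟨2, by decide⟩ : Fin chevE7.rank) (⟨3, by decide⟩ : Fin chevE7.rank) (by decide)).2⟩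
      (π (⟨4, by decide⟩ : Fin chevE7.rank))
      ⟨(hb (⟨0, by decide⟩ : Fin chevE7.rank) (⟨4, by decide⟩ : Fin chevE7.rank) (by decide)).1, (hb (⟨1, by decide⟩ : Fin chevE7.rank) (⟨4, by decide⟩ : Fin chevE7.rank) (by decide)).1, (hb (⟨2, by decide⟩ : Fin chevE7.rank) (⟨4, by decide⟩ : Fin chevE7.rank) (by decide)).1, (hb (⟨3, by decide⟩ : Fin chevE7.rank) (⟨4, by decide⟩ : Fin chevE7.rank) (by decide)).1, (hb (⟨0, by decide⟩ : Fin chevE7.rank) (⟨4, by decide⟩ : Fin chevE7.rank) (by decide)).2, (hb (⟨1, by decide⟩ : Fin chevE7.rank) (⟨4, by decide⟩ : Fin chevE7.rank) (by decide)).2, (hb (⟨2, by decide⟩ : Fin chevE7.rank) (⟨4, by decide⟩ : Fin chevE7.rank) (by decide)).2, (hb (⟨3, by decide⟩ : Fin chevE7.rank) (⟨4, by decide⟩ : Fin chevE7.rank) (by decide)).2⟩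
      (π (⟨5, by decide⟩ : Fin chevE7.rank))
      ⟨(hb (⟨0, by decide⟩ : Fin chevE7.rank) (⟨5, by decide⟩ : Fin chevE7.rank) (by decide)).1, (hb (⟨1, by decide⟩ : Fin chevE7.rank) (⟨5, by decide⟩ : Fin chevE7.rank) (by decide)).1, (hb (⟨2, by decide⟩ : Fin chevE7.rank) (⟨5, by decide⟩ : Fin chevE7.rank) (by decide)).1, (hb (⟨3, by decide⟩ : Fin chevE7.rank) (⟨5, by decide⟩ : Fin chevE7.rank) (by decide)).1, (hb (⟨4, by decide⟩ : Fin chevE7.rank) (⟨5, by decide⟩ : Fin chevE7.rank) (by decide)).1, (hb (⟨0, by decide⟩ : Fin chevE7.rank) (⟨5, by decide⟩ : Fin chevE7.rank) (by decide)).2, (hb (⟨1, by decide⟩ : Fin chevE7.rank) (⟨5, by decide⟩ : Fin chevE7.rank) (by decide)).2, (hb (⟨2, by decide⟩ : Fin chevE7.rank) (⟨5, by decide⟩ : Fin chevE7.rank) (by decide)).2, (hb (⟨3, by decide⟩ : Fin chevE7.rank) (⟨5, by decide⟩ : Fin chevE7.rank) (by decide)).2, (hb (⟨4, by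 decide⟩ : Fin chevE7.rank) (⟨5, by decide⟩ : Fin chevE7.rank) (by decide)).2⟩
      (π (⟨6, by decide⟩ : Fin chevE7.rank))
      ⟨(hb (⟨0, by decide⟩ : Fin chevE7.rank) (⟨6, by decide⟩ : Fin chevE7.rank) (by decide)).1, (hb (⟨1, by decide⟩ : Fin chevE7.rank) (⟨6, by decide⟩ : Fin chevE7.rank) (by decide)).1, (hb (⟨2, by decide⟩ : Fin chevE7.rank) (⟨6, by decide⟩ : Fin chevE7.rank) (by decide)).1, (hb (⟨3, by decide⟩ : Fin chevE7.rank) (⟨6, by decide⟩ : Fin chevE7.rank) (by decide)).1, (hb (⟨4, by decide⟩ : Fin chevE7.rank) (⟨6, by decide⟩ : Fin chevE7.rank) (by decide)).1, (hb (⟨5, by decide⟩ : Fin chevE7.rank) (⟨6, by decide⟩ : Fin chevE7.rank) (by decide)).1, (hb (⟨0, by decide⟩ : Fin chevE7.rank) (⟨6, by decide⟩ : Fin chevE7.rank) (by decide)).2, (hb (⟨1, by decide⟩ : Fin chevE7.rank) (⟨6, by decide⟩ : Fin chevE7.rank) (by decide)).2, (hb (⟨2, by decide⟩ :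 Fin chevE7.rank) (⟨6, by decide⟩ : Fin chevE7.rank) (by decide)).2, (hb (⟨3, by decide⟩ : Fin chevE7.rank) (⟨6, by decide⟩ : Fin chevE7.rank) (by decide)).2, (hb (⟨4, by decide⟩ : Fin chevE7.rank) (⟨6, by decide⟩ : Fin chevE7.rank) (by decide)).2, (hb (⟨5, by decide⟩ : Fin chevE7.rank) (⟨6, by decide⟩ : Fin chevE7.rank) (by decide)).2⟩
  apply Equiv.ext
  intro i
  rw [Equiv.Perm.one_apply]
  obtain ⟨i, hi⟩ := i
  have hi' : i < 7 := hi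
  interval_cases i
  · exact key.1
  · exact key.2.1
  · exact key.2.2.1
  · exact key.2.2.2.1
  · exact key.2.2.2.2.1
  · exact key.2.2.2.2.2.1
  · exact key.2.2.2.2.2.2

theorem card_realSym_E7 [Finite F] (hD : chevE7 ∈ [chevG2, chevB2, chevD4, chevF4, chevE6, chevE7, chevE8]) :
    Nat.card ↥(RealSym hD F) = 1 := by
  have hone : RealSym hD F = {1} := by
    ext π
    rw [Set.mem_singleton_iff]
    constructor
    · rintro ⟨φ, hφ, -⟩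
      exact e7_symm_eq_one π hφ
    · rintro rfl
      exact one_mem_realSym hD
  rw [hone, Nat.card_coe_set_eq, Set.ncard_singleton]

end Cfsg.Agent.Lib.Helper91.Aut

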