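/-
helper91: facts on the exceptional graph automorphisms `α` of `G₂(K)` (characteristic 3) and `F₄(K)` (characteristic 2),
`K` finite: `α² =` the Frobenius field automorphism, `α` commutes with the field automorphisms, `α` is a graph
automorphism in the sense of `ChevalleyDatum.IsGraphAut`.
-/
import Cfsg.Agent.Lib.Helper91.ReeSig
import Cfsg.Agent.Lib.Helper91.F4Sig
import Cfsg.Prelude.Def_ChevAutomorphisms

set_option autoImplicit false

namespace Cfsg.Agent.Lib.Helper91.Ree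

open Cfsg.Lie Cfsg.Agent.Lib.Helper18 Cfsg.Agent.Lib.Helper91.ChevGen
open Cfsg.Agent.S1099 (hD2)

universe u

/-- The field automorphism on a root element. -/
theorem glMapG_xG {F : Type u} [Field F] {D : ChevalleyDatum}
    (hD : D ∈ [chevG2, chevB2, chevD4, chevF4, chevE6, chevE7, chevE8]) (φ : F ≃+* F) (r : ℕ) (t : F)
    (h1 : xG hD r t ∈ D.group F) (h2 : xG hD r (φ t) ∈ D.group F) :
    glMapG D φ ⟨xG hD r t, h1⟩ = ⟨xG hD r (φ t), h2⟩ := by
  apply Subtype.ext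
  rw [glMapG_coe, glMap_xG' hD]

section G2

variable (K : Type u) [Field K] [Fintype K] [CharP K 3]

/-- `α² = ` Frobenius, on root elements. -/
theorem g2Alpha_g2Alpha_xG (r : ℕ) (hr : r < 12) (t : K) :
    g2Alpha K (g2Alpha K ⟨xG hD2 r t, xG_mem r hr t⟩) = ⟨xG hD2 r (t ^ 3), xG_mem r hr _⟩ := by
  rw [g2Alpha_xG K r hr, g2Alpha_xG K _ (g2rho_lt r hr)]
  apply Subtype.ext
  show xG hD2 (g2rho (g2rho r)) ((t ^ g2lam r) ^ g2lam (g2rho r)) = xG hD2 r (t ^ 3)
  rw [g2rho_g2rho r hr, ← pow_mul, g2lam_mul r hr]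

theorem simple_lt2 (i : ℕ) (hi : i < chevG2.rank) : chevG2.simple i < 12 := chevData_G2.{0}.simple_lt i hi

theorem neg_simple_lt2 (i : ℕ) (hi : i < chevG2.rank) : chevG2.neg (chevG2.simple i) < 12 :=
  neg_lt_nroots chevG2 hD2 _ (simple_lt2 i hi)

/-- `α² = ` the Frobenius field automorphism. -/
theorem g2Alpha_g2Alpha (g : ↥(chevG2.group K)) :
    g2Alpha K (g2Alpha K g) = glMapG chevG2 (frobeniusEquiv K 3) g := by
  have h := hom_ext_fund (F := K) hD2
    (((g2Alpha K).trans (g2Alpha K)).toMonoidHom) ((glMapG chevG2 (frobeniusEquiv K 3)).toMonoidHom) (by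
      intro y i t hi hy
      show g2Alpha K (g2Alpha K y) = glMapG chevG2 (frobeniusEquiv K 3) y
      rcases hy with hy | hy
      · have e : y = ⟨xG hD2 _ t, xG_mem _ (simple_lt2 i hi) t⟩ := Subtype.ext (eq_xG hD2 _ _ t hy)
        rw [e, g2Alpha_g2Alpha_xG K _ (simple_lt2 i hi), glMapG_xG hD2 _ _ _ _ (xG_mem _ (simple_lt2 i hi) _)]
        rfl
      · have e : y = ⟨xG hD2 _ t, xG_mem _ (neg_simple_lt2 i hi) t⟩ := Subtype.ext (eq_xG hD2 _ _ t hy)
        rw [e, g2Alpha_g2Alpha_xG K _ (neg_simple_lt2 i hi),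
          glMapG_xG hD2 _ _ _ _ (xG_mem _ (neg_simple_lt2 i hi) _)]
        rfl)
  exact congrFun (congrArg DFunLike.coe h) g

/-- `α` commutes with the field automorphisms. -/
theorem g2Alpha_glMapG (φ : K ≃+* K) (g : ↥(chevG2.group K)) :
    g2Alpha K (glMapG chevG2 φ g) = glMapG chevG2 φ (g2Alpha K g) := by
  have hroot : ∀ (r : ℕ) (hr : r < 12) (t : K),
      g2Alpha K (glMapG chevG2 φ ⟨xG hD2 r t, xG_mem r hr t⟩)
        = glMapG chevG2 φ (g2Alpha K ⟨xG hD2 r t, xG_mem r hr t⟩) := by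
    intro r hr t
    rw [glMapG_xG hD2 φ r t _ (xG_mem r hr _), g2Alpha_xG K r hr, g2Alpha_xG K r hr,
      glMapG_xG hD2 φ _ _ _ (xG_mem _ (g2rho_lt r hr) _)]
    apply Subtype.ext
    show xG hD2 (g2rho r) ((φ t) ^ g2lam r) = xG hD2 (g2rho r) (φ (t ^ g2lam r))
    rw [map_pow]
  have h := hom_ext_fund (F := K) hD2
    (((glMapG chevG2 φ).trans (g2Alpha K)).toMonoidHom) (((g2Alpha K).trans (glMapG chevG2 φ)).toMonoidHom) (by
      intro y i t hi hy
      show g2Alpha K (glMapG chevG2 φ y) = glMapG chevG2 φ (g2Alpha K y)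
      rcases hy with hy | hy
      · have e : y = ⟨xG hD2 _ t, xG_mem _ (simple_lt2 i hi) t⟩ := Subtype.ext (eq_xG hD2 _ _ t hy)
        rw [e]; exact hroot _ (simple_lt2 i hi) t
      · have e : y = ⟨xG hD2 _ t, xG_mem _ (neg_simple_lt2 i hi) t⟩ := Subtype.ext (eq_xG hD2 _ _ t hy)
        rw [e]; exact hroot _ (neg_simple_lt2 i hi) t)
  exact congrFun (congrArg DFunLike.coe h) g

theorem g2_symm : chevG2.IsDiagramSymmetry (Equiv.swap (⟨0, by decide⟩ : Fin chevG2.rank) ⟨1, by decide⟩) := by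
  intro i j hij
  revert i j
  decide

theorem g2_tab : ∀ i : Fin chevG2.rank,
    g2rho (chevG2.simple i) = chevG2.simple (Equiv.swap (⟨0, by decide⟩ : Fin chevG2.rank) ⟨1, by decide⟩ i) ∧
    g2lam (chevG2.simple i)
      = chevG2.graphExp 3 i (Equiv.swap (⟨0, by decide⟩ : Fin chevG2.rank) ⟨1, by decide⟩ i) ∧
    g2rho (chevG2.neg (chevG2.simple i))
      = chevG2.neg (chevG2.simple (Equiv.swap (⟨0, by decide⟩ : Fin chevG2.rank) ⟨1, by decide⟩ i)) ∧
    g2lam (chevG2.neg (chevG2.simple i))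
      = chevG2.graphExp 3 i (Equiv.swap (⟨0, by decide⟩ : Fin chevG2.rank) ⟨1, by decide⟩ i) := by
  decide

/-- `α` is a graph automorphism for the non-trivial symmetry of the diagram. -/
theorem g2Alpha_isGraphAut : chevG2.IsGraphAut (g2Alpha K) := by
  refine ⟨Equiv.swap (⟨0, by decide⟩ : Fin chevG2.rank) ⟨1, by decide⟩, g2_symm, ?_⟩
  have hc : ringChar K = 3 := ringChar.eq K 3
  intro g i t
  rw [hc]
  have hi := i.2
  constructor
  · intro hg
    have e : g = ⟨xG hD2 _ t, xG_mem _ (simple_lt2 i hi) t⟩ := Subtype.ext (eq_xG hD2 _ _ t hg)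
    rw [e, g2Alpha_xG K _ (simple_lt2 i hi)]
    show ((xG hD2 (g2rho (chevG2.simple i)) (t ^ g2lam (chevG2.simple i)) : GL chevG2.Idx K) :
      Matrix chevG2.Idx chevG2.Idx K) = _
    rw [coe_xG, (g2_tab i).1, (g2_tab i).2.1]
  · intro hg
    have e : g = ⟨xG hD2 _ t, xG_mem _ (neg_simple_lt2 i hi) t⟩ := Subtype.ext (eq_xG hD2 _ _ t hg)
    rw [e, g2Alpha_xG K _ (neg_simple_lt2 i hi)]
    show ((xG hD2 (g2rho (chevG2.neg (chevG2.simple i))) (t ^ g2lam (chevG2.neg (chevG2.simple i))) :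
      GL chevG2.Idx K) : Matrix chevG2.Idx chevG2.Idx K) = _
    rw [coe_xG, (g2_tab i).2.2.1, (g2_tab i).2.2.2]

end G2

end Cfsg.Agent.Lib.Helper91.Ree

namespace Cfsg.Agent.Lib.Helper91.ReeF4

open Cfsg.Lie Cfsg.Agent.Lib.Helper18 Cfsg.Agent.Lib.Helper91.ChevGen
open Cfsg.Agent.Lib.Helper91.Ree (glMapG glMapG_coe glMap_xG' glMapG_xG)

universe u

section F4

variable (K : Type u) [Field K] [Fintype K] [CharP K 2]

/-- `α² = ` Frobenius, on root elements. -/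
theorem f4Alpha_f4Alpha_xG (r : ℕ) (hr : r < 48) (t : K) :
    f4Alpha K (f4Alpha K ⟨xG hD4 r t, xG_mem r hr t⟩) = ⟨xG hD4 r (t ^ 2), xG_mem r hr _⟩ := by
  rw [f4Alpha_xG K r hr, f4Alpha_xG K _ (f4rho_lt r hr)]
  apply Subtype.ext
  show xG hD4 (f4rho (f4rho r)) ((t ^ f4lam r) ^ f4lam (f4rho r)) = xG hD4 r (t ^ 2)
  rw [f4rho_f4rho r hr, ← pow_mul, f4lam_mul r hr]

theorem simple_lt4 (i : ℕ) (hi : i < chevF4.rank) : chevF4.simple i < 48 := chevData_F4.{0}.simple_lt i hi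

theorem neg_simple_lt4 (i : ℕ) (hi : i < chevF4.rank) : chevF4.neg (chevF4.simple i) < 48 :=
  neg_lt_nroots chevF4 hD4 _ (simple_lt4 i hi)

/-- `α² = ` the Frobenius field automorphism. -/
theorem f4Alpha_f4Alpha (g : ↥(chevF4.group K)) :
    f4Alpha K (f4Alpha K g) = glMapG chevF4 (frobeniusEquiv K 2) g := by
  have h := hom_ext_fund (F := K) hD4
    (((f4Alpha K).trans (f4Alpha K)).toMonoidHom) ((glMapG chevF4 (frobeniusEquiv K 2)).toMonoidHom) (by
      intro y i t hi hy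
      show f4Alpha K (f4Alpha K y) = glMapG chevF4 (frobeniusEquiv K 2) y
      rcases hy with hy | hy
      · have e : y = ⟨xG hD4 _ t, xG_mem _ (simple_lt4 i hi) t⟩ := Subtype.ext (eq_xG hD4 _ _ t hy)
        rw [e, f4Alpha_f4Alpha_xG K _ (simple_lt4 i hi), glMapG_xG hD4 _ _ _ _ (xG_mem _ (simple_lt4 i hi) _)]
        rfl
      · have e : y = ⟨xG hD4 _ t, xG_mem _ (neg_simple_lt4 i hi) t⟩ := Subtype.ext (eq_xG hD4 _ _ t hy)
        rw [e, f4Alpha_f4Alpha_xG K _ (neg_simple_lt4 i hi),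
          glMapG_xG hD4 _ _ _ _ (xG_mem _ (neg_simple_lt4 i hi) _)]
        rfl)
  exact congrFun (congrArg DFunLike.coe h) g

/-- `α` commutes with the field automorphisms. -/
theorem f4Alpha_glMapG (φ : K ≃+* K) (g : ↥(chevF4.group K)) :
    f4Alpha K (glMapG chevF4 φ g) = glMapG chevF4 φ (f4Alpha K g) := by
  have hroot : ∀ (r : ℕ) (hr : r < 48) (t : K),
      f4Alpha K (glMapG chevF4 φ ⟨xG hD4 r t, xG_mem r hr t⟩)
        = glMapG chevF4 φ (f4Alpha K ⟨xG hD4 r t, xG_mem r hr t⟩) := by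
    intro r hr t
    rw [glMapG_xG hD4 φ r t _ (xG_mem r hr _), f4Alpha_xG K r hr, f4Alpha_xG K r hr,
      glMapG_xG hD4 φ _ _ _ (xG_mem _ (f4rho_lt r hr) _)]
    apply Subtype.ext
    show xG hD4 (f4rho r) ((φ t) ^ f4lam r) = xG hD4 (f4rho r) (φ (t ^ f4lam r))
    rw [map_pow]
  have h := hom_ext_fund (F := K) hD4
    (((glMapG chevF4 φ).trans (f4Alpha K)).toMonoidHom) (((f4Alpha K).trans (glMapG chevF4 φ)).toMonoidHom) (by
      intro y i t hi hy
      show f4Alpha K (glMapG chevF4 φ y) = glMapG chevF4 φ (f4Alpha K y)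
      rcases hy with hy | hy
      · have e : y = ⟨xG hD4 _ t, xG_mem _ (simple_lt4 i hi) t⟩ := Subtype.ext (eq_xG hD4 _ _ t hy)
        rw [e]; exact hroot _ (simple_lt4 i hi) t
      · have e : y = ⟨xG hD4 _ t, xG_mem _ (neg_simple_lt4 i hi) t⟩ := Subtype.ext (eq_xG hD4 _ _ t hy)
        rw [e]; exact hroot _ (neg_simple_lt4 i hi) t)
  exact congrFun (congrArg DFunLike.coe h) g

theorem f4_symm : chevF4.IsDiagramSymmetry ((Fin.revPerm : Equiv.Perm (Fin chevF4.rank))) := by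
  intro i j hij
  revert i j
  decide

theorem f4_tab : ∀ i : Fin chevF4.rank,
    f4rho (chevF4.simple i) = chevF4.simple ((Fin.revPerm : Equiv.Perm (Fin chevF4.rank)) i) ∧
    f4lam (chevF4.simple i)
      = chevF4.graphExp 2 i ((Fin.revPerm : Equiv.Perm (Fin chevF4.rank)) i) ∧
    f4rho (chevF4.neg (chevF4.simple i))
      = chevF4.neg (chevF4.simple ((Fin.revPerm : Equiv.Perm (Fin chevF4.rank)) i)) ∧
    f4lam (chevF4.neg (chevF4.simple i))
      = chevF4.graphExp 2 i ((Fin.revPerm : Equiv.Perm (Fin chevF4.rank)) i) := by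
  decide

/-- `α` is a graph automorphism for the non-trivial symmetry of the diagram. -/
theorem f4Alpha_isGraphAut : chevF4.IsGraphAut (f4Alpha K) := by
  refine ⟨(Fin.revPerm : Equiv.Perm (Fin chevF4.rank)), f4_symm, ?_⟩
  have hc : ringChar K = 2 := ringChar.eq K 2
  intro g i t
  rw [hc]
  have hi := i.2
  constructor
  · intro hg
    have e : g = ⟨xG hD4 _ t, xG_mem _ (simple_lt4 i hi) t⟩ := Subtype.ext (eq_xG hD4 _ _ t hg)
    rw [e, f4Alpha_xG K _ (simple_lt4 i hi)]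
    show ((xG hD4 (f4rho (chevF4.simple i)) (t ^ f4lam (chevF4.simple i)) : GL chevF4.Idx K) :
      Matrix chevF4.Idx chevF4.Idx K) = _
    rw [coe_xG, (f4_tab i).1, (f4_tab i).2.1]
  · intro hg
    have e : g = ⟨xG hD4 _ t, xG_mem _ (neg_simple_lt4 i hi) t⟩ := Subtype.ext (eq_xG hD4 _ _ t hg)
    rw [e, f4Alpha_xG K _ (neg_simple_lt4 i hi)]
    show ((xG hD4 (f4rho (chevF4.neg (chevF4.simple i))) (t ^ f4lam (chevF4.neg (chevF4.simple i))) :
      GL chevF4.Idx K) : Matrix chevF4.Idx chevF4.Idx K) = _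
    rw [coe_xG, (f4_tab i).2.2.1, (f4_tab i).2.2.2]

end F4

end Cfsg.Agent.Lib.Helper91.ReeF4
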