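/-
helper91: project OUT (helper69), module OUT-[PI-F4]: the diagram symmetries of `F4` realised by graph
automorphisms over a finite field: both in characteristic 2, only the identity otherwise.
-/
import Cfsg.Agent.Lib.Helper91.OutPiCore
import Cfsg.Agent.Lib.Helper91.GraphAutFacts

set_option autoImplicit false

namespace Cfsg.Agent.Lib.Helper91.Aut

open Cfsg Cfsg.Lie Cfsg.Agent.Lib.Helper18 Cfsg.Agent.Lib.Helper91.ChevGen Cfsg.Agent.Lib.Helper69.Aut

universe u

variable {F : Type u} [Field F] {D : ChevalleyDatum}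

/-- The non-trivial symmetry of the diagram. -/
def f4Rev : Equiv.Perm (Fin chevF4.rank) := Fin.revPerm

set_option maxRecDepth 100000 in
theorem f4_perm_cases : ∀ π : Equiv.Perm (Fin chevF4.rank), chevF4.IsDiagramSymmetry π → π = 1 ∨ π = f4Rev := by
  unfold ChevalleyDatum.IsDiagramSymmetry
  decide

/-- In characteristic 2 the exceptional graph automorphism realises the reversal. -/
theorem f4Rev_mem_realSym [Fintype F] [CharP F 2]
    (hD : chevF4 ∈ [chevG2, chevB2, chevD4, chevF4, chevE6, chevE7, chevE8]) :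
    f4Rev ∈ RealSym hD F := by
  refine ⟨Cfsg.Agent.Lib.Helper91.ReeF4.f4Alpha F, Cfsg.Agent.Lib.Helper91.ReeF4.f4_symm, fun i t => ?_⟩
  have hc : ringChar F = 2 := ringChar.eq F 2
  rw [hc]
  have hi := i.2
  have tab := Cfsg.Agent.Lib.Helper91.ReeF4.f4_tab i
  constructor
  · have := Cfsg.Agent.Lib.Helper91.ReeF4.f4Alpha_xG F _ (Cfsg.Agent.Lib.Helper91.ReeF4.simple_lt4 i hi) t
    refine this.trans (Subtype.ext ?_)
    show xG hD (Cfsg.Agent.Lib.Helper91.ReeF4.f4rho (chevF4.simple i))
      (t ^ Cfsg.Agent.Lib.Helper91.ReeF4.f4lam (chevF4.simple i)) = xG hD _ _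
    rw [tab.1, tab.2.1]
    rfl
  · have := Cfsg.Agent.Lib.Helper91.ReeF4.f4Alpha_xG F _ (Cfsg.Agent.Lib.Helper91.ReeF4.neg_simple_lt4 i hi) t
    refine this.trans (Subtype.ext ?_)
    show xG hD (Cfsg.Agent.Lib.Helper91.ReeF4.f4rho (chevF4.neg (chevF4.simple i)))
      (t ^ Cfsg.Agent.Lib.Helper91.ReeF4.f4lam (chevF4.neg (chevF4.simple i))) = xG hD _ _
    rw [tab.2.2.1, tab.2.2.2]
    rfl

theorem f4_exp_tab : (∀ c, chevF4.graphExp c 2 1 = 1) ∧ (∀ c, chevF4.graphExp c 1 2 = c) ∧
    chevF4.cartan 2 (chevF4.simple 1) = -1 ∧ chevF4.cartan 1 (chevF4.simple 2) = -2 := by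
  refine ⟨fun c => ?_, fun c => ?_, by decide, by decide⟩
  · exact Cfsg.Agent.Lib.Helper87.Aut.graphExp_of_not_long c (by decide)
  · exact Cfsg.Agent.Lib.Helper87.Aut.graphExp_of_long c (by decide) (by decide)

/-- Outside characteristic 2 the reversal is not realised. -/
theorem f4Rev_not_mem_realSym [Fintype F] (p : ℕ) [Fact p.Prime] [CharP F p]
    (hp : p ≠ 2) (hD : chevF4 ∈ [chevG2, chevB2, chevD4, chevF4, chevE6, chevE7, chevE8]) :
    f4Rev ∉ RealSym hD F := by
  rintro ⟨φ, -, h⟩
  have hc : ringChar F = p := ringChar.eq F p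
  have h1 := h ⟨1, by decide⟩
  have h2 := h ⟨2, by decide⟩
  have e1 : f4Rev ⟨1, by decide⟩ = ⟨2, by decide⟩ := by decide
  have e2 : f4Rev ⟨2, by decide⟩ = ⟨1, by decide⟩ := by decide
  rw [e1] at h1
  rw [e2] at h2
  have g21 : chevF4.graphExp (ringChar F) 2 1 = 1 := f4_exp_tab.1 _
  have g12 : chevF4.graphExp (ringChar F) 1 2 = p := by rw [f4_exp_tab.2.1, hc]
  have key := graph_torus hD φ 2 1 1 2 (by decide) (by decide) (by decide) (by decide) 1 p
    (fun t => by rw [pow_one, pow_one])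
    (fun t => by have := (h2 t).1; rw [g21] at this; exact this)
    (fun t => by have := (h2 t).2; rw [g21] at this; exact this)
    (fun t => by have := (h1 t).1; rw [g12] at this; exact this)
  rw [f4_exp_tab.2.2.1, f4_exp_tab.2.2.2] at key
  apply hp
  have hq : 2 ≤ Fintype.card F := Fintype.one_lt_card
  apply char_eq_of_pow_eq (F := F) p 2 (Or.inl rfl) hq
  intro t ht
  have := key t ht
  rw [pow_one, zpow_neg, zpow_one, inv_pow] at this
  have h3 : (t ^ (-2 : ℤ)) = (t ^ 2)⁻¹ := by
    rw [zpow_neg]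
    norm_cast
  rw [h3] at this
  exact inv_injective this

theorem card_realSym_F4 [Fintype F] (p : ℕ) [Fact p.Prime] [CharP F p]
    (hD : chevF4 ∈ [chevG2, chevB2, chevD4, chevF4, chevE6, chevE7, chevE8]) :
    Nat.card ↥(RealSym hD F) = Nat.gcd 2 p := by
  have hrev : f4Rev ≠ 1 := by decide
  by_cases hp : p = 2
  · subst hp
    have hpair : RealSym hD F = {1, f4Rev} := by
      ext π
      rw [Set.mem_insert_iff, Set.mem_singleton_iff]
      constructor
      · rintro ⟨φ, hφ, -⟩
        exact f4_perm_cases π hφ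
      · rintro (rfl | rfl)
        · exact one_mem_realSym hD
        · exact f4Rev_mem_realSym hD
    rw [hpair, Nat.card_coe_set_eq, Set.ncard_pair hrev.symm, Nat.gcd_self]
  · have hone : RealSym hD F = {1} := by
      ext π
      rw [Set.mem_singleton_iff]
      constructor
      · intro hπ
        obtain ⟨φ, hφ, -⟩ := id hπ
        rcases f4_perm_cases π hφ with rfl | rfl
        · rfl
        · exact absurd hπ (f4Rev_not_mem_realSym p hp hD)
      · rintro rfl
        exact one_mem_realSym hD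
    rw [hone, Nat.card_coe_set_eq, Set.ncard_singleton]
    have hpp : p.Prime := Fact.out
    have hcop : Nat.Coprime 2 p := (Nat.coprime_primes Nat.prime_two hpp).mpr (Ne.symm hp)
    exact (Nat.Coprime.gcd_eq_one hcop).symm
end Cfsg.Agent.Lib.Helper91.Aut
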