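/-
helper91: project OUT (helper69), module OUT-[PI-G2]: the diagram symmetries of `G2` realised by graph
automorphisms over a finite field with at least three elements: both in characteristic 3, only the identity
otherwise.
-/
import Cfsg.Agent.Lib.Helper91.OutPiCore
import Cfsg.Agent.Lib.Helper91.GraphAutFacts

set_option autoImplicit false

namespace Cfsg.Agent.Lib.Helper91.Aut

open Cfsg Cfsg.Lie Cfsg.Agent.Lib.Helper18 Cfsg.Agent.Lib.Helper91.ChevGen Cfsg.Agent.Lib.Helper69.Aut

universe u

variable {F : Type u} [Field F] {D : ChevalleyDatum}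

/-- The non-trivial permutation of the two nodes. -/
def g2Swap : Equiv.Perm (Fin chevG2.rank) := Equiv.swap ⟨0, by decide⟩ ⟨1, by decide⟩

theorem g2_perm_cases : ∀ π : Equiv.Perm (Fin chevG2.rank), π = 1 ∨ π = g2Swap := by
  decide

theorem g2Swap_ne_one : g2Swap ≠ 1 := by
  decide

/-- In characteristic 3 the exceptional graph automorphism realises the swap. -/
theorem g2Swap_mem_realSym [Fintype F] [CharP F 3]
    (hD : chevG2 ∈ [chevG2, chevB2, chevD4, chevF4, chevE6, chevE7, chevE8]) :
    g2Swap ∈ RealSym hD F := by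
  refine ⟨Cfsg.Agent.Lib.Helper91.Ree.g2Alpha F, Cfsg.Agent.Lib.Helper91.Ree.g2_symm, fun i t => ?_⟩
  have hc : ringChar F = 3 := ringChar.eq F 3
  rw [hc]
  have hi := i.2
  have tab := Cfsg.Agent.Lib.Helper91.Ree.g2_tab i
  constructor
  · have := Cfsg.Agent.Lib.Helper91.Ree.g2Alpha_xG F _ (Cfsg.Agent.Lib.Helper91.Ree.simple_lt2 i hi) t
    refine this.trans (Subtype.ext ?_)
    show xG hD (Cfsg.Agent.Lib.Helper91.Ree.g2rho (chevG2.simple i))
      (t ^ Cfsg.Agent.Lib.Helper91.Ree.g2lam (chevG2.simple i)) = xG hD _ _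
    rw [tab.1, tab.2.1]
    rfl
  · have := Cfsg.Agent.Lib.Helper91.Ree.g2Alpha_xG F _ (Cfsg.Agent.Lib.Helper91.Ree.neg_simple_lt2 i hi) t
    refine this.trans (Subtype.ext ?_)
    show xG hD (Cfsg.Agent.Lib.Helper91.Ree.g2rho (chevG2.neg (chevG2.simple i)))
      (t ^ Cfsg.Agent.Lib.Helper91.Ree.g2lam (chevG2.neg (chevG2.simple i))) = xG hD _ _
    rw [tab.2.2.1, tab.2.2.2]
    rfl

theorem g2_exp_tab : chevG2.graphExp 0 1 0 = 1 ∧ (∀ c, chevG2.graphExp c 0 1 = c) ∧
    chevG2.cartan 1 (chevG2.simple 0) = -1 ∧ chevG2.cartan 0 (chevG2.simple 1) = -3 := by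
  refine ⟨by decide, fun c => ?_, by decide, by decide⟩
  exact Cfsg.Agent.Lib.Helper87.Aut.graphExp_of_long c (by decide) (by decide)

/-- Outside characteristic 3 the swap is not realised. -/
theorem g2Swap_not_mem_realSym [Fintype F] (p : ℕ) [Fact p.Prime] [CharP F p] (hq : 3 ≤ Fintype.card F)
    (hp : p ≠ 3) (hD : chevG2 ∈ [chevG2, chevB2, chevD4, chevF4, chevE6, chevE7, chevE8]) :
    g2Swap ∉ RealSym hD F := by
  rintro ⟨φ, -, h⟩
  have hc : ringChar F = p := ringChar.eq F p
  have h0 := h ⟨0, by decide⟩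
  have h1 := h ⟨1, by decide⟩
  have e0 : g2Swap ⟨0, by decide⟩ = ⟨1, by decide⟩ := by decide
  have e1 : g2Swap ⟨1, by decide⟩ = ⟨0, by decide⟩ := by decide
  rw [e0] at h0
  rw [e1] at h1
  have g10 : chevG2.graphExp (ringChar F) 1 0 = 1 :=
    Cfsg.Agent.Lib.Helper87.Aut.graphExp_of_not_long _ (by decide)
  have g01 : chevG2.graphExp (ringChar F) 0 1 = p := by rw [g2_exp_tab.2.1, hc]
  have key := graph_torus hD φ 1 0 0 1 (by decide) (by decide) (by decide) (by decide) 1 p
    (fun t => by rw [pow_one, pow_one])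
    (fun t => by have := (h1 t).1; rw [g10] at this; exact this)
    (fun t => by have := (h1 t).2; rw [g10] at this; exact this)
    (fun t => by have := (h0 t).1; rw [g01] at this; exact this)
  rw [g2_exp_tab.2.2.1, g2_exp_tab.2.2.2] at key
  apply hp
  apply char_eq_of_pow_eq (F := F) p 3 (Or.inr rfl) hq
  intro t ht
  have := key t ht
  rw [pow_one, zpow_neg, zpow_one, inv_pow] at this
  have h3 : (t ^ (-3 : ℤ)) = (t ^ 3)⁻¹ := by
    rw [zpow_neg]
    norm_cast
  rw [h3] at this
  exact inv_injective this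

theorem card_realSym_G2 [Fintype F] (p : ℕ) [Fact p.Prime] [CharP F p] (hq : 3 ≤ Fintype.card F)
    (hD : chevG2 ∈ [chevG2, chevB2, chevD4, chevF4, chevE6, chevE7, chevE8]) :
    Nat.card ↥(RealSym hD F) = if p = 3 then 2 else 1 := by
  by_cases hp : p = 3
  · subst hp
    rw [if_pos rfl]
    have huniv : RealSym hD F = Set.univ := by
      apply Set.eq_univ_of_forall
      intro π
      rcases g2_perm_cases π with rfl | rfl
      · exact one_mem_realSym hD
      · exact g2Swap_mem_realSym hD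
    rw [huniv, Nat.card_coe_set_eq, Set.ncard_univ, Nat.card_perm, Nat.card_eq_fintype_card, Fintype.card_fin]
    rfl
  · rw [if_neg hp]
    have hone : RealSym hD F = {1} := by
      ext π
      rw [Set.mem_singleton_iff]
      constructor
      · intro hπ
        rcases g2_perm_cases π with rfl | rfl
        · rfl
        · exact absurd hπ (g2Swap_not_mem_realSym p hq hp hD)
      · rintro rfl
        exact one_mem_realSym hD
    rw [hone, Nat.card_coe_set_eq, Set.ncard_singleton]

end Cfsg.Agent.Lib.Helper91.Aut
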