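import Cfsg.Agent.Lib.Helper91.MargJ

/-!
# S3620 (Marggraf), MODULE T13: Jordan's theorem 13.1 in concrete form
(for helper71; statement exactly as in board post #2145)
-/

namespace Cfsg.Agent.Lib.Helper71.Marg

open MulAction
open scoped Pointwise

variable {G Ω : Type*} [Group G] [MulAction G Ω]

/-- An element of `F(X)` maps `X` onto itself. -/
theorem smul_set_eq_of_mem_fixingSubgroup {X : Set Ω} {k : G} (hk : k ∈ fixingSubgroup G X) :
    k • X = X := by
  have hfix : ∀ z ∈ X, k • z = z := (mem_fixingSubgroup_iff G).mp hk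
  ext z
  constructor
  · rintro ⟨w, hw, rfl⟩
    show k • w ∈ X
    rw [hfix w hw]; exact hw
  · intro hz
    exact ⟨z, hz, hfix z hz⟩

/-- An element of `F(X)` maps `Xᶜ` onto itself. -/
theorem smul_set_compl_eq_of_mem_fixingSubgroup {X : Set Ω} {k : G}
    (hk : k ∈ fixingSubgroup G X) : k • Xᶜ = Xᶜ := by
  rw [Set.smul_set_compl, smul_set_eq_of_mem_fixingSubgroup hk]

theorem smul_set_subset_compl_of_mem_fixingSubgroup {X A : Set Ω} {k : G}
    (hk : k ∈ fixingSubgroup G X) (hA : A ⊆ Xᶜ) : k • A ⊆ Xᶜ := by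
  have := Set.smul_set_mono (a := k) hA
  rwa [smul_set_compl_eq_of_mem_fixingSubgroup hk] at this

/-- A set which is not a block of the subgroup `K` is moved by some `k ∈ K` to a different set
meeting it. -/
theorem exists_smul_ne_of_not_isBlock {K : Subgroup G} {B : Set Ω} (h : ¬ IsBlock K B) :
    ∃ k ∈ K, k • B ≠ B ∧ ((k • B) ∩ B).Nonempty := by
  rw [isBlock_iff_smul_eq_or_disjoint] at h
  push Not at h
  obtain ⟨k, hk1, hk2⟩ := h
  refine ⟨(k : G), k.prop, hk1, ?_⟩
  rw [Set.not_disjoint_iff_nonempty_inter] at hk2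
  exact hk2

theorem transOn_insert_of_primOn [Finite Ω] {X Γ : Set Ω}
    (hprim : PrimOn (fixingSubgroup G X) Xᶜ) (hΓ : IsJordan G Γ) (hΓX : Γ ⊆ Xᶜ)
    (h2 : 1 < Γ.ncard) (hne : Γ ≠ Xᶜ) (y : Ω) (hy : y ∉ X) :
    TransOn (fixingSubgroup G (insert y X)) (insert y X)ᶜ := by
  classical
  -- choose a Jordan set `J` with `Γ ⊆ J ⊂ Xᶜ` of maximal cardinality
  let S : Set (Set Ω) := {J | IsJordan G J ∧ Γ ⊆ J ∧ J ⊆ Xᶜ ∧ J ≠ Xᶜ}
  have hSfin : S.Finite := Set.toFinite S
  have hSne : S.Nonempty := ⟨Γ, hΓ, subset_rfl, hΓX, hne⟩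
  obtain ⟨J, hJS, hJmax⟩ := Set.exists_max_image S Set.ncard hSfin hSne
  obtain ⟨hJ, hΓJ, hJX, hJne⟩ := hJS
  have hmax : ∀ J' : Set Ω, IsJordan G J' → J ⊆ J' → J' ⊆ Xᶜ → J' = Xᶜ ∨ J' = J := by
    intro J' hJ' hJJ' hJ'X
    by_cases h : J' = Xᶜ
    · exact Or.inl h
    · right
      have hle : J'.ncard ≤ J.ncard := hJmax J' ⟨hJ', hΓJ.trans hJJ', hJ'X, h⟩
      exact (Set.eq_of_subset_of_ncard_le hJJ' hle (Set.toFinite J')).symm
  have hJ2 : 1 < J.ncard := lt_of_lt_of_le h2 (Set.ncard_le_ncard hΓJ (Set.toFinite J))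
  have hJnss : ¬ J.Subsingleton := by
    intro hs
    have := (Set.ncard_le_one_iff_subsingleton (s := J)).mpr hs
    omega
  -- translates of `J` have the same size, so `k • J ⊆ J` forces equality
  have hsmul_eq : ∀ k : G, k • J ⊆ J → k • J = J := by
    intro k hk
    exact Set.eq_of_subset_of_ncard_le hk (by rw [Set.ncard_smul_set]) (Set.toFinite J)
  set D : Set Ω := Xᶜ \ J with hD
  have hDne : D.Nonempty := by
    rw [Set.nonempty_iff_ne_empty]
    intro h
    apply hJne
    apply Set.Subset.antisymm hJX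
    intro z hz
    by_contra hzJ
    have : z ∈ D := ⟨hz, hzJ⟩
    rw [h] at this
    exact this
  have hDcard : D.ncard ≤ 1 := by
    by_contra hcon
    push Not at hcon
    -- Step 1: `J` is not a block
    have hJnb : ¬ IsBlock (fixingSubgroup G X) J := by
      intro hb
      rcases hprim.2 J hJX hb with h | h
      · exact hJnss h
      · exact hJne h
    obtain ⟨k, hkK, hkJ, hkmeet⟩ := exists_smul_ne_of_not_isBlock hJnb
    have hU : IsJordan G (k • J ∪ J) := (hJ.smul k).union hJ hkmeet
    have hUX : k • J ∪ J ⊆ Xᶜ :=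
      Set.union_subset (smul_set_subset_compl_of_mem_fixingSubgroup hkK hJX) hJX
    have hUeq : k • J ∪ J = Xᶜ := by
      rcases hmax _ hU Set.subset_union_right hUX with h | h
      · exact h
      · exfalso
        apply hkJ
        apply hsmul_eq
        have hsub' : k • J ⊆ k • J ∪ J := Set.subset_union_left
        rwa [h] at hsub'
    have hDlt : D.ncard < J.ncard := by
      have hDeq : D = k • J \ J := by
        rw [hD, ← hUeq, Set.union_sdiff_right]
      obtain ⟨w, hw1, hw2⟩ := hkmeet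
      have hss : k • J \ J ⊂ k • J := by
        refine ⟨Set.sdiff_subset, ?_⟩
        intro hsub
        exact (hsub hw1).2 hw2
      have := Set.ncard_lt_ncard hss (Set.toFinite _)
      rwa [Set.ncard_smul_set, ← hDeq] at this
    -- Step 2: `D` is not a block
    have hDX : D ⊆ Xᶜ := Set.sdiff_subset
    have hDnb : ¬ IsBlock (fixingSubgroup G X) D := by
      intro hb
      rcases hprim.2 D hDX hb with h | h
      · have := (Set.ncard_le_one_iff_subsingleton (s := D)).mpr h
        omega
      · -- `D = Xᶜ` forces `J = ∅`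
        have hJempty : J = ∅ := by
          rw [Set.eq_empty_iff_forall_notMem]
          intro z hz
          have hzD : z ∈ D := by rw [h]; exact hJX hz
          exact hzD.2 hz
        rw [hJempty] at hJ2
        simp at hJ2
    obtain ⟨k', hk'K, hk'D, hk'meet⟩ := exists_smul_ne_of_not_isBlock hDnb
    have hk'D_eq : k' • D = Xᶜ \ k' • J := by
      rw [hD, Set.smul_set_sdiff, smul_set_compl_eq_of_mem_fixingSubgroup hk'K]
    have hdisj : Disjoint (k' • J) J := by
      rw [Set.disjoint_iff_inter_eq_empty]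
      by_contra hne'
      have hmeet' : ((k' • J) ∩ J).Nonempty := Set.nonempty_iff_ne_empty.mpr hne'
      have hU' : IsJordan G (k' • J ∪ J) := (hJ.smul k').union hJ hmeet'
      have hU'X : k' • J ∪ J ⊆ Xᶜ :=
        Set.union_subset (smul_set_subset_compl_of_mem_fixingSubgroup hk'K hJX) hJX
      rcases hmax _ hU' Set.subset_union_right hU'X with h | h
      · -- then `k' • D ∩ D = ∅`
        obtain ⟨z, hz1, hz2⟩ := hk'meet
        rw [hk'D_eq] at hz1
        have hzU : z ∈ k' • J ∪ J := by rw [h]; exact hz2.1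
        rcases hzU with hz | hz
        · exact hz1.2 hz
        · exact hz2.2 hz
      · -- then `k' • J = J`, hence `k' • D = D`
        have hkJ' : k' • J = J := by
          apply hsmul_eq
          have hsub' : k' • J ⊆ k' • J ∪ J := Set.subset_union_left
          rwa [h] at hsub'
        apply hk'D
        rw [hk'D_eq, hkJ']
    have hsub : k' • J ⊆ D := by
      intro z hz
      refine ⟨smul_set_subset_compl_of_mem_fixingSubgroup hk'K hJX hz, ?_⟩
      intro hzJ
      exact (Set.disjoint_left.mp hdisj) hz hzJ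
    have hle : J.ncard ≤ D.ncard := by
      have := Set.ncard_le_ncard hsub (Set.toFinite D)
      rwa [Set.ncard_smul_set] at this
    omega
  -- so `D = {y₀}`
  have hD1 : D.ncard = 1 := by
    have hpos : 0 < D.ncard := (Set.ncard_pos (Set.toFinite D)).mpr hDne
    omega
  obtain ⟨y₀, hy₀⟩ := Set.ncard_eq_one.mp hD1
  have hy₀D : y₀ ∈ D := by rw [hy₀]; exact Set.mem_singleton _
  have hJeq : J = (insert y₀ X)ᶜ := by
    ext z
    simp only [Set.mem_compl_iff, Set.mem_insert_iff, not_or]
    constructor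
    · intro hz
      refine ⟨?_, hJX hz⟩
      rintro rfl
      exact hy₀D.2 hz
    · rintro ⟨hz1, hz2⟩
      by_contra hzJ
      have : z ∈ D := ⟨hz2, hzJ⟩
      rw [hy₀] at this
      exact hz1 this
  -- move `y₀` to `y` by an element of `F(X)`
  obtain ⟨k, hkK, hky⟩ := hprim.1 y₀ hy₀D.1 y hy
  have hkJ : k • J = (insert y X)ᶜ := by
    rw [hJeq, Set.smul_set_compl, Set.smul_set_insert, hky,
      smul_set_eq_of_mem_fixingSubgroup hkK]
  have hfinal : IsJordan G (k • J) := hJ.smul k
  rw [hkJ] at hfinal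
  unfold IsJordan at hfinal
  rwa [compl_compl] at hfinal

end Cfsg.Agent.Lib.Helper71.Marg
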