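/-
helper91: project D4ISO (helper95, S1082), module [R-VALID]: every valid pair of indices is a root or the opposite
of a root; `e_{b',a'} = -e_{a,b}`.
-/
import Mathlib
import Cfsg.Agent.Lib.Helper95.D4Iso.Defs

set_option autoImplicit false

namespace Cfsg.Agent.Lib.Helper91.D4Iso

open Matrix Cfsg.Lie Cfsg.Agent.Lib.Helper95.D4Iso

variable {F : Type*} [Field F]

theorem valid_cases_all : ∀ a b : I8, Valid a b →
    ∃ r : Fin 24, (a = rootA r ∧ b = rootXb r) ∨ (a = opp (rootXb r) ∧ b = opp (rootA r)) := by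
  decide

/-- every valid pair is a root or the opposite of a root -/
theorem valid_cases (a b : I8) (h : Valid a b) :
    ∃ r : Fin 24, (a = rootA r ∧ b = rootXb r) ∨ (a = opp (rootXb r) ∧ b = opp (rootA r)) :=
  valid_cases_all a b h

theorem eM_opp (a b : I8) : (eM (opp b) (opp a) : Matrix I8 I8 F) = - eM a b := by
  unfold eM
  rw [opp_opp, opp_opp, neg_sub]

end Cfsg.Agent.Lib.Helper91.D4Iso
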