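import Mathlib
import Cfsg.Agent.S0514

/-!
# Subgroups of a group isomorphic to a dihedral group

`exists_cyclic_half`: a subgroup `Q₁` of a subgroup `P ≃* DihedralGroup n` has an element `c` such
that `zpowers c` is "of index at most two" in `Q₁` and every element of `Q₁` outside `zpowers c` is an
involution.

`centralizes_or_exponent_two`: an odd-order element normalizing such a `Q₁` (a 2-group) centralizes it,
unless `Q₁` has exponent two.
-/

set_option autoImplicit false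

namespace Cfsg.Agent.Lib.Helper91

open Cfsg.Agent.S0514

variable {X : Type*} [Group X]

theorem exists_cyclic_half (P : Subgroup X) (n : ℕ) [NeZero n] (e : P ≃* DihedralGroup n)
    (Q₁ : Subgroup X) (hQP : Q₁ ≤ P) :
    ∃ c ∈ Q₁, (∀ a ∈ Q₁, ∀ b ∈ Q₁, a ∉ Subgroup.zpowers c → b ∉ Subgroup.zpowers c →
        a * b ∈ Subgroup.zpowers c) ∧
      (∀ q ∈ Q₁, q ∉ Subgroup.zpowers c → q * q = 1) := by
  set ψ : Q₁ →* DihedralGroup n := e.toMonoidHom.comp (Subgroup.inclusion hQP) with hψ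
  have hψinj : Function.Injective ψ := by
    rw [hψ]
    exact e.injective.comp (Subgroup.inclusion_injective hQP)
  set R : Subgroup Q₁ := (rot n).comap ψ with hR
  set R₀ : Subgroup X := R.map Q₁.subtype with hR₀
  have hmem : ∀ (x : X) (hx : x ∈ Q₁), x ∈ R₀ ↔ ψ ⟨x, hx⟩ ∈ rot n := by
    intro x hx
    constructor
    · rintro ⟨y, hy, hyx⟩
      have : y = ⟨x, hx⟩ := Subtype.ext hyx
      rw [← this]; exact hy
    · intro h
      exact ⟨⟨x, hx⟩, h, rfl⟩
  have hsq : ∀ q ∈ Q₁, q ∉ R₀ → q * q = 1 := by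
    intro q hq hqR
    rw [hmem q hq] at hqR
    have h1 := not_rot_sq _ hqR
    rw [← map_mul, ← map_one ψ] at h1
    have h2 := hψinj h1
    exact congrArg Subtype.val h2
  have hhalf : ∀ a ∈ Q₁, ∀ b ∈ Q₁, a ∉ R₀ → b ∉ R₀ → a * b ∈ R₀ := by
    intro a ha b hb haR hbR
    rw [hmem a ha] at haR
    rw [hmem b hb] at hbR
    rw [hmem (a * b) (Q₁.mul_mem ha hb)]
    have := not_rot_mul _ _ haR hbR
    rw [← map_mul] at this
    exact this
  have hRcyc : IsCyclic R := by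
    have := rot_cyclic n
    let φ : R →* rot n := (ψ.comp R.subtype).codRestrict (rot n) (fun y => y.2)
    have hφ : Function.Injective φ := by
      intro a b hab
      have h1 : ψ (a : Q₁) = ψ (b : Q₁) := congrArg Subtype.val hab
      exact Subtype.ext (hψinj h1)
    exact isCyclic_of_injective φ hφ
  obtain ⟨c₀, hc₀⟩ := hRcyc.exists_generator
  have hcQ : ((c₀ : Q₁) : X) ∈ Q₁ := (c₀ : Q₁).2
  have hcR₀ : ((c₀ : Q₁) : X) ∈ R₀ := ⟨(c₀ : Q₁), c₀.2, rfl⟩
  have hR₀eq : R₀ = Subgroup.zpowers ((c₀ : Q₁) : X) := by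
    apply le_antisymm
    · rintro _ ⟨y, hy, rfl⟩
      obtain ⟨k, hk⟩ := hc₀ ⟨y, hy⟩
      refine ⟨k, ?_⟩
      have := congrArg (fun z : R => ((z : Q₁) : X)) hk
      simpa using this
    · exact Subgroup.zpowers_le.mpr hcR₀
  refine ⟨((c₀ : Q₁) : X), hcQ, ?_, ?_⟩
  · rw [← hR₀eq]; exact hhalf
  · rw [← hR₀eq]; exact hsq

/-- An odd-order element normalizing a 2-subgroup `Q₁` of a dihedral group centralizes `Q₁`
unless `Q₁` has exponent two; in that case we record the structure of `Q₁`. -/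
theorem centralizes_or_exponent_two (P : Subgroup X) (n : ℕ) [NeZero n]
    (e : P ≃* DihedralGroup n) (Q₁ : Subgroup X) (hQP : Q₁ ≤ P)
    (hQ2 : ∀ h ∈ Q₁, ∃ k : ℕ, h ^ (2 ^ k) = 1)
    (g : X) (m : ℕ) (hm : Odd m) (hgm : g ^ m = 1)
    (hgQ : ∀ q ∈ Q₁, g * q * g⁻¹ ∈ Q₁) :
    (∀ q ∈ Q₁, g * q * g⁻¹ = q) ∨
      ((∀ q ∈ Q₁, q * q = 1) ∧ ∃ c ∈ Q₁, ∀ a ∈ Q₁, ∀ b ∈ Q₁,
        a ∉ Subgroup.zpowers c → b ∉ Subgroup.zpowers c → a * b ∈ Subgroup.zpowers c) := by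
  obtain ⟨c, hcQ, hhalf, hsq⟩ := exists_cyclic_half P n e Q₁ hQP
  obtain ⟨k₀, hk₀⟩ := hQ2 _ hcQ
  obtain ⟨b, -, hb⟩ := (Nat.dvd_prime_pow Nat.prime_two).mp (orderOf_dvd_of_pow_eq_one hk₀)
  by_cases hbig : ∃ q ∈ Subgroup.zpowers c, q * q ≠ 1
  · left
    have hcc : c * c ≠ 1 := by
      intro h
      obtain ⟨q, ⟨k, rfl⟩, hqq⟩ := hbig
      exact hqq (sq_zpow_of_sq h k)
    have hgc : g * c * g⁻¹ ∈ Subgroup.zpowers c := by
      by_contra hne
      have h1 := hsq _ (hgQ _ hcQ) hne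
      apply hcc
      have : c * c = g⁻¹ * ((g * c * g⁻¹) * (g * c * g⁻¹)) * g := by group
      rw [this, h1]; group
    have hfix := lemmaD g m hm hgm b _ hb hgc
    refine lemmaB g m hm hgm Q₁ (Subgroup.zpowers c) (Subgroup.zpowers_le.mpr hcQ) hhalf hQ2 hgQ ?_
    rintro _ ⟨i, rfl⟩
    simp only
    rw [← conj_zpow, hfix]
  · right
    rw [not_exists] at hbig
    refine ⟨?_, c, hcQ, hhalf⟩
    intro q hq
    by_cases hqR : q ∈ Subgroup.zpowers c
    · by_contra hne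
      exact hbig q ⟨hqR, hne⟩
    · exact hsq q hq hqR

end Cfsg.Agent.Lib.Helper91
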