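/-
helper91: the elements of `U ≤ F₄(K)` (characteristic 2, `K` finite) fixed by the twisting automorphism `σ`: they are
the products, over the 8 classes of positive roots, of the class words with 12 free parameters; the parametrisation
is injective, so `|U ∩ Fix(σ)| = |K|^12`.
-/
import Cfsg.Agent.Lib.Helper91.F4Sig

set_option autoImplicit false

namespace Cfsg.Agent.Lib.Helper91.ReeF4

open Cfsg.Lie Cfsg.Agent.Lib.Helper18 Cfsg.Agent.Lib.Helper91.ChevGen Cfsg.Agent.Lib.Helper91.ExcAut

universe u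

/-! ### Words with prescribed keys -/

section Coef

variable {K : Type u} [Field K]

/-- The coefficient of the root `r` in a word (the first one, zero if there is none). -/
def coef (w : List (ℕ × K)) (r : ℕ) : K :=
  match w.find? (fun a => a.1 == r) with
  | some a => a.2
  | none => 0

theorem coef_cons_self (a : ℕ × K) (w : List (ℕ × K)) : coef (a :: w) a.1 = a.2 := by
  unfold coef
  rw [List.find?_cons_of_pos (by simp)]

theorem coef_cons_of_ne (a : ℕ × K) (w : List (ℕ × K)) (r : ℕ) (h : a.1 ≠ r) : coef (a :: w) r = coef w r := by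
  unfold coef
  rw [List.find?_cons_of_neg (by simpa using h)]

theorem map_coef (w : List (ℕ × K)) (hnd : (w.map Prod.fst).Nodup) :
    (w.map Prod.fst).map (fun r => (r, coef w r)) = w := by
  induction w with
  | nil => rfl
  | cons a w ih =>
    rw [List.map_cons, List.nodup_cons] at hnd
    rw [List.map_cons, List.map_cons, coef_cons_self]
    congr 1
    calc (w.map Prod.fst).map (fun r => (r, coef (a :: w) r))
        = (w.map Prod.fst).map (fun r => (r, coef w r)) := by
          apply List.map_congr_left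
          intro r hr
          rw [coef_cons_of_ne a w r (fun h => hnd.1 (h ▸ hr))]
      _ = w := ih hnd.2

end Coef

section Inj

variable {K : Type u} [Field K] [Fintype K] {D : ChevalleyDatum}

/-- Two words with the same keys, running once over all positive roots, with the same product, are equal. -/
theorem word_inj (hD : D ∈ [chevG2, chevB2, chevD4, chevF4, chevE6, chevE7, chevE8]) (l : List ℕ)
    (hl : ∀ r ∈ l, D.IsPosRoot r) (hnd : l.Nodup) (hall : ∀ r, D.IsPosRoot r → r ∈ l)
    (w w' : List (ℕ × K)) (hw : w.map Prod.fst = l) (hw' : w'.map Prod.fst = l)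
    (h : wordG hD w = wordG hD w') : w = w' := by
  have e1 : w = l.map (fun r => (r, coef w r)) := by
    rw [← hw]; exact (map_coef w (hw ▸ hnd)).symm
  have e2 : w' = l.map (fun r => (r, coef w' r)) := by
    rw [← hw']; exact (map_coef w' (hw' ▸ hnd)).symm
  have h' : prodL hD l (coef w) = prodL hD l (coef w') := by
    rw [prodL_eq_wordG, prodL_eq_wordG, ← e1, ← e2]; exact h
  have hc := prodL_injective_of_fintype hD l hl hnd hall _ _ h'
  rw [e1, e2]
  apply List.map_congr_left
  intro r hr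
  rw [hc r hr]

end Inj

/-! ### The classes of positive roots -/

set_option maxRecDepth 100000 in
theorem cls_chk2 : wordEqChk chevF4 2 (clsL 29 41 44 47) (clsR 29 41 44 47) = true := by decide +kernel

set_option maxRecDepth 100000 in
theorem cls_chk3 : wordEqChk chevF4 2 (clsL 34 26 36 42) (clsR 34 26 36 42) = true := by decide +kernel

set_option maxRecDepth 100000 in
theorem cls_chk4 : wordEqChk chevF4 2 (clsL 35 31 40 46) (clsR 35 31 40 46) = true := by decide +kernel

set_option maxRecDepth 100000 in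
theorem pair_chk2 : wordEqChk chevF4 2 (pairL 37 32) (pairR 37 32) = true := by decide +kernel

set_option maxRecDepth 100000 in
theorem pair_chk3 : wordEqChk chevF4 2 (pairL 38 43) (pairR 38 43) = true := by decide +kernel

set_option maxRecDepth 100000 in
theorem pair_chk4 : wordEqChk chevF4 2 (pairL 39 45) (pairR 39 45) = true := by decide +kernel

/-- The table facts of a class of type `B₂`: `a` short, `b = ρ a` long, `a + b`, `2a + b`. -/
structure IsCls (a b ab aab : ℕ) : Prop where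
  chk : wordEqChk chevF4 2 (clsL a b ab aab) (clsR a b ab aab) = true
  h1 : f4rho a = b
  h2 : f4rho b = a
  h3 : f4rho ab = aab
  h4 : f4rho aab = ab
  l1 : f4lam a = 2
  l2 : f4lam b = 1
  l3 : f4lam ab = 2
  l4 : f4lam aab = 1
  lt : a < 48 ∧ b < 48 ∧ ab < 48 ∧ aab < 48

/-- The table facts of a class of type `A₁ × A₁`: `r` short, `rb = ρ r` long. -/
structure IsPair (r rb : ℕ) : Prop where
  chk : wordEqChk chevF4 2 (pairL r rb) (pairR r rb) = true
  h1 : f4rho r = rb
  h2 : f4rho rb = r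
  l1 : f4lam r = 2
  l2 : f4lam rb = 1
  lt : r < 48 ∧ rb < 48

theorem isCls1 : IsCls 27 25 28 30 := ⟨cls_pos_chk, by decide, by decide, by decide, by decide, by decide, by decide,
  by decide, by decide, by decide⟩
theorem isCls2 : IsCls 29 41 44 47 := ⟨cls_chk2, by decide, by decide, by decide, by decide, by decide, by decide,
  by decide, by decide, by decide⟩
theorem isCls3 : IsCls 34 26 36 42 := ⟨cls_chk3, by decide, by decide, by decide, by decide, by decide, by decide,
  by decide, by decide, by decide⟩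
theorem isCls4 : IsCls 35 31 40 46 := ⟨cls_chk4, by decide, by decide, by decide, by decide, by decide, by decide,
  by decide, by decide, by decide⟩
theorem isPair1 : IsPair 33 24 := ⟨pair_pos_chk, by decide, by decide, by decide, by decide, by decide⟩
theorem isPair2 : IsPair 37 32 := ⟨pair_chk2, by decide, by decide, by decide, by decide, by decide⟩
theorem isPair3 : IsPair 38 43 := ⟨pair_chk3, by decide, by decide, by decide, by decide, by decide⟩
theorem isPair4 : IsPair 39 45 := ⟨pair_chk4, by decide, by decide, by decide, by decide, by decide⟩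

section Cls

variable {K : Type u} [Field K] [CharP K 2]

/-- The image of a word over a class of type `B₂`, reordered. -/
theorem mapWord_cls {a b ab aab : ℕ} (H : IsCls a b ab aab) (e : ℕ) (s₁ s₂ s₃ s₄ : K) :
    chevF4.wordMat K (mapWord e [(a, s₁), (b, s₂), (ab, s₃), (aab, s₄)])
      = chevF4.wordMat K [(a, s₂ ^ (1 * e)), (b, s₁ ^ (2 * e)), (ab, s₄ ^ (1 * e) + s₁ ^ (2 * e) * s₂ ^ (1 * e)),
          (aab, s₃ ^ (2 * e) + s₁ ^ (2 * e) * (s₂ ^ (1 * e)) ^ 2)] := by
  have e0 : mapWord e [(a, s₁), (b, s₂), (ab, s₃), (aab, s₄)]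
      = [(b, s₁ ^ (2 * e)), (a, s₂ ^ (1 * e)), (aab, s₃ ^ (2 * e)), (ab, s₄ ^ (1 * e))] := by
    unfold mapWord
    simp only [List.map_cons, List.map_nil, H.h1, H.h2, H.h3, H.h4, H.l1, H.l2, H.l3, H.l4]
  rw [e0]
  exact cls_identity_aux a b ab aab H.chk _ _ _ _

/-- The image of a word over a class of type `A₁ × A₁`, reordered. -/
theorem mapWord_pair {r rb : ℕ} (H : IsPair r rb) (e : ℕ) (s₁ s₂ : K) :
    chevF4.wordMat K (mapWord e [(r, s₁), (rb, s₂)])
      = chevF4.wordMat K [(r, s₂ ^ (1 * e)), (rb, s₁ ^ (2 * e))] := by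
  have e0 : mapWord e [(r, s₁), (rb, s₂)] = [(rb, s₁ ^ (2 * e)), (r, s₂ ^ (1 * e))] := by
    unfold mapWord
    simp only [List.map_cons, List.map_nil, H.h1, H.h2, H.l1, H.l2]
  rw [e0]
  exact pair_identity_aux r rb H.chk _ _

variable (m : ℕ) (hq : ∀ t : K, t ^ (2 * 2 ^ m * 2 ^ m) = t)
include hq

/-- The class words are fixed. -/
theorem mapWord_b2ClassWord {a b ab aab : ℕ} (H : IsCls a b ab aab) (t u : K) :
    chevF4.wordMat K (mapWord (2 ^ m) (b2ClassWord (2 ^ m) a b ab aab t u))
      = chevF4.wordMat K (b2ClassWord (2 ^ m) a b ab aab t u) := by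
  unfold b2ClassWord
  rw [mapWord_cls H]
  refine congrArg (chevF4.wordMat K) (list4_ext ?_ ?_ ?_ ?_)
  · rw [one_mul]
  · exact theta_q m hq t
  · rw [one_mul, q_theta m hq, theta_q m hq, pow_succ]; ring
  · rw [coef_c m hq, theta_q m hq, one_mul, ← pow_mul, mul_comm (2 ^ m) 2]
    have h2 : t * t ^ (2 * 2 ^ m) + t * t ^ (2 * 2 ^ m) = 0 := CharTwo.add_self_eq_zero _
    calc t * t ^ (2 * 2 ^ m) + u ^ (2 * 2 ^ m) + t * t ^ (2 * 2 ^ m)
        = u ^ (2 * 2 ^ m) + (t * t ^ (2 * 2 ^ m) + t * t ^ (2 * 2 ^ m)) := by ring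
      _ = u ^ (2 * 2 ^ m) := by rw [h2, add_zero]

theorem mapWord_f4PairWord {r rb : ℕ} (H : IsPair r rb) (t : K) :
    chevF4.wordMat K (mapWord (2 ^ m) (f4PairWord (2 ^ m) r rb t))
      = chevF4.wordMat K (f4PairWord (2 ^ m) r rb t) := by
  unfold f4PairWord
  rw [mapWord_pair H]
  refine congrArg (chevF4.wordMat K) (list2_ext ?_ ?_)
  · rw [one_mul]
  · exact theta_q m hq t

/-- Solving the fixed-point equations of a class of type `B₂`. -/
theorem cls_solve (a b ab aab : ℕ) (s₁ s₂ s₃ s₄ : K) (E1 : s₂ ^ (1 * 2 ^ m) = s₁)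
    (E4 : s₃ ^ (2 * 2 ^ m) + s₁ ^ (2 * 2 ^ m) * (s₂ ^ (1 * 2 ^ m)) ^ 2 = s₄) :
    [(a, s₁), (b, s₂), (ab, s₃), (aab, s₄)]
      = b2ClassWord (2 ^ m) a b ab aab s₂ (s₃ + s₂ ^ (2 ^ m + 1)) := by
  unfold b2ClassWord
  rw [one_mul] at E1 E4
  refine list4_ext ?_ rfl ?_ ?_
  · exact E1.symm
  · have h2 : s₂ ^ (2 ^ m + 1) + s₂ ^ (2 ^ m + 1) = 0 := CharTwo.add_self_eq_zero _
    calc s₃ = s₃ + (s₂ ^ (2 ^ m + 1) + s₂ ^ (2 ^ m + 1)) := by rw [h2, add_zero]
      _ = s₂ ^ (2 ^ m + 1) + (s₃ + s₂ ^ (2 ^ m + 1)) := by ring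
  · rw [← E4, ← E1, theta_q m hq, frob_add]
    have h : (s₂ ^ (2 ^ m + 1)) ^ (2 * 2 ^ m) = s₂ * (s₂ ^ 2 ^ m) ^ 2 := by
      have e1 : s₂ ^ (2 ^ m + 1) = s₂ ^ 2 ^ m * s₂ := pow_succ _ _
      have e2 : (s₂ ^ 2 ^ m) ^ 2 = s₂ ^ (2 * 2 ^ m) := by rw [← pow_mul, mul_comm]
      rw [e1, mul_pow, theta_q m hq, e2]
    rw [h]

end Cls

end Cfsg.Agent.Lib.Helper91.ReeF4
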