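/-
helper91: the elements of `U ≤ F₄(K)` (characteristic 2, `K` finite) fixed by the twisting automorphism `σ`
(continued): the parametrisation by 12 parameters and the count `|U ∩ Fix(σ)| = |K|^12`.
-/
import Cfsg.Agent.Lib.Helper91.F4FixU

set_option autoImplicit false

namespace Cfsg.Agent.Lib.Helper91.ReeF4

open Cfsg.Lie Cfsg.Agent.Lib.Helper18 Cfsg.Agent.Lib.Helper91.ChevGen Cfsg.Agent.Lib.Helper91.ExcAut

universe u

section Words

variable {K : Type u} [Field K]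
set_option linter.unusedSectionVars false

/-- The positive roots of `F₄`, class by class. -/
def f4ClsList : List ℕ :=
  [27, 25, 28, 30, 29, 41, 44, 47, 34, 26, 36, 42, 35, 31, 40, 46, 33, 24, 37, 32, 38, 43, 39, 45]

theorem f4ClsList_pos : ∀ r ∈ f4ClsList, chevF4.IsPosRoot r := by
  intro r hr
  rw [isPosRoot_iff hD4]
  revert r
  decide

theorem f4ClsList_nodup : f4ClsList.Nodup := by decide

theorem f4ClsList_all : ∀ r, chevF4.IsPosRoot r → r ∈ f4ClsList := by
  intro r hr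
  rw [isPosRoot_iff hD4] at hr
  obtain ⟨h1, h2⟩ := hr
  change r < 48 at h1
  change 24 ≤ r at h2
  interval_cases r <;> decide

theorem f4ClsList_lt : ∀ r ∈ f4ClsList, r < 48 := by decide

def clsW (a b ab aab : ℕ) (t : ℕ → K) : List (ℕ × K) := [(a, t a), (b, t b), (ab, t ab), (aab, t aab)]

def pairW (r rb : ℕ) (t : ℕ → K) : List (ℕ × K) := [(r, t r), (rb, t rb)]

/-- The word of an ordered product over `f4ClsList`. -/
def fullW (t : ℕ → K) : List (ℕ × K) :=
  clsW 27 25 28 30 t ++ (clsW 29 41 44 47 t ++ (clsW 34 26 36 42 t ++ (clsW 35 31 40 46 t ++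
    (pairW 33 24 t ++ (pairW 37 32 t ++ (pairW 38 43 t ++ pairW 39 45 t))))))

theorem fullW_eq (t : ℕ → K) : f4ClsList.map (fun r => (r, t r)) = fullW t := rfl

def clsW' (e a b ab aab : ℕ) (t : ℕ → K) : List (ℕ × K) :=
  [(a, t b ^ (1 * e)), (b, t a ^ (2 * e)), (ab, t aab ^ (1 * e) + t a ^ (2 * e) * t b ^ (1 * e)),
    (aab, t ab ^ (2 * e) + t a ^ (2 * e) * (t b ^ (1 * e)) ^ 2)]

def pairW' (e r rb : ℕ) (t : ℕ → K) : List (ℕ × K) := [(r, t rb ^ (1 * e)), (rb, t r ^ (2 * e))]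

/-- The image of `fullW t` under `σ`, reordered class by class. -/
def imgW (e : ℕ) (t : ℕ → K) : List (ℕ × K) :=
  clsW' e 27 25 28 30 t ++ (clsW' e 29 41 44 47 t ++ (clsW' e 34 26 36 42 t ++ (clsW' e 35 31 40 46 t ++
    (pairW' e 33 24 t ++ (pairW' e 37 32 t ++ (pairW' e 38 43 t ++ pairW' e 39 45 t))))))

/-- The `σ`-fixed words: 4 class words of type `B₂` and 4 pair words. -/
def f4FixWord (e : ℕ) (c : Fin 4 → K × K) (s : Fin 4 → K) : List (ℕ × K) :=
  b2ClassWord e 27 25 28 30 (c 0).1 (c 0).2 ++ (b2ClassWord e 29 41 44 47 (c 1).1 (c 1).2 ++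
    (b2ClassWord e 34 26 36 42 (c 2).1 (c 2).2 ++ (b2ClassWord e 35 31 40 46 (c 3).1 (c 3).2 ++
    (f4PairWord e 33 24 (s 0) ++ (f4PairWord e 37 32 (s 1) ++ (f4PairWord e 38 43 (s 2) ++
      f4PairWord e 39 45 (s 3)))))))

theorem f4FixWord_keys (e : ℕ) (c : Fin 4 → K × K) (s : Fin 4 → K) :
    (f4FixWord e c s).map Prod.fst = f4ClsList := rfl

theorem fullW_keys (t : ℕ → K) : (fullW t).map Prod.fst = f4ClsList := rfl

theorem imgW_keys (e : ℕ) (t : ℕ → K) : (imgW e t).map Prod.fst = f4ClsList := rfl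

theorem lt_of_keys (w : List (ℕ × K)) (h : w.map Prod.fst = f4ClsList) : ∀ a ∈ w, a.1 < 48 := by
  intro a ha
  apply f4ClsList_lt
  rw [← h]
  exact List.mem_map_of_mem ha

theorem pos_of_keys (w : List (ℕ × K)) (h : w.map Prod.fst = f4ClsList) : ∀ a ∈ w, chevF4.IsPosRoot a.1 := by
  intro a ha
  apply f4ClsList_pos
  rw [← h]
  exact List.mem_map_of_mem ha

theorem wordG_mem_U (w : List (ℕ × K)) (h : w.map Prod.fst = f4ClsList) :
    wordG hD4 w ∈ chevF4.posUnipotent K :=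
  wordG_mem_closure hD4 _ w (pos_of_keys w h)

theorem mapWord_append (e : ℕ) (w₁ w₂ : List (ℕ × K)) : mapWord e (w₁ ++ w₂) = mapWord e w₁ ++ mapWord e w₂ := by
  unfold mapWord
  rw [List.map_append]

end Words

section Img

variable {K : Type u} [Field K] [CharP K 2]

theorem wordMat_mapWord_fullW (e : ℕ) (t : ℕ → K) :
    chevF4.wordMat K (mapWord e (fullW t)) = chevF4.wordMat K (imgW e t) := by
  unfold fullW imgW
  simp only [mapWord_append, wordMat_append]
  unfold clsW pairW clsW' pairW'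
  rw [mapWord_cls isCls1, mapWord_cls isCls2, mapWord_cls isCls3, mapWord_cls isCls4, mapWord_pair isPair1,
    mapWord_pair isPair2, mapWord_pair isPair3, mapWord_pair isPair4]

end Img

section Main

variable (K : Type u) [Field K] [Fintype K] [CharP K 2] (m : ℕ)
set_option linter.unusedSectionVars false

/-- A word fixed (as a matrix) by the word map gives a fixed point of `σ`. -/
theorem mem_FF_of_mapWord (w : List (ℕ × K)) (hw : ∀ a ∈ w, a.1 < 48)
    (h : chevF4.wordMat K (mapWord (2 ^ m) w) = chevF4.wordMat K w) :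
    wordG hD4 w ∈ (f4Fix K m).map (chevF4.group K).subtype := by
  rw [mem_f4FixGL]
  refine ⟨wordG_mem w hw, ?_⟩
  have e := congrArg Subtype.val (f4Sigma_wordG K m w hw)
  rw [e]
  apply Units.ext
  show ((wordG hD4 (mapWord (2 ^ m) w) : GL chevF4.Idx K) : Matrix chevF4.Idx chevF4.Idx K)
    = ((wordG hD4 w : GL chevF4.Idx K) : Matrix chevF4.Idx chevF4.Idx K)
  rw [coe_wordG, coe_wordG, h]

theorem cls_lt {a b ab aab : ℕ} (H : IsCls a b ab aab) (e : ℕ) (t u : K) :
    ∀ x ∈ b2ClassWord e a b ab aab t u, x.1 < 48 := by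
  intro x hx
  obtain ⟨h1, h2, h3, h4⟩ := H.lt
  simp only [b2ClassWord, List.mem_cons, List.not_mem_nil, or_false] at hx
  rcases hx with rfl | rfl | rfl | rfl <;> assumption

theorem pair_lt {r rb : ℕ} (H : IsPair r rb) (e : ℕ) (t : K) :
    ∀ x ∈ f4PairWord e r rb t, x.1 < 48 := by
  intro x hx
  obtain ⟨h1, h2⟩ := H.lt
  simp only [f4PairWord, List.mem_cons, List.not_mem_nil, or_false] at hx
  rcases hx with rfl | rfl <;> assumption

variable (hq : ∀ t : K, t ^ (2 * 2 ^ m * 2 ^ m) = t)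
include hq

/-- The fixed words give fixed points of `σ`. -/
theorem f4FixWord_mem_FF (c : Fin 4 → K × K) (s : Fin 4 → K) :
    wordG hD4 (f4FixWord (2 ^ m) c s) ∈ (f4Fix K m).map (chevF4.group K).subtype := by
  unfold f4FixWord
  simp only [wordG_append]
  have k1 := mem_FF_of_mapWord K m _ (cls_lt K isCls1 (2 ^ m) (c 0).1 (c 0).2)
    (mapWord_b2ClassWord m hq isCls1 (c 0).1 (c 0).2)
  have k2 := mem_FF_of_mapWord K m _ (cls_lt K isCls2 (2 ^ m) (c 1).1 (c 1).2)
    (mapWord_b2ClassWord m hq isCls2 (c 1).1 (c 1).2)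
  have k3 := mem_FF_of_mapWord K m _ (cls_lt K isCls3 (2 ^ m) (c 2).1 (c 2).2)
    (mapWord_b2ClassWord m hq isCls3 (c 2).1 (c 2).2)
  have k4 := mem_FF_of_mapWord K m _ (cls_lt K isCls4 (2 ^ m) (c 3).1 (c 3).2)
    (mapWord_b2ClassWord m hq isCls4 (c 3).1 (c 3).2)
  have p1 := mem_FF_of_mapWord K m _ (pair_lt K isPair1 (2 ^ m) (s 0)) (mapWord_f4PairWord m hq isPair1 (s 0))
  have p2 := mem_FF_of_mapWord K m _ (pair_lt K isPair2 (2 ^ m) (s 1)) (mapWord_f4PairWord m hq isPair2 (s 1))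
  have p3 := mem_FF_of_mapWord K m _ (pair_lt K isPair3 (2 ^ m) (s 2)) (mapWord_f4PairWord m hq isPair3 (s 2))
  have p4 := mem_FF_of_mapWord K m _ (pair_lt K isPair4 (2 ^ m) (s 3)) (mapWord_f4PairWord m hq isPair4 (s 3))
  exact mul_mem k1 (mul_mem k2 (mul_mem k3 (mul_mem k4 (mul_mem p1 (mul_mem p2 (mul_mem p3 p4))))))

theorem pair_solve (r rb : ℕ) (s₁ s₂ : K) (E1 : s₂ ^ (1 * 2 ^ m) = s₁) :
    [(r, s₁), (rb, s₂)] = f4PairWord (2 ^ m) r rb s₂ := by
  unfold f4PairWord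
  rw [one_mul] at E1
  exact list2_ext E1.symm rfl

/-- Every fixed element of `U` is given by a fixed word. -/
theorem f4_fixU (g : GL chevF4.Idx K) (hU : g ∈ chevF4.posUnipotent K)
    (hF : g ∈ (f4Fix K m).map (chevF4.group K).subtype) :
    ∃ (c : Fin 4 → K × K) (s : Fin 4 → K), g = wordG hD4 (f4FixWord (2 ^ m) c s) := by
  obtain ⟨C⟩ := nonempty_chevData.{u} chevF4 hD4
  obtain ⟨L⟩ := nonempty_levelData chevF4 hD4
  obtain ⟨t, rfl⟩ := exists_prodL hD4 C L f4ClsList f4ClsList_pos f4ClsList_nodup f4ClsList_all g hU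
  rw [prodL_eq_wordG, fullW_eq] at hF ⊢
  obtain ⟨hx, hfix⟩ := (mem_f4FixGL K m _).mp hF
  have hlt := lt_of_keys (fullW t) (fullW_keys t)
  have e1 : ((f4Sigma K m ⟨wordG hD4 (fullW t), hx⟩ : ↥(chevF4.group K)) : GL chevF4.Idx K)
      = wordG hD4 (mapWord (2 ^ m) (fullW t)) := congrArg Subtype.val (f4Sigma_wordG K m (fullW t) hlt)
  have e2 : wordG hD4 (mapWord (2 ^ m) (fullW t)) = wordG hD4 (imgW (2 ^ m) t) := by
    apply Units.ext
    rw [coe_wordG, coe_wordG]
    exact wordMat_mapWord_fullW (2 ^ m) t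
  have e3 : wordG hD4 (imgW (2 ^ m) t) = wordG hD4 (fullW t) := by
    rw [← e2, ← e1]; exact hfix
  have e4 : imgW (2 ^ m) t = fullW t :=
    word_inj hD4 f4ClsList f4ClsList_pos f4ClsList_nodup f4ClsList_all _ _ (imgW_keys _ t) (fullW_keys t) e3
  unfold imgW fullW clsW' clsW pairW' pairW at e4
  simp only [List.cons_append, List.nil_append, List.cons.injEq, Prod.mk.injEq, true_and, and_true] at e4
  obtain ⟨a1, -, -, a4, b1, -, -, b4, c1, -, -, c4, d1, -, -, d4, p1, -, p2, -, p3, -, p4, -⟩ := e4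
  refine ⟨![(t 25, t 28 + t 25 ^ (2 ^ m + 1)), (t 41, t 44 + t 41 ^ (2 ^ m + 1)),
    (t 26, t 36 + t 26 ^ (2 ^ m + 1)), (t 31, t 40 + t 31 ^ (2 ^ m + 1))], ![t 24, t 32, t 43, t 45], ?_⟩
  congr 1
  unfold fullW f4FixWord clsW pairW
  rw [cls_solve m hq 27 25 28 30 _ _ _ _ a1 a4, cls_solve m hq 29 41 44 47 _ _ _ _ b1 b4,
    cls_solve m hq 34 26 36 42 _ _ _ _ c1 c4, cls_solve m hq 35 31 40 46 _ _ _ _ d1 d4,
    pair_solve K m hq 33 24 _ _ p1, pair_solve K m hq 37 32 _ _ p2, pair_solve K m hq 38 43 _ _ p3,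
    pair_solve K m hq 39 45 _ _ p4]
  rfl

omit hq in
/-- The parametrisation is injective. -/
theorem f4FixWord_inj (e : ℕ) (c c' : Fin 4 → K × K) (s s' : Fin 4 → K)
    (h : wordG hD4 (f4FixWord e c s) = wordG hD4 (f4FixWord e c' s')) : c = c' ∧ s = s' := by
  have e4 : f4FixWord e c s = f4FixWord e c' s' :=
    word_inj hD4 f4ClsList f4ClsList_pos f4ClsList_nodup f4ClsList_all _ _ (f4FixWord_keys e c s)
      (f4FixWord_keys e c' s') h
  unfold f4FixWord b2ClassWord f4PairWord at e4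
  simp only [List.cons_append, List.nil_append, List.cons.injEq, Prod.mk.injEq, true_and, and_true] at e4
  obtain ⟨-, a2, a3, -, -, b2, b3, -, -, c2, c3, -, -, d2, d3, -, -, p1, -, p2, -, p3, -, p4⟩ := e4
  rw [a2] at a3
  rw [b2] at b3
  rw [c2] at c3
  rw [d2] at d3
  constructor
  · funext i
    fin_cases i
    · exact Prod.ext a2 (add_left_cancel a3)
    · exact Prod.ext b2 (add_left_cancel b3)
    · exact Prod.ext c2 (add_left_cancel c3)
    · exact Prod.ext d2 (add_left_cancel d3)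
  · funext i
    fin_cases i
    · exact p1
    · exact p2
    · exact p3
    · exact p4

/-- `|U ∩ Fix(σ)| = |K|^12`. -/
theorem card_U_inf_FF :
    Nat.card ↥(chevF4.posUnipotent K ⊓ (f4Fix K m).map (chevF4.group K).subtype) = Fintype.card K ^ 12 := by
  let f : ((Fin 4 → K × K) × (Fin 4 → K)) →
      ↥(chevF4.posUnipotent K ⊓ (f4Fix K m).map (chevF4.group K).subtype) := fun p =>
    ⟨wordG hD4 (f4FixWord (2 ^ m) p.1 p.2), Subgroup.mem_inf.mpr
      ⟨wordG_mem_U _ (f4FixWord_keys _ p.1 p.2), f4FixWord_mem_FF K m hq p.1 p.2⟩⟩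
  have hf : Function.Bijective f := by
    constructor
    · intro p p' h
      have h' : wordG hD4 (f4FixWord (2 ^ m) p.1 p.2) = wordG hD4 (f4FixWord (2 ^ m) p'.1 p'.2) :=
        congrArg Subtype.val h
      obtain ⟨h1, h2⟩ := f4FixWord_inj K (2 ^ m) _ _ _ _ h'
      exact Prod.ext h1 h2
    · rintro ⟨g, hg⟩
      obtain ⟨hU, hF⟩ := Subgroup.mem_inf.mp hg
      obtain ⟨c, s, rfl⟩ := f4_fixU K m hq g hU hF
      exact ⟨(c, s), rfl⟩
  rw [← Nat.card_congr (Equiv.ofBijective f hf), Nat.card_eq_fintype_card]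
  simp only [Fintype.card_prod, Fintype.card_fun, Fintype.card_fin]
  ring

end Main

section Card

variable {K : Type u} [Field K] [Fintype K]

/-- The hypothesis on the field, from its cardinality. -/
theorem hq_of_card {m : ℕ} (hK : Fintype.card K = 2 ^ (2 * m + 1)) : ∀ t : K, t ^ (2 * 2 ^ m * 2 ^ m) = t := by
  intro t
  have : 2 * 2 ^ m * 2 ^ m = Fintype.card K := by
    have e : 2 * m + 1 = m + m + 1 := by ring
    rw [hK, e, pow_succ, pow_add]; ring
  rw [this, FiniteField.pow_card]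

/-- The characteristic, from the cardinality. -/
theorem charP_two_of_card {m : ℕ} (hK : Fintype.card K = 2 ^ (2 * m + 1)) : CharP K 2 := by
  obtain ⟨p, hp⟩ := CharP.exists K
  have hpp : p.Prime := by
    have := hp
    exact CharP.char_is_prime K p
  have hdvd : p ∣ Fintype.card K := by
    have hp' := hp
    have := CharP.cast_eq_zero_iff K p (Fintype.card K)
    exact this.mp (by rw [Nat.cast_card_eq_zero])
  rw [hK] at hdvd
  have : p = 2 := (Nat.prime_dvd_prime_iff_eq hpp Nat.prime_two).mp (hpp.dvd_of_dvd_pow hdvd)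
  rw [← this]
  exact hp

end Card

end Cfsg.Agent.Lib.Helper91.ReeF4
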