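import Cfsg.Agent.Lib.Helper71.MargDefs

/-!
# S3620 (Marggraf), MODULE J: Jordan sets — translates, unions, blocks
(for helper71; statements exactly as in board post #2145)
-/

namespace Cfsg.Agent.Lib.Helper71.Marg

open MulAction
open scoped Pointwise

variable {G Ω : Type*} [Group G] [MulAction G Ω]

theorem IsJordan.smul {Γ : Set Ω} (h : IsJordan G Γ) (g : G) : IsJordan G (g • Γ) := by
  intro x hx y hy
  obtain ⟨a, ha, rfl⟩ := hx
  obtain ⟨b, hb, rfl⟩ := hy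
  obtain ⟨k, hk, hkab⟩ := h a ha b hb
  refine ⟨g * k * g⁻¹, ?_, ?_⟩
  · rw [mem_fixingSubgroup_compl_iff]
    intro z hz
    have hz' : g⁻¹ • z ∉ Γ := by
      intro hmem
      apply hz
      exact ⟨g⁻¹ • z, hmem, by simp⟩
    have := (mem_fixingSubgroup_compl_iff.mp hk) _ hz'
    rw [mul_smul, mul_smul, this, smul_inv_smul]
  · show (g * k * g⁻¹) • g • a = g • b
    rw [mul_smul, mul_smul, inv_smul_smul, hkab]

theorem IsJordan.union {A B : Set Ω} (hA : IsJordan G A) (hB : IsJordan G B)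
    (hAB : (A ∩ B).Nonempty) : IsJordan G (A ∪ B) := by
  obtain ⟨c, hcA, hcB⟩ := hAB
  have key : ∀ x ∈ A ∪ B, ∃ k ∈ fixingSubgroup G (A ∪ B)ᶜ, k • x = c := by
    intro x hx
    rcases hx with hx | hx
    · obtain ⟨k, hk, hkx⟩ := hA x hx c hcA
      refine ⟨k, fixingSubgroup_le_of_subset (G := G) ?_ hk, hkx⟩
      exact Set.compl_subset_compl.mpr Set.subset_union_left
    · obtain ⟨k, hk, hkx⟩ := hB x hx c hcB
      refine ⟨k, fixingSubgroup_le_of_subset (G := G) ?_ hk, hkx⟩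
      exact Set.compl_subset_compl.mpr Set.subset_union_right
  intro x hx y hy
  obtain ⟨k₁, hk₁, h₁⟩ := key x hx
  obtain ⟨k₂, hk₂, h₂⟩ := key y hy
  refine ⟨k₂⁻¹ * k₁, mul_mem (inv_mem hk₂) hk₁, ?_⟩
  rw [mul_smul, h₁, ← h₂, inv_smul_smul]

/-- A block of `F(X)` meeting a Jordan set `J` disjoint from `X` is inside `J` or contains `J`. -/
theorem IsJordan.subset_or_subset_of_isBlock {X J B : Set Ω} (hJ : IsJordan G J)
    (hJX : Disjoint J X) (hB : IsBlock (fixingSubgroup G X) B) (hBJ : (B ∩ J).Nonempty) :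
    B ⊆ J ∨ J ⊆ B := by
  by_cases hsub : B ⊆ J
  · exact Or.inl hsub
  right
  obtain ⟨x, hxB, hxJ⟩ := Set.not_subset.mp hsub
  obtain ⟨b, hbB, hbJ⟩ := hBJ
  have hle : fixingSubgroup G Jᶜ ≤ fixingSubgroup G X :=
    fixingSubgroup_le_of_subset (G := G) (fun z hz hzJ => (Set.disjoint_left.mp hJX) hzJ hz)
  intro j hj
  obtain ⟨k, hk, hkb⟩ := hJ b hbJ j hj
  have hkx : k • x = x := (mem_fixingSubgroup_compl_iff.mp hk) x hxJ
  let k' : fixingSubgroup G X := ⟨k, hle hk⟩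
  have hmeet : ¬ Disjoint (k' • B) B := by
    rw [Set.not_disjoint_iff]
    exact ⟨x, ⟨x, hxB, hkx⟩, hxB⟩
  have heq : k' • B = B := by
    rcases hB.smul_eq_or_disjoint k' with h | h
    · exact h
    · exact absurd h hmeet
  rw [← heq]
  exact ⟨b, hbB, hkb⟩

end Cfsg.Agent.Lib.Helper71.Marg
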